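import Mathlib

/-!
# Amalgams of two symmetric groups of degree four over a dihedral group of order eight in `Sym(7)`

`Amalgam z s t x y`: `⟨s,t⟩` is dihedral of order 8 with central involution `z = (st)²`, `x` and `y` have order three,
`z ↦ s ↦ zs ↦ z` under `x`, `z ↦ t ↦ zt ↦ z` under `y`, `zt` inverts `x`, `zs` inverts `y`. If the group generated by these
elements embeds in `Sym(7)` then it satisfies the relations of `A₆` or of `L₃(2)` (after replacing `x` by `x^z`).

The computations in `Sym(7)` are done with permutations coded by natural numbers in base 8.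
-/

set_option autoImplicit false

namespace Cfsg.Agent.CoOneType.LThree

open Equiv

/-- The relations of the amalgam (`s^x = x⁻¹ s x`). -/
structure Amalgam {G : Type*} [Group G] (z s t x y : G) : Prop where
  ss : s * s = 1
  tt : t * t = 1
  hz : s * t * (s * t) = z
  zz : z * z = 1
  z1 : z ≠ 1
  xxx : x * x * x = 1
  yyy : y * y * y = 1
  zx : z * x = x * s
  sx : s * x = x * (z * s)
  zy : z * y = y * t
  ty : t * y = y * (z * t)
  ix : z * t * x * (z * t) * x = 1
  iy : z * s * y * (z * s) * y = 1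

/-- The three possible conclusions: `A₆`, `L₃(2)`, `L₃(2)` with `x^z` instead of `x`. -/
def Concl {G : Type*} [Group G] (z x y : G) : Prop :=
  ((x * y) ^ 5 = 1 ∧ (x * y⁻¹) ^ 4 = 1) ∨ ((x * y) ^ 4 = 1 ∧ (x * y⁻¹) ^ 7 = 1) ∨
    ((z * x * z * y) ^ 4 = 1 ∧ (z * x * z * y⁻¹) ^ 7 = 1)

section Hom

variable {G H : Type*} [Group G] [Group H] {z s t x y : G}

theorem Amalgam.map (h : Amalgam z s t x y) (f : G →* H) (hf : Function.Injective f) :
    Amalgam (f z) (f s) (f t) (f x) (f y) where
  ss := by rw [← map_mul, h.ss, map_one]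
  tt := by rw [← map_mul, h.tt, map_one]
  hz := by rw [← map_mul, ← map_mul, h.hz]
  zz := by rw [← map_mul, h.zz, map_one]
  z1 := fun e => h.z1 (hf (by rw [e, map_one]))
  xxx := by rw [← map_mul, ← map_mul, h.xxx, map_one]
  yyy := by rw [← map_mul, ← map_mul, h.yyy, map_one]
  zx := by rw [← map_mul, h.zx, map_mul]
  sx := by rw [← map_mul, h.sx, map_mul, map_mul]
  zy := by rw [← map_mul, h.zy, map_mul]
  ty := by rw [← map_mul, h.ty, map_mul, map_mul]
  ix := by simp only [← map_mul]; rw [h.ix, map_one]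
  iy := by simp only [← map_mul]; rw [h.iy, map_one]

theorem Concl.of_map {f : G →* H} (hf : Function.Injective f) (h : Concl (f z) (f x) (f y)) : Concl z x y := by
  have key : ∀ (a : G) (n : ℕ), (f a) ^ n = 1 → a ^ n = 1 := fun a n e =>
    hf (by rw [map_pow, e, map_one])
  unfold Concl at h ⊢
  simp only [← map_mul, ← map_inv] at h
  rcases h with ⟨h1, h2⟩ | ⟨h1, h2⟩ | ⟨h1, h2⟩
  · exact Or.inl ⟨key _ _ h1, key _ _ h2⟩
  · exact Or.inr (Or.inl ⟨key _ _ h1, key _ _ h2⟩)
  · exact Or.inr (Or.inr ⟨key _ _ h1, key _ _ h2⟩)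

end Hom

/-! ### Codes of permutations -/

/-- The code of a permutation of seven points: the digits in base 8. -/
def code (x : Perm (Fin 7)) : ℕ :=
  (x 0).val + 8 * (x 1).val + 64 * (x 2).val + 512 * (x 3).val + 4096 * (x 4).val + 32768 * (x 5).val +
    262144 * (x 6).val

theorem dig (x : Perm (Fin 7)) (j : Fin 7) : code x / 8 ^ (j : ℕ) % 8 = (x j).val := by
  have h0 := (x 0).isLt
  have h1 := (x 1).isLt
  have h2 := (x 2).isLt
  have h3 := (x 3).isLt
  have h4 := (x 4).isLt
  have h5 := (x 5).isLt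
  have h6 := (x 6).isLt
  unfold code
  fin_cases j <;> simp <;> omega

theorem code_inj {x y : Perm (Fin 7)} (h : code x = code y) : x = y := by
  apply Equiv.ext
  intro j
  apply Fin.ext
  rw [← dig, ← dig, h]

/-- Composition of codes. -/
def cmp (a b : ℕ) : ℕ :=
  a / 8 ^ (b % 8) % 8 + 8 * (a / 8 ^ (b / 8 % 8) % 8) + 64 * (a / 8 ^ (b / 64 % 8) % 8) +
    512 * (a / 8 ^ (b / 512 % 8) % 8) + 4096 * (a / 8 ^ (b / 4096 % 8) % 8) +
    32768 * (a / 8 ^ (b / 32768 % 8) % 8) + 262144 * (a / 8 ^ (b / 262144 % 8) % 8)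

theorem code_mul (x y : Perm (Fin 7)) : code (x * y) = cmp (code x) (code y) := by
  have d0 : code y % 8 = (y 0).val := by simpa using dig y 0
  have d1 : code y / 8 % 8 = (y 1).val := by simpa using dig y 1
  have d2 : code y / 64 % 8 = (y 2).val := by simpa using dig y 2
  have d3 : code y / 512 % 8 = (y 3).val := by simpa using dig y 3
  have d4 : code y / 4096 % 8 = (y 4).val := by simpa using dig y 4
  have d5 : code y / 32768 % 8 = (y 5).val := by simpa using dig y 5
  have d6 : code y / 262144 % 8 = (y 6).val := by simpa using dig y 6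
  unfold cmp
  rw [d0, d1, d2, d3, d4, d5, d6]
  simp only [dig]
  rfl

/-- Forces the evaluation of a number. -/
def force (n : ℕ) (f : ℕ → Bool) : Bool :=
  match n with
  | 0 => f 0
  | m + 1 => f (m + 1)

theorem force_eq (n : ℕ) (f : ℕ → Bool) : force n f = f n := by cases n <;> rfl

/-- `(01)(23)` -/
def z7 : Perm (Fin 7) := swap 0 1 * swap 2 3

theorem code_z7 : code z7 = 1754305 := by decide

theorem code_one : code 1 = 1754760 := by decide

/-- The condition on `x`. -/
def condX (x : ℕ) : Bool :=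
  force x fun x => force (cmp x x) fun xx => cmp xx x == 1754760 &&
    force (cmp xx (cmp 1754305 x)) fun s => cmp s 1754305 == cmp 1754305 s && !(s == 1754305) &&
      cmp s x == cmp x (cmp 1754305 s)

/-- The solutions. -/
def XL : List ℕ :=
  [52122, 52563, 170394, 171283, 281491, 281946, 428435, 429338, 639093, 639534, 700532, 700966,
   868462, 868917, 958566, 959028, 1265817, 1265866, 1266307, 1266384, 1266699, 1266776, 1267217, 1267266,
   1466521, 1466570, 1467011, 1467088, 1467403, 1467480, 1467921, 1467970, 1579354, 1579795, 1608019, 1608474,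
   1650796, 1651237, 1679461, 1679916, 1753241, 1753290, 1753731, 1753808, 1754123, 1754200, 1754641, 1754690]

/-- Search through the codes of all the permutations. -/
def go (P : ℕ → Bool) : ℕ → ℕ → ℕ → ℕ → Bool
  | 0, c, _, _ => P c
  | k + 1, c, w, m => (List.range 7).all fun d => Nat.testBit m d ||
      force (c + d * w) fun c' => go P k c' (8 * w) (m ||| 2 ^ d)

/-- The value of a list of digits. -/
def val : ℕ → List ℕ → ℕ
  | _, [] => 0
  | w, d :: l => d * w + val (8 * w) l

theorem go_sound (P : ℕ → Bool) : ∀ (l : List ℕ) (c w m : ℕ), (∀ d ∈ l, d < 7 ∧ Nat.testBit m d = false) →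
    l.Nodup → go P l.length c w m = true → P (c + val w l) = true := by
  intro l
  induction l with
  | nil => intro c w m _ _ h; exact h
  | cons d l ih =>
    intro c w m h hn hg
    have hd := h d (List.mem_cons_self)
    rw [List.length_cons] at hg
    unfold go at hg
    rw [List.all_eq_true] at hg
    have h1 := hg d (List.mem_range.2 hd.1)
    rw [hd.2, Bool.false_or, force_eq] at h1
    have hn' := List.nodup_cons.1 hn
    have h2 := ih (c + d * w) (8 * w) (m ||| 2 ^ d) (fun d' hd' => by
      refine ⟨(h d' (List.mem_cons_of_mem _ hd')).1, ?_⟩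
      rw [Nat.testBit_or, (h d' (List.mem_cons_of_mem _ hd')).2, Bool.false_or, Nat.testBit_two_pow]
      have : d ≠ d' := fun e => hn'.1 (e ▸ hd')
      simp [this]) hn'.2 h1
    rw [val, ← add_assoc]
    exact h2

theorem all_perm (P : ℕ → Bool) (h : go P 7 0 1 0 = true) (x : Perm (Fin 7)) : P (code x) = true := by
  have h1 := go_sound P (List.ofFn fun i : Fin 7 => (x i).val) 0 1 0 (by
    intro d hd
    obtain ⟨i, rfl⟩ := List.mem_ofFn.1 hd
    exact ⟨(x i).isLt, Nat.zero_testBit _⟩) (by
    rw [List.nodup_ofFn]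
    intro i j hij
    exact x.injective (Fin.ext hij)) (by rwa [List.length_ofFn])
  have h2 : 0 + val 1 (List.ofFn fun i : Fin 7 => (x i).val) = code x := by
    simp only [List.ofFn_succ, List.ofFn_zero, val, code]
    simp
    ring
  rwa [h2] at h1

theorem condX_all : go (fun c => !condX c || XL.contains c) 7 0 1 0 = true := by
  decide +kernel

theorem mem_XL {x : Perm (Fin 7)} (h : condX (code x) = true) : code x ∈ XL := by
  have h1 := all_perm _ condX_all x
  rw [h] at h1
  simpa using h1

/-- The mixed conditions. -/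
def condXY (x y : ℕ) : Bool :=
  force (cmp (cmp x x) (cmp 1754305 x)) fun s => force (cmp (cmp y y) (cmp 1754305 y)) fun t =>
    force (cmp s t) fun st => cmp st st == 1754305 && cmp s s == 1754760 && cmp t t == 1754760 &&
      (force (cmp (cmp 1754305 t) x) fun w => cmp w w == 1754760) &&
      force (cmp (cmp 1754305 s) y) fun w => cmp w w == 1754760

/-- `a⁵ = 1` -/
def is5 (a : ℕ) : Bool := force (cmp a a) fun b => cmp (cmp b b) a == 1754760
/-- `a⁴ = 1` -/
def is4 (a : ℕ) : Bool := force (cmp a a) fun b => cmp b b == 1754760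
/-- `a⁷ = 1` -/
def is7 (a : ℕ) : Bool := force (cmp a a) fun b => cmp (cmp (cmp b b) b) a == 1754760

/-- The conclusion. -/
def concl7 (x y : ℕ) : Bool :=
  force (cmp x y) fun u => force (cmp x (cmp y y)) fun v =>
    (is5 u && is4 v) || (is4 u && is7 v) ||
      force (cmp (cmp 1754305 x) 1754305) fun w => force (cmp w y) fun u' =>
        force (cmp w (cmp y y)) fun v' => is4 u' && is7 v'

set_option maxRecDepth 100000 in
theorem condXY_all : ∀ x ∈ XL, ∀ y ∈ XL, condXY x y = true → concl7 x y = true := by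
  decide +kernel

theorem code_eq_one {x : Perm (Fin 7)} (h : code x = 1754760) : x = 1 := code_inj (h.trans code_one.symm)

theorem is5_spec {a : Perm (Fin 7)} (h : is5 (code a) = true) : a ^ 5 = 1 := by
  unfold is5 at h
  rw [force_eq, beq_iff_eq, ← code_mul, ← code_mul, ← code_mul] at h
  rw [← code_eq_one h]
  simp only [pow_succ, pow_zero, one_mul, mul_assoc]

theorem is4_spec {a : Perm (Fin 7)} (h : is4 (code a) = true) : a ^ 4 = 1 := by
  unfold is4 at h
  rw [force_eq, beq_iff_eq, ← code_mul, ← code_mul] at h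
  rw [← code_eq_one h]
  simp only [pow_succ, pow_zero, one_mul, mul_assoc]

theorem is7_spec {a : Perm (Fin 7)} (h : is7 (code a) = true) : a ^ 7 = 1 := by
  unfold is7 at h
  rw [force_eq, beq_iff_eq, ← code_mul, ← code_mul, ← code_mul, ← code_mul] at h
  rw [← code_eq_one h]
  simp only [pow_succ, pow_zero, one_mul, mul_assoc]

theorem inv_of_cube {G : Type*} [Group G] {x : G} (h : x * x * x = 1) : x⁻¹ = x * x :=
  inv_eq_of_mul_eq_one_left h

theorem condX_of {s x : Perm (Fin 7)} (hx : x * x * x = 1) (h1 : z7 * x = x * s) (h2 : s * x = x * (z7 * s))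
    (h3 : s * z7 = z7 * s) (h4 : s ≠ z7) : condX (code x) = true := by
  have hs : x * x * (z7 * x) = s := by rw [h1, ← mul_assoc, hx, one_mul]
  unfold condX
  simp only [force_eq, ← code_mul, ← code_z7, hx, hs, Bool.and_eq_true, beq_iff_eq, Bool.not_eq_true',
    beq_eq_false_iff_ne, code_one, h3, h2]
  exact ⟨trivial, ⟨trivial, fun e => h4 (code_inj e)⟩, trivial⟩

section Group

variable {G : Type*} [Group G] {z s t x y : G}

theorem Amalgam.comm (h : Amalgam z s t x y) : s * z = z * s ∧ t * z = z * t := by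
  have hst : (s * t)⁻¹ = t * s := by
    rw [mul_inv_rev, inv_eq_of_mul_eq_one_left h.ss, inv_eq_of_mul_eq_one_left h.tt]
  have hz' : t * s * (t * s) = z := by
    rw [← hst, ← mul_inv_rev, h.hz]
    exact inv_eq_of_mul_eq_one_left h.zz
  constructor
  · conv_lhs => rw [← hz']
    conv_rhs => rw [← h.hz]
    simp only [mul_assoc]
  · conv_lhs => rw [← h.hz]
    conv_rhs => rw [← hz']
    simp only [mul_assoc]

theorem Amalgam.s_ne_z (h : Amalgam z s t x y) : s ≠ z := by
  intro e
  have h1 := h.sx
  rw [e, h.zz, mul_one] at h1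
  exact h.z1 (mul_eq_right.1 h1)

theorem Amalgam.t_ne_z (h : Amalgam z s t x y) : t ≠ z := by
  intro e
  have h1 := h.ty
  rw [e, h.zz, mul_one] at h1
  exact h.z1 (mul_eq_right.1 h1)

end Group

theorem concl_of {s t x y : Perm (Fin 7)} (h : Amalgam z7 s t x y) : Concl z7 x y := by
  have hx := mem_XL (condX_of h.xxx h.zx h.sx h.comm.1 h.s_ne_z)
  have hy := mem_XL (condX_of h.yyy h.zy h.ty h.comm.2 h.t_ne_z)
  have hs : x * x * (z7 * x) = s := by rw [h.zx, ← mul_assoc, h.xxx, one_mul]
  have ht : y * y * (z7 * y) = t := by rw [h.zy, ← mul_assoc, h.yyy, one_mul]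
  have hc : condXY (code x) (code y) = true := by
    unfold condXY
    simp only [force_eq, ← code_mul, ← code_z7, hs, ht, Bool.and_eq_true, beq_iff_eq, ← code_one]
    refine ⟨⟨⟨⟨?_, ?_⟩, ?_⟩, ?_⟩, ?_⟩
    · rw [h.hz]
    · rw [h.ss]
    · rw [h.tt]
    · rw [← mul_assoc, h.ix]
    · rw [← mul_assoc, h.iy]
  have h1 := condXY_all _ hx _ hy hc
  have hyi : y⁻¹ = y * y := inv_of_cube h.yyy
  unfold concl7 at h1
  simp only [force_eq, ← code_mul, ← code_z7, Bool.or_eq_true, Bool.and_eq_true] at h1
  unfold Concl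
  rw [hyi]
  rcases h1 with (⟨h1, h2⟩ | ⟨h1, h2⟩) | ⟨h1, h2⟩
  · exact Or.inl ⟨is5_spec h1, is4_spec h2⟩
  · exact Or.inr (Or.inl ⟨is4_spec h1, is7_spec h2⟩)
  · exact Or.inr (Or.inr ⟨is4_spec h1, is7_spec h2⟩)

/-! ### Reduction to `z = (01)(23)` -/

theorem cycleType_of (z : Perm (Fin 7)) (h1 : z * z = 1) (h2 : z ≠ 1) (h3 : Perm.sign z = 1) :
    z.cycleType = Multiset.replicate 2 2 := by
  have ho : orderOf z = 2 := orderOf_eq_prime (by rw [pow_two, h1]) h2
  obtain ⟨n, hn⟩ := Perm.cycleType_prime_order (σ := z) (by rw [ho]; exact Nat.prime_two)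
  rw [ho] at hn
  have hs := Perm.sign_of_cycleType z
  rw [h3, hn, Multiset.sum_replicate, Multiset.card_replicate] at hs
  have hle := Perm.sum_cycleType_le z
  rw [hn, Multiset.sum_replicate, Fintype.card_fin, smul_eq_mul] at hle
  have : n ≤ 2 := by omega
  interval_cases n
  · exact absurd hs (by decide)
  · exact hn
  · exact absurd hs (by decide)

theorem concl_perm {z s t x y : Perm (Fin 7)} (h : Amalgam z s t x y) : Concl z x y := by
  have hsz : Perm.sign z = 1 := by
    rw [← h.hz, map_mul]
    exact Int.units_mul_self _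
  have hc : IsConj z z7 := by
    rw [Perm.isConj_iff_cycleType_eq, cycleType_of z h.zz h.z1 hsz, cycleType_of z7 (by decide) (by decide) (by decide)]
  obtain ⟨g, hg⟩ := isConj_iff.1 hc
  have hinj : Function.Injective (MulAut.conj g).toMonoidHom := (MulAut.conj g).injective
  have h1 := h.map (MulAut.conj g).toMonoidHom hinj
  have hz : (MulAut.conj g).toMonoidHom z = z7 := by
    show g * z * g⁻¹ = z7
    exact hg
  have h2 : Concl ((MulAut.conj g).toMonoidHom z) ((MulAut.conj g).toMonoidHom x)
      ((MulAut.conj g).toMonoidHom y) := by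
    rw [hz] at h1 ⊢
    exact concl_of h1
  exact Concl.of_map hinj h2

/-- The relations of `A₆` or `L₃(2)` in any group embedding in `Sym(7)`. -/
theorem concl_of_hom {G : Type*} [Group G] {z s t x y : G} (h : Amalgam z s t x y) (f : G →* Perm (Fin 7))
    (hf : Function.Injective f) : Concl z x y :=
  Concl.of_map hf (concl_perm (h.map f hf))

end Cfsg.Agent.CoOneType.LThree
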