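import Cfsg.Agent.CoOneType.AuxCertData

set_option autoImplicit false
set_option maxRecDepth 100000

namespace Cfsg.Agent.CoOneType.AuxCertChk0

open Cfsg.Agent.SporadicRecognition.CosetCert Cfsg.Agent.Lib.CosetPartial Cfsg.Agent.CoOneType.AuxCertData

theorem c0 : PartP C 0 64 := runP_sound C (by decide +kernel : runP C 11 2047 0x200000000000000000020000092980000260c00000000000000010000080100000000000002004000000010000000000000400800002000000001d3002008d180000000000000002008010020000000080000000800213000000000000020000000000200000000000000010000000080100000000000001000000000e30000000000200000000800002000000020000080000200200800000000008918000000088180000000000001000000b18020000080000200000800801000000000000009cc000020040000000000000000802004000000000040000100000000400000000000000000000040100100400000000000000010020040040000000024c000000040000000200200000000000000000010000000100000000000000004000000010000000000000000000802000000000000000000000200200000000000000000010c60000100000000000000004000000010000000000000000001000000004000000000040000000000000002000000010000000000000000200000000000004000000040000000000000001000000004000000000040003300000000002000000010000000000000000200000000000004010000040000000000068c00193002000000020000007180000000800800004008008020000000000000400000002000000000000000040000200000000000000008000000020000080000000800000004000000020000000080000008c0100000000001002000000010010000000000000000000001004000000000040000000000400400000000008010000000040100000020c00983000000010026860043980200400000002004000010630000040000000400800000000008010000003cc008020000000000200000000802004000000000000000000200258c010006660080080000400800800000000000000040080980200000000000000004010030000000000000000801000002000000000000000000000200800000000000000000000080080000000000000000000008020000082980000000459802004004898430000000100200400001002066000000000020080000200400801000004000010c3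 10 1023 0 0 64 = true)

theorem c1 : PartP C 64 128 := runP_sound C (by decide +kernel : runP C 11 2047 0x1306000000006060080080048600000000000000000000000000000000000800801000000000000000000000000094c0000100000000000004004000000000000000000000001000000000000000000040980000000000000000001518012e60080000000200000000026004000000000000000000000159ac3000008008000000000000100000000002000000000000020080024300088c00000004004010000000000000000404c003b300000000800000001e180100000000000000000000022e644c0000000400000001000000008000000000000200000000002000004000000000000000200000000000002000000003e6008000000000000080000000800000000004000002860000000000000000000000004010a3000000000000000013180100078c000000000040000046600801000386000498002860040000000000400000000a0de98000000000000000000169801000000000010000000000000400001000000dcc00000002008000e30000000000000074c00800000000008000000000000200000000002000000000010000080100000000400000000000000000000040000000000981800000000008000000000000200000000002000000000020020080000000400400000266008000000000017180000000401000004000010000000018980100000000000000000000016a600071800000000000000040040100000000000800000c8c00000004000008000000000000200244c000005260000000200000b0a00000200000000000000008000000000000000050c000000020000000200000000000406000000010000000000200000071800386000000000026cc0100000000000000000004098a300000000000000000008020000000000000000400000000000008000000000000000000001103000000000020020086180200000000000000000008d3000004000000000000100000028c000000000000000000200800000000004000000004cc00001000000000000000000000000400000001000000000000000080080000000800000000000b980200000000800000000000a32260000100000000000813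 10 1023 0xe180000000000000000000000000000000000000558000000000000000000000000000003660000000000 64 64 = true)

theorem c2 : PartP C 128 133 := runP_sound C (by decide +kernel : runP C 11 2047 0x1000000000000000000000200068c000007260000000200200000000000000000005460040000000000000000000008008000000000000100000151af3 10 1023 0x3a600000 128 5 = true)

theorem all : PartP C 0 133 := ((c0).append C c1).append C c2

end Cfsg.Agent.CoOneType.AuxCertChk0
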