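import Mathlib
import Cfsg.Agent.LargeExtra.GPin

/-!
# Signs of an action of `A₈`

`A₈` acts on an explicit extraspecial group in such a way that, up to the central involution, the elements `tt i`
(`i : Fin 8`) are mapped to `tt (σ i) (tt (σ 7))⁻¹`.  Then signs can be chosen such that this holds exactly.
-/

set_option autoImplicit false

namespace Cfsg.Agent.CoOneType.CanonModel

open Cfsg.Agent.LargeExtra.Model Cfsg.Agent.LargeExtra.Pres

section Alt

theorem three_trans {a b c a' b' c' : Fin 8} (h1 : a ≠ b) (h2 : a ≠ c) (h3 : b ≠ c)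
    (h1' : a' ≠ b') (h2' : a' ≠ c') (h3' : b' ≠ c') :
    ∃ σ : alternatingGroup (Fin 8), (σ : Equiv.Perm (Fin 8)) a = a' ∧
      (σ : Equiv.Perm (Fin 8)) b = b' ∧ (σ : Equiv.Perm (Fin 8)) c = c' := by
  have h := alternatingGroup.isMultiplyPretransitive (Fin 8)
  have h8 : Nat.card (Fin 8) = 8 := Nat.card_fin 8
  have ht : MulAction.IsMultiplyPretransitive (alternatingGroup (Fin 8)) (Fin 8) 3 :=
    MulAction.isMultiplyPretransitive_of_le (n := Nat.card (Fin 8) - 2) (by rw [h8]; norm_num)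
      (Nat.sub_le _ _)
  have hinj : ∀ {a b c : Fin 8}, a ≠ b → a ≠ c → b ≠ c → Function.Injective ![a, b, c] := by
    intro a b c h1 h2 h3 i j hij
    fin_cases i <;> fin_cases j <;> simp_all
  obtain ⟨σ, hσ⟩ := (MulAction.isMultiplyPretransitive_iff).mp ht ⟨![a, b, c], hinj h1 h2 h3⟩
    ⟨![a', b', c'], hinj h1' h2' h3'⟩
  have h4 := fun i => DFunLike.congr_fun hσ i
  exact ⟨σ, h4 0, h4 1, h4 2⟩

theorem exists_third (a b : Fin 8) : ∃ c, c ≠ a ∧ c ≠ b := by
  revert a b; decide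

theorem two_trans {a b a' b' : Fin 8} (h1 : a ≠ b) (h1' : a' ≠ b') :
    ∃ σ : alternatingGroup (Fin 8), (σ : Equiv.Perm (Fin 8)) a = a' ∧
      (σ : Equiv.Perm (Fin 8)) b = b' := by
  obtain ⟨c, hc1, hc2⟩ := exists_third a b
  obtain ⟨c', hc1', hc2'⟩ := exists_third a' b'
  obtain ⟨σ, h2, h3, -⟩ := three_trans h1 hc1.symm hc2.symm h1' hc1'.symm hc2'.symm
  exact ⟨σ, h2, h3⟩

/-- The stabilizer of two points is generated by elements of order three. -/
theorem stab_le (K : Subgroup (alternatingGroup (Fin 8)))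
    (hK : ∀ σ : alternatingGroup (Fin 8), (σ : Equiv.Perm (Fin 8)) 6 = 6 →
      (σ : Equiv.Perm (Fin 8)) 7 = 7 → σ ^ 3 = 1 → σ ∈ K)
    (σ : alternatingGroup (Fin 8)) (h6 : (σ : Equiv.Perm (Fin 8)) 6 = 6)
    (h7 : (σ : Equiv.Perm (Fin 8)) 7 = 7) : σ ∈ K := by
  classical
  let p : Fin 8 → Prop := fun x => x ≠ 6 ∧ x ≠ 7
  let M : Subgroup (Equiv.Perm {x // p x}) :=
    (K.map (alternatingGroup (Fin 8)).subtype).comap Equiv.Perm.ofSubtype
  have hfix : ∀ (τ : Equiv.Perm {x // p x}) (x : Fin 8), ¬ p x → Equiv.Perm.ofSubtype τ x = x :=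
    fun τ x hx => Equiv.Perm.ofSubtype_apply_of_not_mem τ hx
  have hM : alternatingGroup {x // p x} ≤ M := by
    rw [← Equiv.Perm.closure_three_cycles_eq_alternating, Subgroup.closure_le]
    intro τ hτ
    have hsign : Equiv.Perm.ofSubtype τ ∈ alternatingGroup (Fin 8) := by
      rw [Equiv.Perm.mem_alternatingGroup, Equiv.Perm.sign_ofSubtype]
      exact hτ.sign
    refine ⟨⟨Equiv.Perm.ofSubtype τ, hsign⟩, hK _ (hfix τ 6 (fun h => h.1 rfl))
      (hfix τ 7 (fun h => h.2 rfl)) ?_, rfl⟩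
    apply Subtype.ext
    show (Equiv.Perm.ofSubtype τ) ^ 3 = 1
    rw [← map_pow, ← hτ.orderOf, pow_orderOf_eq_one, map_one]
  have hp : ∀ x, p x ↔ p ((σ : Equiv.Perm (Fin 8)) x) := by
    intro x
    have e6 : (σ : Equiv.Perm (Fin 8)) x = 6 ↔ x = 6 := by
      constructor
      · intro h; exact (σ : Equiv.Perm (Fin 8)).injective (h.trans h6.symm)
      · rintro rfl; exact h6
    have e7 : (σ : Equiv.Perm (Fin 8)) x = 7 ↔ x = 7 := by
      constructor
      · intro h; exact (σ : Equiv.Perm (Fin 8)).injective (h.trans h7.symm)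
      · rintro rfl; exact h7
    show (x ≠ 6 ∧ x ≠ 7) ↔ ((σ : Equiv.Perm (Fin 8)) x ≠ 6 ∧ (σ : Equiv.Perm (Fin 8)) x ≠ 7)
    rw [Ne, Ne, Ne, Ne, e6, e7]
  have hsub : Equiv.Perm.ofSubtype ((σ : Equiv.Perm (Fin 8)).subtypePerm fun x => (hp x).symm) =
      (σ : Equiv.Perm (Fin 8)) := by
    apply Equiv.Perm.ofSubtype_subtypePerm
    intro x hx
    refine ⟨?_, ?_⟩
    · rintro rfl; exact hx h6
    · rintro rfl; exact hx h7
  have hmem : (σ : Equiv.Perm (Fin 8)).subtypePerm (fun x => (hp x).symm) ∈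
      alternatingGroup {x // p x} := by
    rw [Equiv.Perm.mem_alternatingGroup, ← Equiv.Perm.sign_ofSubtype, hsub]
    exact σ.2
  obtain ⟨σ', h1, h2⟩ := hM hmem
  have h3 : (σ' : Equiv.Perm (Fin 8)) = σ := h2.trans hsub
  have h4 : σ' = σ := Subtype.ext h3
  rwa [← h4]

end Alt

section Signs

variable {B : ℕ → ℕ} {n : ℕ}

theorem eq_or_of_v {x y : XG B n} (h : x.v.1 = y.v.1) : x = y ∨ x = zz * y := by
  by_cases hs : x.s = y.s
  · left; exact XG.ext' h hs
  · right
    apply XG.ext'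
    · rw [mul_v, zz_v, Nat.zero_xor, h]
    · rw [mul_s, zz_s, zz_v, bf_zero_left]
      revert hs
      cases x.s <;> cases y.s <;> simp

theorem v_zz_mul (x : XG B n) : (zz * x).v.1 = x.v.1 := by
  rw [mul_v, zz_v, Nat.zero_xor]

theorem zz_mul_cancel (x : XG B n) : zz * (zz * x) = x := by
  rw [← mul_assoc, zz_mul_zz, one_mul]

theorem zz_mul_ne (x : XG B n) : zz * x ≠ x := fun h => zz_ne (mul_eq_right.mp h)

theorem v_inv (x : XG B n) : (x⁻¹).v.1 = x.v.1 := rfl

/-- **Signs.** -/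
theorem exists_signs (hN : Nondeg B n) (β : alternatingGroup (Fin 8) →* MulAut (XG B n))
    (tt : Fin 8 → XG B n)
    (h : ∀ (σ : alternatingGroup (Fin 8)) i, (β σ (tt i)).v.1 =
      (tt ((σ : Equiv.Perm (Fin 8)) i) * (tt ((σ : Equiv.Perm (Fin 8)) 7))⁻¹).v.1) :
    ∃ c : Fin 8 → XG B n, c 7 = 1 ∧ (∀ i, i ≠ 7 → (c i).v.1 = (tt i * (tt 7)⁻¹).v.1) ∧
      ∀ (σ : alternatingGroup (Fin 8)) i, β σ (c i) =
        c ((σ : Equiv.Perm (Fin 8)) i) * (c ((σ : Equiv.Perm (Fin 8)) 7))⁻¹ := by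
  classical
  have hz : ∀ σ, β σ zz = zz := fun σ => aut_zz hN _
  -- the class of pairs
  have hv : ∀ (σ : alternatingGroup (Fin 8)) i j (x : XG B n), x.v.1 = (tt i * (tt j)⁻¹).v.1 →
      (β σ x).v.1 = (tt ((σ : Equiv.Perm (Fin 8)) i) * (tt ((σ : Equiv.Perm (Fin 8)) j))⁻¹).v.1 := by
    intro σ i j x hx
    have h1 : (β σ x).v.1 = (β σ (tt i * (tt j)⁻¹)).v.1 := by
      rcases eq_or_of_v hx with h2 | h2
      · rw [h2]
      · rw [h2, map_mul, hz, v_zz_mul]
    rw [h1, map_mul, map_inv, mul_v, v_inv, h, h, mul_v, mul_v, mul_v, v_inv, v_inv]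
    generalize (tt ((σ : Equiv.Perm (Fin 8)) i)).v.1 = a
    generalize (tt ((σ : Equiv.Perm (Fin 8)) j)).v.1 = b
    generalize (tt ((σ : Equiv.Perm (Fin 8)) 7)).v.1 = c
    rw [Nat.xor_assoc, ← Nat.xor_assoc c, Nat.xor_comm c b, Nat.xor_assoc b, Nat.xor_self,
      Nat.xor_zero]
  -- the base element
  obtain ⟨u, hu⟩ : ∃ u, u = tt 6 * (tt 7)⁻¹ := ⟨_, rfl⟩
  have hfix : ∀ σ : alternatingGroup (Fin 8), (σ : Equiv.Perm (Fin 8)) 6 = 6 →
      (σ : Equiv.Perm (Fin 8)) 7 = 7 → β σ u = u := by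
    intro σ h6 h7
    refine stab_le ((MulAction.stabilizer (MulAut (XG B n)) u).comap β) ?_ σ h6 h7
    intro τ h6 h7 h3
    show β τ u = u
    have h1 := hv τ 6 7 u (by rw [hu])
    rw [h6, h7, ← hu] at h1
    rcases eq_or_of_v h1 with h2 | h2
    · exact h2
    · exfalso
      have h4 : (β τ ^ 3) u = u := by rw [← map_pow, h3, map_one]; rfl
      have h5 : (β τ ^ 3) u = zz * (zz * (zz * u)) := by
        show β τ (β τ (β τ u)) = _
        rw [h2, map_mul, hz, h2, map_mul, map_mul, hz, h2]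
      rw [h5, zz_mul_cancel] at h4
      exact zz_mul_ne u h4
  -- the elements `t i j`
  have hch : ∀ i j : Fin 8, ∃ x : XG B n, i ≠ j → ∀ σ : alternatingGroup (Fin 8),
      (σ : Equiv.Perm (Fin 8)) 6 = i → (σ : Equiv.Perm (Fin 8)) 7 = j → β σ u = x := by
    intro i j
    by_cases hij : i = j
    · exact ⟨1, fun h' => absurd hij h'⟩
    · obtain ⟨τ, hτ6, hτ7⟩ := two_trans (a := 6) (b := 7) (by decide) hij
      refine ⟨β τ u, fun _ σ h6 h7 => ?_⟩
      have h1 := hfix (τ⁻¹ * σ) (by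
        show (τ : Equiv.Perm (Fin 8))⁻¹ ((σ : Equiv.Perm (Fin 8)) 6) = 6
        rw [h6, Equiv.Perm.inv_eq_iff_eq, hτ6]) (by
        show (τ : Equiv.Perm (Fin 8))⁻¹ ((σ : Equiv.Perm (Fin 8)) 7) = 7
        rw [h7, Equiv.Perm.inv_eq_iff_eq, hτ7])
      have h2 : β σ u = β τ (β (τ⁻¹ * σ) u) := by
        rw [map_mul, map_inv]
        show β σ u = β τ ((β τ)⁻¹ (β σ u))
        rw [MulAut.apply_inv_self]
      rw [h2, h1]
  choose t ht using hch
  have ht' : ∀ i j, i ≠ j → ∃ σ : alternatingGroup (Fin 8), (σ : Equiv.Perm (Fin 8)) 6 = i ∧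
      (σ : Equiv.Perm (Fin 8)) 7 = j ∧ β σ u = t i j := by
    intro i j hij
    obtain ⟨τ, hτ6, hτ7⟩ := two_trans (a := 6) (b := 7) (by decide) hij
    exact ⟨τ, hτ6, hτ7, ht i j hij τ hτ6 hτ7⟩
  have htv : ∀ i j, i ≠ j → (t i j).v.1 = (tt i * (tt j)⁻¹).v.1 := by
    intro i j hij
    obtain ⟨τ, h6, h7, h8⟩ := ht' i j hij
    rw [← h8, hv τ 6 7 u (by rw [hu]), h6, h7]
  have hact : ∀ (σ : alternatingGroup (Fin 8)) i j, i ≠ j →
      β σ (t i j) = t ((σ : Equiv.Perm (Fin 8)) i) ((σ : Equiv.Perm (Fin 8)) j) := by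
    intro σ i j hij
    obtain ⟨τ, h6, h7, h8⟩ := ht' i j hij
    rw [← h8]
    have h9 := ht ((σ : Equiv.Perm (Fin 8)) i) ((σ : Equiv.Perm (Fin 8)) j)
      (fun h' => hij ((σ : Equiv.Perm (Fin 8)).injective h')) (σ * τ)
      (by show (σ : Equiv.Perm (Fin 8)) ((τ : Equiv.Perm (Fin 8)) 6) = _; rw [h6])
      (by show (σ : Equiv.Perm (Fin 8)) ((τ : Equiv.Perm (Fin 8)) 7) = _; rw [h7])
    rw [map_mul] at h9
    exact h9
  -- triple products
  have htrip : ∀ i j k, i ≠ j → j ≠ k → i ≠ k → (t i j * t j k = t i k ∨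
      t i j * t j k = zz * t i k) := by
    intro i j k hij hjk hik
    apply eq_or_of_v
    rw [mul_v, htv i j hij, htv j k hjk, htv i k hik, mul_v, mul_v, mul_v, v_inv, v_inv]
    rw [Nat.xor_assoc, ← Nat.xor_assoc (tt j).v.1, Nat.xor_self, Nat.zero_xor]
  obtain ⟨e, he, hee, hez⟩ : ∃ e : XG B n, (e * e = 1) ∧ (∀ x, e * x = x * e) ∧
      ∀ i j k, i ≠ j → j ≠ k → i ≠ k → t i j * t j k = e * t i k := by
    rcases htrip 0 1 2 (by decide) (by decide) (by decide) with h0 | h0
    · refine ⟨1, by simp, by simp, fun i j k hij hjk hik => ?_⟩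
      obtain ⟨σ, h1, h2, h3⟩ := three_trans (a := 0) (b := 1) (c := 2) (by decide) (by decide)
        (by decide) hij hik hjk
      have h4 := congrArg (β σ) h0
      rw [map_mul, hact σ 0 1 (by decide), hact σ 1 2 (by decide), hact σ 0 2 (by decide), h1, h2,
        h3] at h4
      rw [one_mul, h4]
    · refine ⟨zz, zz_mul_zz, fun x => (zz_comm x).symm, fun i j k hij hjk hik => ?_⟩
      obtain ⟨σ, h1, h2, h3⟩ := three_trans (a := 0) (b := 1) (c := 2) (by decide) (by decide)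
        (by decide) hij hik hjk
      have h4 := congrArg (β σ) h0
      rw [map_mul, map_mul, hz, hact σ 0 1 (by decide), hact σ 1 2 (by decide),
        hact σ 0 2 (by decide), h1, h2, h3] at h4
      exact h4
  -- antisymmetry
  have hd : ∀ i j, i ≠ j → t i j * t j i = 1 ∨ t i j * t j i = zz := by
    intro i j hij
    have h1 : (t i j * t j i).v.1 = (1 : XG B n).v.1 := by
      rw [mul_v, htv i j hij, htv j i hij.symm, mul_v, mul_v, v_inv, v_inv, one_v,
        Nat.xor_comm (tt j).v.1, Nat.xor_self]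
    rcases eq_or_of_v h1 with h2 | h2
    · exact Or.inl h2
    · right; rw [h2, mul_one]
  have hdc : ∀ i j, i ≠ j → ∀ x, (t i j * t j i) * x = x * (t i j * t j i) := by
    intro i j hij x
    rcases hd i j hij with h1 | h1
    · rw [h1, one_mul, mul_one]
    · rw [h1, zz_comm]
  have hone : ∀ j k, j ≠ k → t j k * t k j = 1 := by
    intro j k hjk
    obtain ⟨i, hij, hik⟩ := exists_third j k
    -- `d i k = d i j`
    have h1 : e * (t i k * t k i) = e * (t i j * t j i) := by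
      calc e * (t i k * t k i) = (e * t i k) * t k i := by group
        _ = t i j * (t j k * t k i) := by rw [← hez i j k hij hjk hik]; group
        _ = t i j * (e * t j i) := by rw [hez j k i hjk hik.symm hij.symm]
        _ = (t i j * e) * t j i := by group
        _ = e * (t i j * t j i) := by rw [← hee]; group
    have h2 : t i k * t k i = t i j * t j i := mul_left_cancel h1
    -- `d i k = d j k d i j`
    have h3 : t i k * t k i = (t j k * t k j) * (t i j * t j i) := by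
      calc t i k * t k i = (e * e) * (t i k * t k i) := by rw [he, one_mul]
        _ = e * (e * t i k) * t k i := by group
        _ = e * (t i k * e) * t k i := by rw [hee (t i k)]
        _ = (e * t i k) * (e * t k i) := by group
        _ = (t i j * t j k) * (t k j * t j i) := by
            rw [hez i j k hij hjk hik, hez k j i hjk.symm hij.symm hik.symm]
        _ = t i j * ((t j k * t k j) * t j i) := by group
        _ = (t j k * t k j) * (t i j * t j i) := by
            rw [← mul_assoc, ← hdc j k hjk (t i j)]; group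
    rw [h2] at h3
    exact mul_eq_right.mp h3.symm
  -- normalize `e`
  refine ⟨fun i => if i = 7 then 1 else e * t i 7, by simp, ?_, ?_⟩
  · intro i hi
    show (if i = 7 then 1 else e * t i 7 : XG B n).v.1 = _
    rw [if_neg hi, ← htv i 7 hi]
    have h1 := hez i 7 (if i = 0 then 1 else 0) hi (by split_ifs <;> decide)
      (by split_ifs with h2 <;> [(rw [h2]; decide); exact h2])
    -- `e` has trivial vector part
    have h2 : (e * t i (if i = 0 then 1 else 0)).v.1 = (t i (if i = 0 then 1 else 0)).v.1 := by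
      rcases htrip i 7 (if i = 0 then 1 else 0) hi (by split_ifs <;> decide)
        (by split_ifs with h2 <;> [(rw [h2]; decide); exact h2]) with h3 | h3
      · rw [← h1, h3]
      · rw [← h1, h3, v_zz_mul]
    rw [mul_v] at h2 ⊢
    have h3 : e.v.1 = 0 := by
      have := congrArg (fun a => a ^^^ (t i (if i = 0 then 1 else 0)).v.1) h2
      simpa [Nat.xor_assoc] using this
    rw [h3, Nat.zero_xor]
  · have hβe : ∀ σ, β σ e = e := by
      intro σ
      have h1 := hez 0 1 2 (by decide) (by decide) (by decide)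
      rcases htrip 0 1 2 (by decide) (by decide) (by decide) with h2 | h2
      · have h3 : e = 1 := by
          rw [h2] at h1; exact mul_eq_right.mp h1.symm
        rw [h3, map_one]
      · have h3 : e = zz := by
          rw [h2] at h1; exact (mul_right_cancel h1).symm
        rw [h3, hz]
    have hinv : ∀ i, i ≠ 7 → (e * t i 7)⁻¹ = e * t 7 i := by
      intro i hi
      rw [inv_eq_iff_mul_eq_one]
      calc e * t i 7 * (e * t 7 i) = e * (t i 7 * e) * t 7 i := by group
        _ = (e * e) * (t i 7 * t 7 i) := by rw [← hee (t i 7)]; group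
        _ = 1 := by rw [he, hone i 7 hi, one_mul]
    intro σ i
    by_cases hi : i = 7
    · subst hi
      simp
    · simp only [if_neg hi]
      rw [map_mul, hβe, hact σ i 7 hi]
      have hne : (σ : Equiv.Perm (Fin 8)) i ≠ (σ : Equiv.Perm (Fin 8)) 7 := fun h' =>
        hi ((σ : Equiv.Perm (Fin 8)).injective h')
      by_cases h7 : (σ : Equiv.Perm (Fin 8)) 7 = 7
      · have h8 : (σ : Equiv.Perm (Fin 8)) i ≠ 7 := fun h' => hne (h'.trans h7.symm)
        rw [if_neg h8, if_pos h7, h7, inv_one, mul_one]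
      · rw [if_neg h7, hinv _ h7]
        by_cases h8 : (σ : Equiv.Perm (Fin 8)) i = 7
        · rw [if_pos h8, h8, one_mul]
        · rw [if_neg h8]
          have h9 := hez ((σ : Equiv.Perm (Fin 8)) i) 7 ((σ : Equiv.Perm (Fin 8)) 7) h8 (Ne.symm h7) hne
          calc e * t ((σ : Equiv.Perm (Fin 8)) i) ((σ : Equiv.Perm (Fin 8)) 7)
              = t ((σ : Equiv.Perm (Fin 8)) i) 7 * t 7 ((σ : Equiv.Perm (Fin 8)) 7) := h9.symm
            _ = (e * e) * (t ((σ : Equiv.Perm (Fin 8)) i) 7 * t 7 ((σ : Equiv.Perm (Fin 8)) 7)) := by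
                rw [he, one_mul]
            _ = e * (e * t ((σ : Equiv.Perm (Fin 8)) i) 7) * t 7 ((σ : Equiv.Perm (Fin 8)) 7) := by
                group
            _ = e * (t ((σ : Equiv.Perm (Fin 8)) i) 7 * e) * t 7 ((σ : Equiv.Perm (Fin 8)) 7) := by
                rw [hee (t ((σ : Equiv.Perm (Fin 8)) i) 7)]
            _ = _ := by group

end Signs

end Cfsg.Agent.CoOneType.CanonModel
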