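import Mathlib
import Cfsg.Agent.Lib.AltCarmichael
import Cfsg.Agent.LargeExtra.CoModel
import Cfsg.Agent.LargeExtra.GPinAut

/-!
# The Conway type: standard elements of `2₊^(1+6)` and the standard action of the 3-cycles
-/

set_option autoImplicit false

namespace Cfsg.Agent.CoOneType

open Cfsg.Agent.LargeExtra Cfsg.Agent.LargeExtra.Model Cfsg.Agent.LargeExtra.Pres
open Cfsg.Agent.LargeExtra.Models Cfsg.Agent.LargeExtra.Check Cfsg.Agent.LargeExtra.CoModel
open Cfsg.Agent.Lib.AltCarmichael

/-- The standard elements: `tt 0, …, tt 5 = q 2, …, q 7`, `tt 6 = (tt 0 ⋯ tt 5)⁻¹`, `tt 7 = 1`. -/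
def tt : Fin 8 → XG rK 8 :=
  ![⟨4, false⟩, ⟨8, false⟩, ⟨16, false⟩, ⟨32, false⟩, ⟨64, false⟩, ⟨128, false⟩, ⟨252, true⟩, ⟨0, false⟩]

/-- The standard 3-cycles. -/
def cycI : ℕ → List (ℕ × Bool)
  | 0 => [(1, false), (2, false), (248, false), (12, false), (20, false), (36, false), (68, false), (132, false)]
  | 1 => [(1, false), (2, false), (12, true), (244, true), (24, false), (40, false), (72, false), (136, false)]
  | 2 => [(1, false), (2, false), (20, true), (24, true), (236, false), (48, false), (80, false), (144, false)]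
  | 3 => [(1, false), (2, false), (36, true), (40, true), (48, true), (220, true), (96, false), (160, false)]
  | 4 => [(1, false), (2, false), (68, true), (72, true), (80, true), (96, true), (188, false), (192, false)]
  | _ => [(1, false), (2, false), (132, true), (136, true), (144, true), (160, true), (192, true), (124, true)]

theorem cyc_odd : ∀ k < 6, GPin.OddIm rK 8 3 (cycI k) := by decide +kernel

theorem cyc_fix : ∀ k < 6, app (imgs rK 8 (cycI k)) (idim rK 8 0) = idim rK 8 0 ∧
    app (imgs rK 8 (cycI k)) (idim rK 8 1) = idim rK 8 1 := by decide +kernel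

theorem cyc_act : ∀ k < 6, ∀ i : Fin 8, app (imgs rK 8 (cycI k)) (tt i) =
    tt (cyc 6 k i) * (tt (cyc 6 k 7))⁻¹ := by decide +kernel

theorem cyc_sq : ∀ k < 6, ∀ l < 6, k ≠ l → ∀ i : Fin 8,
    (fun x => app (imgs rK 8 (cycI k)) (app (imgs rK 8 (cycI l)) x))^[2] (q rK 8 i) = q rK 8 i := by
  decide +kernel

theorem tt_seven : tt 7 = 1 := by decide +kernel

theorem q_tt : ∀ i : Fin 6, q rK 8 ⟨i.1 + 2, by omega⟩ = tt ⟨i.1, by omega⟩ := by decide +kernel

theorem card_D8 : Nat.card {x : XG rK 8 // x * idim rK 8 0 = idim rK 8 0 * x ∧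
    x * idim rK 8 1 = idim rK 8 1 * x} = 128 := by
  rw [Nat.card_eq_fintype_card]; decide +kernel


end Cfsg.Agent.CoOneType
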