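import Mathlib
import Cfsg.Agent.Lib.AltCarmichael
import Cfsg.Agent.LargeExtra.CoFour
import Cfsg.Agent.LargeExtra.GPinAut
import Cfsg.Agent.CoOneType.CanonTT
import Cfsg.Agent.CoOneType.CanonModel

/-!
# The Conway type: the complement `L = A₈` and canonical elements of `C_Q(⟨y, w⟩) = 2₊^(1+6)`
-/

set_option autoImplicit false

namespace Cfsg.Agent.CoOneType

open Cfsg.Agent.LargeExtra Cfsg.Agent.LargeExtra.Model Cfsg.Agent.LargeExtra.Pres
open Cfsg.Agent.LargeExtra.Models Cfsg.Agent.LargeExtra.Check Cfsg.Agent.LargeExtra.CoModel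
open Cfsg.Agent.LargeExtra.FourGroup
open Cfsg.Agent.Lib.AltCarmichael
open Subgroup

/-- A counting argument. -/
theorem exists_decomp {G : Type*} [Group G] [Finite G] {C R L : Subgroup G} (hR : R ≤ C)
    (hL : L ≤ C) (h1 : ∀ x ∈ L, x ∈ R → x = 1) (hc : Nat.card C = Nat.card R * Nat.card L) :
    ∀ c ∈ C, ∃ x ∈ R, ∃ l ∈ L, c = x * l := by
  have hinj : Function.Injective
      (fun p : R × L => (⟨p.1 * p.2, mul_mem (hR p.1.2) (hL p.2.2)⟩ : C)) := by
    rintro ⟨a, b⟩ ⟨a', b'⟩ h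
    have h3 : (a : G) * b = a' * b' := congrArg Subtype.val h
    have h4 : (b' : G) * (b : G)⁻¹ = (a' : G)⁻¹ * a := by
      rw [eq_inv_mul_iff_mul_eq, ← mul_assoc, ← h3, mul_inv_cancel_right]
    have h5 : (b' : G) * (b : G)⁻¹ = 1 := by
      apply h1 _ (mul_mem b'.2 (inv_mem b.2))
      rw [h4]; exact mul_mem (inv_mem a'.2) a.2
    have h6 : (b' : G) = b := mul_inv_eq_one.mp h5
    have h7 : (a : G) = a' := by
      rw [h6] at h3; exact mul_right_cancel h3
    rw [Prod.mk.injEq]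
    exact ⟨Subtype.ext h7, Subtype.ext h6.symm⟩
  have hbij := (Nat.bijective_iff_injective_and_card _).mpr ⟨hinj, by rw [Nat.card_prod, hc]⟩
  intro c hc
  obtain ⟨⟨a, b⟩, hab⟩ := hbij.2 ⟨c, hc⟩
  exact ⟨a, a.2, b, b.2, (congrArg Subtype.val hab).symm⟩

section

variable {G : Type*} [Group G] {Q L : Subgroup G} {z y w : G}

/-- The hypotheses: `y, w` noncommuting involutions of `Q`, `L` a group of order 20160 commuting with them. -/
structure Pre (Q : Subgroup G) (z y w : G) (L : Subgroup G) : Prop where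
  hyp : CoHyp Q z
  yQ : y ∈ Q
  y2 : y * y = 1
  wQ : w ∈ Q
  w2 : w * w = 1
  wy : w * y ≠ y * w
  cardL : Nat.card L = 20160
  Ly : ∀ x ∈ L, x * y = y * x
  Lw : ∀ x ∈ L, x * w = w * x
  LQ : ∀ x ∈ L, x ∈ Q → x = 1

/-- The canonical elements and the parametrization of `L`. -/
structure Canon (Q : Subgroup G) (z y w : G) (L : Subgroup G) (c : Fin 8 → G)
    (κ : alternatingGroup (Fin 8) →* G) : Prop where
  c7 : c 7 = 1
  c_mem : ∀ i, c i ∈ Q
  c_y : ∀ i, c i * y = y * c i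
  c_w : ∀ i, c i * w = w * c i
  c_sq : ∀ i, i ≠ 7 → c i * c i = z
  c_anti : ∀ i j, i ≠ 7 → j ≠ 7 → i ≠ j → c i * c j = z * (c j * c i)
  c_prod : c 0 * c 1 * c 2 * c 3 * c 4 * c 5 * c 6 = 1
  κ_range : κ.range = L
  κ_inj : Function.Injective κ
  κ_conj : ∀ (σ : alternatingGroup (Fin 8)) i, κ σ * c i * (κ σ)⁻¹ =
    c ((σ : Equiv.Perm (Fin 8)) i) * (c ((σ : Equiv.Perm (Fin 8)) 7))⁻¹

namespace Pre

theorem Lz (H : Pre Q z y w L) : ∀ x ∈ L, x * z = z * x := by
  intro x hx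
  have h1 : z = w * y * w⁻¹ * y⁻¹ := by
    rcases H.hyp.data.comm w H.wQ y H.yQ with h2 | h2
    · exact absurd (mul_inv_eq_iff_eq_mul.mp h2) H.wy
    · rw [h2, mul_inv_cancel_right]
  have c1 : Commute x y := H.Ly x hx
  have c2 : Commute x w := H.Lw x hx
  rw [h1]
  exact (((c2.mul_right c1).mul_right c2.inv_right).mul_right c1.inv_right)

theorem L_le (H : Pre Q z y w L) : L ≤ CV z y ⊓ centralizer ({w} : Set G) := fun x hx =>
  ⟨mem_CV.mpr ⟨H.Lz x hx, H.Ly x hx⟩, mem_centralizer_singleton_iff.mpr (H.Lw x hx)⟩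

/-- `C_C(⟨y, w⟩) = C_Q(⟨y, w⟩) L`. -/
theorem decomp [Finite G] (H : Pre Q z y w L) {c : G} (hz : c * z = z * c) (hy : c * y = y * c)
    (hw : c * w = w * c) : ∃ x ∈ Q, ∃ l ∈ L, c = x * l := by
  obtain ⟨φ, P, h0, h1⟩ := H.hyp.adapt₂ H.yQ H.y2 H.wQ H.w2 H.wy
  have hcQ : Nat.card ↥(Q ⊓ (CV z y ⊓ centralizer ({w} : Set G))) = 128 := by
    rw [← card_D8]
    symm
    refine Nat.card_congr ⟨fun x => ⟨φ x.1, ?_⟩, fun x => ⟨φ.symm ⟨x.1, x.2.1⟩, ?_⟩, ?_, ?_⟩
    · refine ⟨Subtype.property _, mem_CV.mpr ⟨GPin.phi_comm_z P _, ?_⟩,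
        mem_centralizer_singleton_iff.mpr ?_⟩
      · rw [← h0, ← GPin.phi_mul, ← GPin.phi_mul, x.2.1]
      · rw [← h1, ← GPin.phi_mul, ← GPin.phi_mul, x.2.2]
    · obtain ⟨x, hxQ, hxV, hxw⟩ := x
      obtain ⟨a, rfl⟩ := GPin.exists_phi φ hxQ
      have hxy := (mem_CV.mp hxV).2
      have hxw' := mem_centralizer_singleton_iff.mp hxw
      rw [← h0, ← GPin.phi_mul, ← GPin.phi_mul, GPin.phi_inj] at hxy
      rw [← h1, ← GPin.phi_mul, ← GPin.phi_mul, GPin.phi_inj] at hxw'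
      have e : φ.symm ⟨(φ a : G), hxQ⟩ = a := by rw [MulEquiv.symm_apply_eq]
      rw [e]
      exact ⟨hxy, hxw'⟩
    · intro x
      apply Subtype.ext
      show φ.symm ⟨((φ x.1 : Q) : G), _⟩ = x.1
      rw [MulEquiv.symm_apply_eq]
    · intro x
      apply Subtype.ext
      show ((φ (φ.symm ⟨x.1, _⟩) : Q) : G) = x.1
      rw [MulEquiv.apply_symm_apply]
  have hcard : Nat.card ↥(CV z y ⊓ centralizer ({w} : Set G)) =
      Nat.card ↥(Q ⊓ (CV z y ⊓ centralizer ({w} : Set G))) * Nat.card L := by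
    rw [H.hyp.card_CVw H.yQ H.y2 H.wQ H.w2 H.wy, hcQ, H.cardL]
  obtain ⟨x, hx, l, hl, e⟩ := exists_decomp inf_le_right H.L_le (fun x hx hx' => H.LQ x hx hx'.1) hcard c
    ⟨mem_CV.mpr ⟨hz, hy⟩, mem_centralizer_singleton_iff.mpr hw⟩
  exact ⟨x, hx.1, l, hl, e⟩

/-- The parametrization of `L`, with signs. -/
theorem exists_kappa [Finite G] (H : Pre Q z y w L) {φ : XG rK 8 ≃* Q} (P : GPin Q z φ)
    (h0 : (φ (idim rK 8 0) : G) = y) (h1 : (φ (idim rK 8 1) : G) = w) :
    ∃ κ : alternatingGroup (Fin 8) →* G, Function.Injective κ ∧ κ.range = L ∧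
      ∀ (σ : alternatingGroup (Fin 8)) (β : MulAut (XG rK 8)), GPin.Ind φ (κ σ) β →
        ∀ i, (β (tt i)).v.1 =
          (tt ((σ : Equiv.Perm (Fin 8)) i) * (tt ((σ : Equiv.Perm (Fin 8)) 7))⁻¹).v.1 := by
  -- the lifts of the three-cycles
  have hlift : ∀ k, ∃ (c x : G) (α : MulAut (XG rK 8)), k < 6 → c * z = z * c ∧ c ^ 3 = 1 ∧
      GPin.Ind φ c α ∧ (∀ x, α x = app (imgs rK 8 (cycI k)) x) ∧ x ∈ L ∧ c * x⁻¹ ∈ Q := by
    intro k
    by_cases hk : k < 6
    · obtain ⟨α, hα, hα'⟩ := (cyc_odd k hk).exists tri_K nd_K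
      obtain ⟨c, hcz, hc3, hI⟩ := GPin.exists_odd P (k := 3) (by decide) hα
      have hcy : c * y = y * c := by
        have := hI (idim rK 8 0)
        rw [hα', (cyc_fix k hk).1, h0, mul_inv_eq_iff_eq_mul] at this
        exact this
      have hcw : c * w = w * c := by
        have := hI (idim rK 8 1)
        rw [hα', (cyc_fix k hk).2, h1, mul_inv_eq_iff_eq_mul] at this
        exact this
      obtain ⟨x, hx, l, hl, e⟩ := H.decomp hcz hcy hcw
      exact ⟨c, l, α, fun _ => ⟨hcz, hc3, hI, hα', hl, by rw [e, mul_inv_cancel_right]; exact hx⟩⟩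
    · exact ⟨1, 1, 1, fun h => absurd h hk⟩
  choose c x α hcx using hlift
  have D := H.hyp.data
  -- reduction modulo `Q`
  have hmulQ : ∀ a b a' b' : G, a * z = z * a → a' ∈ L → a * a'⁻¹ ∈ Q → b * b'⁻¹ ∈ Q →
      (a * b) * (a' * b')⁻¹ ∈ Q := by
    intro a b a' b' ha ha' h2 h3
    have e : (a * b) * (a' * b')⁻¹ = (a * (b * b'⁻¹) * a⁻¹) * (a * a'⁻¹) := by group
    rw [e]
    exact mul_mem (D.norm a ha _ h3) h2
  have hrel : Rel 6 x := by
    constructor
    · intro k hk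
      obtain ⟨hcz, hc3, -, -, hxL, hcx'⟩ := hcx k hk
      apply H.LQ _ (pow_mem hxL 3)
      have h2 : (c k * (c k * c k)) * (x k * (x k * x k))⁻¹ ∈ Q :=
        hmulQ _ _ _ _ hcz hxL hcx' (hmulQ _ _ _ _ hcz hxL hcx' hcx')
      have h3 : c k * (c k * c k) = 1 := by
        rw [← hc3, pow_succ, pow_two, mul_assoc]
      rw [h3, one_mul, inv_mem_iff] at h2
      have h4 : x k ^ 3 = x k * (x k * x k) := by rw [pow_succ, pow_two, mul_assoc]
      rw [h4]; exact h2
    · intro k hk l hl hkl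
      obtain ⟨hcz, hc3, hI, hα, hxL, hcx'⟩ := hcx k hk
      obtain ⟨hcz', hc3', hI', hα', hxL', hcx''⟩ := hcx l hl
      apply H.LQ _ (pow_mem (mul_mem hxL hxL') 2)
      have hz2 : (c k * c l) * z = z * (c k * c l) := by
        rw [mul_assoc, hcz', ← mul_assoc, hcz, mul_assoc]
      have h2 : ((c k * c l) * (c k * c l)) * ((x k * x l) * (x k * x l))⁻¹ ∈ Q :=
        hmulQ _ _ _ _ hz2 (mul_mem hxL hxL') (hmulQ _ _ _ _ hcz hxL hcx' hcx'')
          (hmulQ _ _ _ _ hcz hxL hcx' hcx'')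
      have h3 : GPin.Ind φ ((c k * c l) * (c k * c l)) 1 := by
        have h4 := (hI.mul hI').mul (hI.mul hI')
        have h5 : α k * α l * (α k * α l) = 1 := by
          apply aut_ext nd_K
          intro i
          have h6 := cyc_sq k hk l hl hkl i
          show α k (α l (α k (α l (q rK 8 i)))) = q rK 8 i
          rw [hα', hα, hα', hα]
          exact h6
        rwa [h5] at h4
      have h4 : (c k * c l) * (c k * c l) ∈ Q := by
        rcases P.ker _ (by rw [mul_assoc, hz2, ← mul_assoc, hz2, mul_assoc]) h3 with h5 | h5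
        · rw [h5]; exact one_mem _
        · rw [h5]; exact D.mem
      have h5 := mul_mem (inv_mem h2) h4
      rw [mul_inv_rev, inv_inv, inv_mul_cancel_right] at h5
      rw [pow_two]; exact h5
  obtain ⟨κ, hκ⟩ := exists_hom (m := 6) (by norm_num) hrel
  have hκL : ∀ σ, κ σ ∈ L := by
    intro σ
    have h2 : (⊤ : Subgroup (alternatingGroup (Fin (6 + 2)))) ≤ L.comap κ := by
      intro σ _
      have h3 : (σ : Equiv.Perm (Fin (6 + 2))) ∈ gen 6 (cyc 6) := by
        rw [gen_cyc 6 (by norm_num)]; exact σ.2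
      have h4 : gen 6 (cyc 6) ≤ (L.comap κ).map (alternatingGroup (Fin (6 + 2))).subtype := by
        rw [gen_def, closure_le]
        rintro _ ⟨i, hi, rfl⟩
        exact ⟨⟨cyc 6 i, cyc_mem 6 i hi⟩, by
          show κ _ ∈ L
          rw [hκ i hi]; exact (hcx i hi).2.2.2.2.1, rfl⟩
      obtain ⟨σ', h5, h6⟩ := h4 h3
      have h7 : σ' = σ := Subtype.ext h6
      rwa [← h7]
    exact h2 (mem_top σ)
  have hinj : Function.Injective κ := by
    have hsimple : IsSimpleGroup (alternatingGroup (Fin 8)) :=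
      alternatingGroup.isSimpleGroup (by rw [Nat.card_eq_fintype_card, Fintype.card_fin]; omega)
    rw [← MonoidHom.ker_eq_bot_iff]
    rcases (inferInstance : κ.ker.Normal).eq_bot_or_eq_top with hb | ht
    · exact hb
    · exfalso
      obtain ⟨hcz, hc3, hI, hα, hxL, hcx'⟩ := hcx 0 (by norm_num)
      have hx0 : x 0 = 1 := by
        rw [← hκ 0 (by norm_num)]
        have : (⟨cyc 6 0, cyc_mem 6 0 (by norm_num)⟩ : alternatingGroup (Fin 8)) ∈ κ.ker := by
          rw [ht]; exact mem_top _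
        exact this
      rw [hx0, inv_one, mul_one] at hcx'
      -- `c 0 ∈ Q` of order three
      have h4 : c 0 * c 0 * (c 0 * c 0) = 1 := by
        rcases D.sq _ hcx' with h5 | h5
        · rw [h5, one_mul]
        · rw [h5, D.sqz]
      have h5 : c 0 = 1 := by
        have h6 : c 0 * c 0 * (c 0 * c 0) = c 0 ^ 3 * c 0 := by
          rw [pow_succ, pow_two]; simp only [mul_assoc]
        rw [h6, hc3, one_mul] at h4; exact h4
      rw [h5] at hI
      have h6 := GPin.Ind.unique hI GPin.Ind.one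
      have h7 := hα (tt 0)
      rw [h6, cyc_act 0 (by norm_num)] at h7
      exact absurd h7 (by decide +kernel)
  have hrange : κ.range = L := by
    have hfin : Finite L := inferInstance
    apply Subgroup.eq_of_le_of_card_ge
    · rintro _ ⟨σ, rfl⟩; exact hκL σ
    · rw [H.cardL, ← Nat.card_congr (MonoidHom.ofInjective hinj).toEquiv]
      have : Nontrivial (Fin (6 + 2)) := ⟨⟨0, 1, by simp⟩⟩
      have h2 : 2 * Nat.card (alternatingGroup (Fin (6 + 2))) = Nat.factorial 8 := by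
        rw [Nat.card_eq_fintype_card, two_mul_card_alternatingGroup, Fintype.card_perm,
          Fintype.card_fin]
      have h3 : Nat.factorial 8 = 40320 := by decide
      omega
  refine ⟨κ, hinj, hrange, ?_⟩
  -- the subgroup of those `σ` for which the claim holds
  have hz : ∀ σ, κ σ * z = z * κ σ := fun σ => H.Lz _ (hκL σ)
  let S : Subgroup (alternatingGroup (Fin 8)) :=
    { carrier := {σ | ∀ β : MulAut (XG rK 8), GPin.Ind φ (κ σ) β → ∀ i, (β (tt i)).v.1 =
          (tt ((σ : Equiv.Perm (Fin 8)) i) * (tt ((σ : Equiv.Perm (Fin 8)) 7))⁻¹).v.1}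
      one_mem' := by
        intro β hβ i
        rw [map_one] at hβ
        rw [GPin.Ind.unique hβ GPin.Ind.one]
        show (tt i).v.1 = (tt i * (tt 7)⁻¹).v.1
        rw [tt_seven, inv_one, mul_one]
      mul_mem' := by
        intro σ τ hσ hτ β hβ i
        obtain ⟨βσ, h2⟩ := P.ind _ (hz σ)
        obtain ⟨βτ, h3⟩ := P.ind _ (hz τ)
        rw [map_mul] at hβ
        rw [GPin.Ind.unique hβ (h2.mul h3)]
        have h4 := hτ βτ h3 i
        have h5 := GPin.aut_v_mul nd_K βσ h4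
        show (βσ (βτ (tt i))).v.1 = _
        rw [h5, map_mul, map_inv, mul_v, inv_v, hσ βσ h2, hσ βσ h2, mul_v, mul_v, inv_v]
        show _ = (tt ((σ : Equiv.Perm (Fin 8)) ((τ : Equiv.Perm (Fin 8)) i)) *
          (tt ((σ : Equiv.Perm (Fin 8)) ((τ : Equiv.Perm (Fin 8)) 7)))⁻¹).v.1
        rw [mul_v, inv_v]
        generalize (tt ((σ : Equiv.Perm (Fin 8)) ((τ : Equiv.Perm (Fin 8)) i))).v.1 = a
        generalize (tt ((σ : Equiv.Perm (Fin 8)) ((τ : Equiv.Perm (Fin 8)) 7))).v.1 = b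
        generalize (tt ((σ : Equiv.Perm (Fin 8)) 7)).v.1 = d
        rw [Nat.xor_assoc, ← Nat.xor_assoc d, Nat.xor_comm d b, Nat.xor_assoc b, Nat.xor_self,
          Nat.xor_zero]
      inv_mem' := by
        intro σ hσ β hβ i
        obtain ⟨βσ, h2⟩ := P.ind _ (hz σ)
        rw [map_inv] at hβ
        rw [GPin.Ind.unique hβ h2.inv]
        -- apply `βσ`
        have h3 : (βσ (βσ⁻¹ (tt i))).v.1 = (βσ (tt (((σ⁻¹ : alternatingGroup (Fin 8)) : Equiv.Perm (Fin 8)) i) *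
            (tt (((σ⁻¹ : alternatingGroup (Fin 8)) : Equiv.Perm (Fin 8)) 7))⁻¹)).v.1 := by
          rw [MulAut.apply_inv_self, map_mul, map_inv, mul_v, inv_v, hσ βσ h2, hσ βσ h2]
          have e1 : ∀ j, (σ : Equiv.Perm (Fin 8)) (((σ⁻¹ : alternatingGroup (Fin 8)) :
              Equiv.Perm (Fin 8)) j) = j := fun j => Equiv.apply_symm_apply _ j
          rw [e1, e1, mul_v, mul_v, inv_v, tt_seven, one_v, Nat.zero_xor, Nat.xor_assoc,
            Nat.xor_self, Nat.xor_zero]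
        have h4 := GPin.aut_v_mul nd_K βσ⁻¹ h3
        rw [MulAut.inv_apply_self, MulAut.inv_apply_self] at h4
        exact h4 }
  have hS : ∀ σ, σ ∈ S := by
    intro σ
    have h3 : (σ : Equiv.Perm (Fin (6 + 2))) ∈ gen 6 (cyc 6) := by
      rw [gen_cyc 6 (by norm_num)]; exact σ.2
    have h4 : gen 6 (cyc 6) ≤ S.map (alternatingGroup (Fin (6 + 2))).subtype := by
      rw [gen_def, closure_le]
      rintro _ ⟨k, hk, rfl⟩
      refine ⟨⟨cyc 6 k, cyc_mem 6 k hk⟩, ?_, rfl⟩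
      intro β hβ i
      obtain ⟨hcz, hc3, hI, hα, hxL, hcx'⟩ := hcx k hk
      rw [hκ k hk] at hβ
      -- `c k = q x k`
      obtain ⟨a, ha⟩ := GPin.exists_phi φ hcx'
      have h5 : c k = φ a * x k := by rw [ha, inv_mul_cancel_right]
      rw [h5] at hI
      have h6 := GPin.Ind.unique hI ((GPin.ind_inner a).mul hβ)
      have h7 : (α k (tt i)).v.1 = (β (tt i)).v.1 := by
        rw [h6]; exact GPin.v_conj a _
      rw [← h7, hα, cyc_act k hk i]
    obtain ⟨σ', h5, h6⟩ := h4 h3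
    have h7 : σ' = σ := Subtype.ext h6
    rwa [← h7]
  exact fun σ => hS σ

theorem zyw (H : Pre Q z y w L) : w * y = z * (y * w) := by
  rcases H.hyp.data.comm w H.wQ y H.yQ with h2 | h2
  · exact absurd (mul_inv_eq_iff_eq_mul.mp h2) H.wy
  · rw [mul_inv_eq_iff_eq_mul.mp h2, mul_assoc]

end Pre

theorem sq_of_v {B : ℕ → ℕ} {n : ℕ} {x x' : XG B n} (h : x.v.1 = x'.v.1) : x * x = x' * x' := by
  rcases GPin.v_eq_iff.mp h with h1 | h1
  · rw [h1]
  · rw [h1]
    calc Model.zz * x' * (Model.zz * x') = Model.zz * (x' * Model.zz) * x' := by group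
      _ = (Model.zz * Model.zz) * (x' * x') := by rw [Model.zz_comm]; group
      _ = x' * x' := by rw [Model.zz_mul_zz, one_mul]

theorem anti_of_v {B : ℕ → ℕ} {n : ℕ} {x x' u u' : XG B n} (h : x.v.1 = x'.v.1)
    (h' : u.v.1 = u'.v.1) (h1 : ¬ (x' * u' = u' * x')) : x * u = Model.zz * (u * x) := by
  refine (Model.comm_or x u).resolve_left fun h2 => h1 ?_
  rw [Model.comm_iff, h, h'] at h2
  rw [Model.comm_iff]; exact h2

theorem comm_of_v {B : ℕ → ℕ} {n : ℕ} {x x' u : XG B n} (h : x.v.1 = x'.v.1)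
    (h1 : x' * u = u * x') : x * u = u * x := by
  rw [Model.comm_iff, h]; rwa [Model.comm_iff] at h1

theorem tt_sq : ∀ i : Fin 8, i ≠ 7 → tt i * tt i = Model.zz := by decide +kernel
theorem tt_anti : ∀ i j : Fin 8, i ≠ 7 → j ≠ 7 → i ≠ j → ¬ (tt i * tt j = tt j * tt i) := by
  decide +kernel
theorem tt_q0 : ∀ i : Fin 8, tt i * idim rK 8 0 = idim rK 8 0 * tt i := by decide +kernel
theorem tt_q1 : ∀ i : Fin 8, tt i * idim rK 8 1 = idim rK 8 1 * tt i := by decide +kernel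
theorem tt_prod : tt 0 * tt 1 * tt 2 * tt 3 * tt 4 * tt 5 * tt 6 = 1 := by decide +kernel

/-- Coordinates from canonical elements. -/
theorem Canon.coords {c : Fin 8 → G} {κ : alternatingGroup (Fin 8) →* G} (K : Canon Q z y w L c κ)
    (H : Pre Q z y w L) : ∃ φ : XG rK 8 ≃* Q, GPin Q z φ ∧ (φ (idim rK 8 0) : G) = y ∧
      (φ (idim rK 8 1) : G) = w ∧ ∀ i, (φ (tt i) : G) = c i := by
  obtain ⟨φ, P⟩ := H.hyp.pin
  have D := H.hyp.data
  obtain ⟨X, hX⟩ : ∃ X : ℕ → G, X = fun i => if i = 0 then y else if i = 1 then w else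
    c (Fin.ofNat 8 (i - 2)) := ⟨_, rfl⟩
  have X0 : X 0 = y := by rw [hX]; rfl
  have X1 : X 1 = w := by rw [hX]; rfl
  have Xc : ∀ (i : ℕ) (hi : i < 6), X (i + 2) = c ⟨i, by omega⟩ := by
    intro i hi
    rw [hX]
    show c (Fin.ofNat 8 (i + 2 - 2)) = _
    congr 1
    apply Fin.ext
    show (i + 2 - 2) % 8 = i
    omega
  have hne : ∀ (i : ℕ) (hi : i < 6), (⟨i, by omega⟩ : Fin 8) ≠ 7 := by
    intro i hi h
    have := congrArg Fin.val h
    simp only [Fin.isValue] at this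
    have h7 : ((7 : Fin 8) : ℕ) = 7 := rfl
    omega
  have hXQ : ∀ i < 8, X i ∈ Q := by
    intro i hi
    match i, hi with
    | 0, _ => rw [X0]; exact H.yQ
    | 1, _ => rw [X1]; exact H.wQ
    | i + 2, hi => rw [Xc i (by omega)]; exact K.c_mem _
  have hrow : ∀ i : Fin 6, ∀ j : Fin 6, (rK (i.1 + 2)).testBit 0 = false ∧
      (rK (i.1 + 2)).testBit 1 = false ∧ (j ≤ i → (rK (i.1 + 2)).testBit (j.1 + 2) = true) := by
    decide +kernel
  have hrels : Rels rK 8 z X := by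
    refine ⟨D.sqz, fun i hi => D.com _ (hXQ i hi), ?_, ?_⟩
    · intro i hi
      match i, hi with
      | 0, _ => rw [X0]; exact H.y2
      | 1, _ => rw [X1]; exact H.w2
      | i + 2, hi =>
        rw [Xc i (by omega), K.c_sq _ (hne i (by omega)),
          (hrow ⟨i, by omega⟩ ⟨i, by omega⟩).2.2 (le_refl _)]
        rfl
    · intro i hi j hj
      match i, hi, j, hj with
      | 1, _, 0, _ => rw [X0, X1]; exact H.zyw
      | i + 2, hi, 0, _ =>
        rw [Xc i (by omega), X0, (hrow ⟨i, by omega⟩ ⟨i, by omega⟩).1, K.c_y]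
        simp [zp]
      | i + 2, hi, 1, _ =>
        rw [Xc i (by omega), X1, (hrow ⟨i, by omega⟩ ⟨i, by omega⟩).2.1, K.c_w]
        simp [zp]
      | i + 2, hi, j + 2, hj =>
        rw [Xc i (by omega), Xc j (by omega),
          (hrow ⟨i, by omega⟩ ⟨j, by omega⟩).2.2 (by show j ≤ i; omega),
          K.c_anti _ _ (hne i (by omega)) (hne j (by omega)) (by
            intro h; have := congrArg Fin.val h; simp only at this; omega)]
        rfl
  obtain ⟨φ', P', hφ⟩ := GPin.of_rels P tri_K nd_K hXQ hrels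
  have hc : ∀ i : Fin 6, (φ' (tt ⟨i.1, by omega⟩) : G) = c ⟨i.1, by omega⟩ := by
    intro i
    rw [← q_tt i, hφ, Xc i.1 i.2]
  refine ⟨φ', P', ?_, ?_, ?_⟩
  · rw [idim_zero (by norm_num), hφ, X0]
  · rw [idim_eq (i := 1) (by norm_num), hφ, X1]
  · intro i
    by_cases h6 : i = 6
    · have h1 := congrArg (fun t => (φ' t : G)) tt_prod
      simp only [GPin.phi_mul, GPin.phi_one] at h1
      have e0 := hc 0
      have e1 := hc 1
      have e2 := hc 2
      have e3 := hc 3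
      have e4 := hc 4
      have e5 := hc 5
      have f0 : (φ' (tt 0) : G) = c 0 := e0
      have f1 : (φ' (tt 1) : G) = c 1 := e1
      have f2 : (φ' (tt 2) : G) = c 2 := e2
      have f3 : (φ' (tt 3) : G) = c 3 := e3
      have f4 : (φ' (tt 4) : G) = c 4 := e4
      have f5 : (φ' (tt 5) : G) = c 5 := e5
      rw [f0, f1, f2, f3, f4, f5] at h1
      rw [h6]
      exact mul_left_cancel (h1.trans K.c_prod.symm)
    · by_cases h7 : i = 7
      · rw [h7, tt_seven, K.c7, GPin.phi_one]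
      · have hi : i.1 < 6 := by
          have h8 := i.2
          have e6 : i.1 ≠ 6 := fun h => h6 (Fin.ext h)
          have e7 : i.1 ≠ 7 := fun h => h7 (Fin.ext h)
          omega
        exact hc ⟨i.1, hi⟩

/-- **Canonical elements**: `A₇` permutes `c 0, …, c 6`, `A₈` acts on the elements `c i (c j)⁻¹`. -/
theorem Pre.exists_canon [Finite G] (H : Pre Q z y w L) :
    ∃ (c : Fin 8 → G) (κ : alternatingGroup (Fin 8) →* G), Canon Q z y w L c κ := by
  obtain ⟨φ, P, h0, h1⟩ := H.hyp.adapt₂ H.yQ H.y2 H.wQ H.w2 H.wy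
  obtain ⟨κ, hinj, hrange, hκ⟩ := H.exists_kappa P h0 h1
  have hκz : ∀ σ, κ σ ∈ centralizer ({z} : Set G) := fun σ =>
    mem_centralizer_singleton_iff.mpr (H.Lz _ (by rw [← hrange]; exact ⟨σ, rfl⟩))
  let β : alternatingGroup (Fin 8) →* MulAut (XG rK 8) :=
    (GPin.toAut P).comp (κ.codRestrict _ hκz)
  have hβ : ∀ σ, GPin.Ind φ (κ σ) (β σ) := fun σ => GPin.ind_toAut P ⟨κ σ, hκz σ⟩
  obtain ⟨c, c7, hcv, hc⟩ := CanonModel.exists_signs nd_K β tt (fun σ i => hκ σ _ (hβ σ) i)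
  have hcv' : ∀ i, (c i).v.1 = (tt i).v.1 := by
    intro i
    by_cases hi : i = 7
    · rw [hi, c7, tt_seven]
    · rw [hcv i hi, tt_seven, inv_one, mul_one]
  have hp : c 0 * c 1 * c 2 * c 3 * c 4 * c 5 * c 6 = 1 ∨
      c 0 * c 1 * c 2 * c 3 * c 4 * c 5 * c 6 = Model.zz := by
    apply Model.eq_one_or_zz
    have h2 := congrArg (fun t : XG rK 8 => t.v.1) tt_prod
    simp only [mul_v, one_v] at h2 ⊢
    simp only [hcv']
    exact h2
  have hc0 : ∀ i, (φ (c i) : G) * y = y * φ (c i) := by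
    intro i
    rw [← h0, ← GPin.phi_mul, ← GPin.phi_mul, comm_of_v (hcv' i) (tt_q0 i)]
  have hc1 : ∀ i, (φ (c i) : G) * w = w * φ (c i) := by
    intro i
    rw [← h1, ← GPin.phi_mul, ← GPin.phi_mul, comm_of_v (hcv' i) (tt_q1 i)]
  have hsq : ∀ i, i ≠ 7 → (φ (c i) : G) * φ (c i) = z := by
    intro i hi
    rw [← GPin.phi_mul, sq_of_v (hcv' i), tt_sq i hi, P.zz]
  have hanti : ∀ i j, i ≠ 7 → j ≠ 7 → i ≠ j → (φ (c i) : G) * φ (c j) = z * (φ (c j) * φ (c i)) := by
    intro i j hi hj hij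
    rw [← GPin.phi_mul, anti_of_v (hcv' i) (hcv' j) (tt_anti i j hi hj hij), GPin.phi_mul,
      GPin.phi_mul, P.zz]
  have hconj : ∀ σ i, κ σ * φ (c i) * (κ σ)⁻¹ = φ (c ((σ : Equiv.Perm (Fin 8)) i)) *
      (φ (c ((σ : Equiv.Perm (Fin 8)) 7)) : G)⁻¹ := by
    intro σ i
    rw [hβ σ, hc, GPin.phi_mul, GPin.phi_inv]
  rcases hp with hp | hp
  · refine ⟨fun i => φ (c i), κ, ⟨?_, fun i => Subtype.property _, hc0, hc1, hsq, hanti, ?_, hrange,
      hinj, hconj⟩⟩
    · show (φ (c 7) : G) = 1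
      rw [c7, GPin.phi_one]
    · show (φ (c 0) : G) * φ (c 1) * φ (c 2) * φ (c 3) * φ (c 4) * φ (c 5) * φ (c 6) = 1
      rw [← GPin.phi_mul, ← GPin.phi_mul, ← GPin.phi_mul, ← GPin.phi_mul, ← GPin.phi_mul,
        ← GPin.phi_mul, hp, GPin.phi_one]
  · -- relabel by a transposition
    let π : Equiv.Perm (Fin 8) := Equiv.swap 0 1
    have hπ7 : π 7 = 7 := by decide
    have hππ : π * π = 1 := Equiv.swap_mul_self 0 1
    let ψ : alternatingGroup (Fin 8) →* alternatingGroup (Fin 8) :=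
      (MulAut.conjNormal (H := alternatingGroup (Fin 8)) π).toMonoidHom
    have hψ : ∀ σ, ((ψ σ : alternatingGroup (Fin 8)) : Equiv.Perm (Fin 8)) = π * σ * π⁻¹ :=
      fun σ => MulAut.conjNormal_apply π σ
    have hψs : Function.Surjective ψ :=
      (MulAut.conjNormal (H := alternatingGroup (Fin 8)) π).surjective
    have hψi : Function.Injective ψ :=
      (MulAut.conjNormal (H := alternatingGroup (Fin 8)) π).injective
    have hπne : ∀ i, i ≠ 7 → π i ≠ 7 := fun i hi h => hi (π.injective (h.trans hπ7.symm))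
    refine ⟨fun i => φ (c (π i)), κ.comp ψ, ⟨?_, fun i => Subtype.property _, fun i => hc0 _,
      fun i => hc1 _, fun i hi => hsq _ (hπne i hi), fun i j hi hj hij => hanti _ _ (hπne i hi)
        (hπne j hj) (fun h => hij (π.injective h)), ?_, ?_, hinj.comp hψi, ?_⟩⟩
    · show (φ (c (π 7)) : G) = 1
      rw [hπ7, c7, GPin.phi_one]
    · have e0 : π 0 = 1 := by decide
      have e1 : π 1 = 0 := by decide
      have e2 : π 2 = 2 := by decide
      have e3 : π 3 = 3 := by decide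
      have e4 : π 4 = 4 := by decide
      have e5 : π 5 = 5 := by decide
      have e6 : π 6 = 6 := by decide
      show (φ (c (π 0)) : G) * φ (c (π 1)) * φ (c (π 2)) * φ (c (π 3)) * φ (c (π 4)) *
        φ (c (π 5)) * φ (c (π 6)) = 1
      rw [e0, e1, e2, e3, e4, e5, e6, hanti 1 0 (by decide) (by decide) (by decide), ← P.zz]
      rw [← GPin.phi_mul, ← GPin.phi_mul, ← GPin.phi_mul, ← GPin.phi_mul, ← GPin.phi_mul,
        ← GPin.phi_mul, ← GPin.phi_mul]
      have e : Model.zz * (c 0 * c 1) * c 2 * c 3 * c 4 * c 5 * c 6 =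
          Model.zz * (c 0 * c 1 * c 2 * c 3 * c 4 * c 5 * c 6) := by group
      rw [e, hp, Model.zz_mul_zz, GPin.phi_one]
    · rw [MonoidHom.range_comp, MonoidHom.range_eq_top.mpr hψs, ← MonoidHom.range_eq_map, hrange]
    · intro σ i
      show κ (ψ σ) * φ (c (π i)) * (κ (ψ σ))⁻¹ = φ (c (π ((σ : Equiv.Perm (Fin 8)) i))) *
        (φ (c (π ((σ : Equiv.Perm (Fin 8)) 7))) : G)⁻¹
      rw [hconj, hψ]
      have e1 : (π * (σ : Equiv.Perm (Fin 8)) * π⁻¹) (π i) = π ((σ : Equiv.Perm (Fin 8)) i) := by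
        show π ((σ : Equiv.Perm (Fin 8)) (π.symm (π i))) = _
        rw [Equiv.symm_apply_apply]
      have e2 : (π * (σ : Equiv.Perm (Fin 8)) * π⁻¹) 7 = π ((σ : Equiv.Perm (Fin 8)) 7) := by
        show π ((σ : Equiv.Perm (Fin 8)) (π.symm 7)) = _
        rw [(Equiv.symm_apply_eq π).mpr hπ7.symm]
      rw [e1, e2]

end

end Cfsg.Agent.CoOneType
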