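/-!
# An element of order 13 of `Co0` (packed matrix)

Eight times the matrix of an isometry of the Leech lattice of order 13 which commutes with the
monomial element `x ↦ ε_c π x` of square `-1` (`c` the dodecad of mask 1466012, `π` the packed
permutation `J4.M24InvolData.P2`).
-/

set_option autoImplicit false

namespace Cfsg.Agent.CoOneType.ThirteenData

/-- sum of the columns and the columns -/
def Y : Nat × List Nat :=
  (383012501703242554819844454173349801432813729600180000516459725800659025484220151275659002240, [
    16298028715224487653283168106263283760532999433519489883297947597516811187839216639803523086,
    14261241309441897242656783664702897655940424757060161032450705034575227932149012948546895888,
    18335313322811861603646948212796379043836727444661075826840914584511950330378339289250545680,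
    18335313322819271392622011341222061819630006996592967150430590762181492537651413383655833620,
    16298526038460897439925323488511631448625638742681465464642272760969794848348098174927372302,
    12224454085784514573677230395212232140906716587375008252397302199469260180974459148025593874,
    18335810646055681179264166721824704083148901775964204648316491411640001857369953585038770192,
    14261241370150300124710830610909415819495288288518327595371212572824990866708850686120017936,
    14261241370150299220195547904306449960804820260902557873175563114055782635204901363597328400,
    16298028654516084771229121160056966464230675485867921709188393368251788900069930072944017426,
    18335313322819272297358136449303487562357355182284867260333740822570595447786934620301443088,
    16298526038460898344551007175071074644476983964131086813469840276685590412041117963248599058,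
    14261241370150300124821245070839226707453140641276837977512013432001250348119431577012912144,
    16298028715217076959461538448234393488826129198499492252912792291796189338480527836878864398,
    16298525977752494557871290022278245993135140901697223775580356364569507572801624896461471762,
    16298526038460897439925310010183601587891344096818680948314473035771772785367174300649521166,
    18335313322819272297247708506109133141701588961027835326283533941828762561587683720784134160,
    16298525977745083864160101785771338341870045903277875021436040949565380208985717274243629070,
    14261241370150299220085119964403305497530063364614353782852742874665171832244026846631575568,
    14261241370150299220195547905951954518126026668388334898726277041304007472214494338577743888,
    16298526038453486746214135252004522905588076237352120697258329710720494189741980792555438098,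
    16298525977745083864160088305797803874777680697440319231405028961420758403213476154749059086,
    16298525977752494557871276542305113285073769097371972746746847847018919558697729259294818318,
    14261241370150300124710817129290577686854184912855820347516314844743524076244056402359894032])

end Cfsg.Agent.CoOneType.ThirteenData
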