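import Cfsg.Agent.Leech.Bridge
import Cfsg.Agent.SporadicA.Co1Simple
import Cfsg.Agent.SporadicStructure.Co0Base
import Cfsg.Agent.J4.M24Invol
import Cfsg.Agent.CoOneType.ThirteenData
import Cfsg.Agent.S0368
import Cfsg.Agent.S0371
import Cfsg.Agent.S0398
import Cfsg.Prelude.Def_Spor_Conway

/-!
# Elements of order 13 and 11 commuting with the involutions of types 2B and 2C of `Co1`

* `b0 = ε_c π`, `c` the dodecad of mask `1466012`, `π = el P2`: `b0 ^ 2 = -1` and `b0` commutes with
  an element of order 13 of `Co0`;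
* a sign change on a dodecad commutes with an element of order 11.
-/

set_option autoImplicit false

namespace Cfsg.Agent.CoOneType.Thirteen

open Cfsg Cfsg.Spor Cfsg.Agent.SporadicA.GolayBase Cfsg.Agent.Leech.Enc Cfsg.Agent.Leech.Word
open Cfsg.Agent.SporadicA.GolayPerm Cfsg.Agent.SporadicStructure.M24El
open Cfsg.Agent.SporadicA.Co0Mono Cfsg.Agent.SporadicA.Co1Simple
open Cfsg.Agent.SporadicStructure.Co0Base (e8 e8_coe co0_ext_e8)
open Cfsg.Agent.J4.M24InvolData Cfsg.Agent.CoOneType.ThirteenData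
open scoped Pointwise

/-! ### The element `b0` -/

/-- The mask of the dodecad of `b0`. -/
def c0 : ℕ := 1466012

theorem c0_mem : word c0 ∈ golayCode := by
  rw [mem_golayCode_iff, maskW_word (by norm_num [c0])]
  decide +kernel

/-- The dodecad of `b0` as a code word. -/
def c0w : golayCode := ⟨word c0, c0_mem⟩

/-- An element of `Co0` with square `-1`. -/
noncomputable def b0 : Co0 := signCo0 c0w * permCo0 (el P2)

theorem ok_P2 : ok P2 = true := Cfsg.Agent.J4.M24Invol.ok_P2

theorem P2_sq : pcomp P2 P2 = idP := by decide +kernel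

theorem el_P2_sq : el P2 * el P2 = 1 := by
  rw [← el_pcomp ok_P2 ok_P2, P2_sq, el_idP]

theorem c0_add : pimg P2 c0 ^^^ c0 = 16777215 := by decide +kernel

theorem wordPerm_word (P : ℕ) (hP : ok P = true) (m : ℕ) (hm : word m ∈ golayCode)
    (hm' : word (pimg P m) ∈ golayCode) :
    wordPerm (el P) ⟨word m, hm⟩ = ⟨word (pimg P m), hm'⟩ := by
  apply Subtype.ext
  funext p
  show word m (((el P : M24) : Equiv.Perm GolayPt).symm p) = word (pimg P m) p
  have h1 := el_smul_fin hP m
  have h2 : ∀ q : GolayPt, q ∈ fin (pimg P m) ↔ ((el P)⁻¹ : M24) • q ∈ fin m := by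
    intro q
    rw [← h1]
    exact Finset.inv_smul_mem_iff.symm
  have h3 : ((el P : M24) : Equiv.Perm GolayPt).symm p = ((el P)⁻¹ : M24) • p := rfl
  rw [h3, word_apply, word_apply]
  have h4 := h2 p
  rw [mem_fin, mem_fin] at h4
  by_cases h : (pimg P m).testBit (idx p) = true
  · rw [if_pos h, if_pos (h4.1 h)]
  · rw [if_neg h, if_neg (fun h5 => h (h4.2 h5))]

theorem b0_sq : b0 * b0 = signCo0 allOne := by
  have h1 : permCo0 (el P2) * signCo0 c0w =
      signCo0 (wordPerm (el P2) c0w) * permCo0 (el P2) := perm_mul_sign _ _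
  have h2 : b0 * b0 = signCo0 c0w * (permCo0 (el P2) * signCo0 c0w) * permCo0 (el P2) := by
    unfold b0; group
  have hmem : word (pimg P2 c0) ∈ golayCode := by
    rw [mem_golayCode_iff, maskW_word (by decide +kernel)]
    decide +kernel
  have h3 : wordPerm (el P2) c0w = ⟨word (pimg P2 c0), hmem⟩ := wordPerm_word P2 ok_P2 c0 c0_mem hmem
  rw [h2, h1, h3]
  have h4 : signCo0 c0w * (signCo0 ⟨word (pimg P2 c0), hmem⟩ * permCo0 (el P2)) * permCo0 (el P2) =
      signCo0 c0w * signCo0 ⟨word (pimg P2 c0), hmem⟩ * permCo0 (el P2 * el P2) := by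
    rw [map_mul]; group
  rw [h4, el_P2_sq, map_one, mul_one, ← signCo0_add]
  congr 1
  apply Subtype.ext
  show word c0 + word (pimg P2 c0) = 1
  rw [add_comm, ← word_xor, c0_add, word_all]

/-! ### The element of order 13 -/

theorem check : Cfsg.Agent.Leech.Bridge.checkAll Y = true := by decide +kernel

theorem smul_e8 {m : ℕ × List ℕ} {g : Co0} (hg : IsMat m g) (i : GolayPt) :
    ((g • e8 i : leechLattice) : GolayPt → ℤ) = col m.2 i := by
  have h := hg.2 (e8 i)
  rw [Finset.sum_eq_single i] at h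
  · rw [e8_coe, Pi.single_eq_same] at h
    funext p
    have h1 := congrFun h p
    simp only [Pi.smul_apply, smul_eq_mul] at h1
    exact mul_left_cancel₀ (by norm_num) h1
  · intro q _ hq
    rw [e8_coe, Pi.single_eq_of_ne hq, zero_smul]
  · intro h
    exact absurd (Finset.mem_univ i) h

theorem run_pow {m : ℕ × List ℕ} {g : Co0} (hg : IsMat m g) (X0 : ℕ) :
    ∀ (n X : ℕ), valid X = true → run [m] (List.replicate n 0) X X0 = true →
      ∀ x : leechLattice, (x : GolayPt → ℤ) = vec X →
        ((g ^ n • x : leechLattice) : GolayPt → ℤ) = vec X0 := by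
  intro n
  induction n with
  | zero =>
    intro X _ h x hx
    rw [pow_zero, one_smul, hx]
    congr 1
    exact Nat.eq_of_beq_eq_true h
  | succ n ih =>
    intro X hX h x hx
    rw [List.replicate_succ] at h
    unfold run at h
    rw [Bool.and_eq_true, Bool.and_eq_true] at h
    obtain ⟨h1, h2, h3⟩ := h
    have h4 := step_eq hg hX h1 h2 x hx
    rw [pow_succ, mul_smul]
    exact ih _ h1 h3 (g • x) h4

/-- The packed vector `8 e_i`. -/
def pk (i : ℕ) : ℕ := 16 * ONE + 8 * 8192 ^ i

theorem pk_ok : (List.range 24).all (fun i => valid (pk i) &&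
    ((List.range 24).all (fun j => Nat.beq (dig (pk i) j) (if Nat.beq i j then 24 else 16)) &&
    run [Y] (List.replicate 13 0) (pk i) (pk i))) = true := by decide +kernel

theorem pk_spec {i : ℕ} (hi : i < 24) : valid (pk i) = true ∧
    (∀ j < 24, dig (pk i) j = if i = j then 24 else 16) ∧
    run [Y] (List.replicate 13 0) (pk i) (pk i) = true := by
  have h := pk_ok
  rw [List.all_eq_true] at h
  have h1 := h i (List.mem_range.2 hi)
  rw [Bool.and_eq_true, Bool.and_eq_true, List.all_eq_true] at h1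
  obtain ⟨h2, h3, h4⟩ := h1
  refine ⟨h2, fun j hj => ?_, h4⟩
  have h5 := Nat.eq_of_beq_eq_true (h3 j (List.mem_range.2 hj))
  rw [h5]
  by_cases e : i = j
  · subst e; simp
  · rw [if_neg e, if_neg (by rw [Nat.beq_eq]; exact e)]

theorem vec_pk (i : GolayPt) : ((e8 i : leechLattice) : GolayPt → ℤ) = vec (pk (idx i)) := by
  funext p
  rw [e8_coe, vec_apply, (pk_spec (idx_lt i)).2.1 _ (idx_lt p)]
  by_cases h : p = i
  · subst h; simp
  · rw [Pi.single_eq_of_ne h, if_neg (fun e => h (idx_injective e.symm))]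
    norm_num

/-- The checks of the commutation. -/
def comOk : Bool :=
  (List.range 24).all fun i => (List.range 24).all fun j =>
    let a := dig (Y.2.getD (papp P2 i) 0) j
    let b := dig (Y.2.getD i 0) (papp P2 j)
    if (c0.testBit (papp P2 i)) ^^ (c0.testBit j) then Nat.beq (a + b) 32 else Nat.beq a b

theorem comOk_true : comOk = true := by decide +kernel

theorem comOk_spec {i j : ℕ} (hi : i < 24) (hj : j < 24) :
    if (c0.testBit (papp P2 i)) ^^ (c0.testBit j) then
      dig (Y.2.getD (papp P2 i) 0) j + dig (Y.2.getD i 0) (papp P2 j) = 32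
    else dig (Y.2.getD (papp P2 i) 0) j = dig (Y.2.getD i 0) (papp P2 j) := by
  have h := comOk_true
  unfold comOk at h
  rw [List.all_eq_true] at h
  have h1 := h i (List.mem_range.2 hi)
  rw [List.all_eq_true] at h1
  have h2 := h1 j (List.mem_range.2 hj)
  split_ifs at h2 with h3
  · rw [if_pos h3]; exact Nat.eq_of_beq_eq_true h2
  · rw [if_neg h3]; exact Nat.eq_of_beq_eq_true h2

theorem sgn_word (m : ℕ) (p : GolayPt) : sgn (word m p) = if m.testBit (idx p) then -1 else 1 := by
  rw [word_apply]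
  split_ifs
  · exact sgn_one
  · exact sgn_zero

theorem idx_P2 (p : GolayPt) : idx (((el P2 : M24) : Equiv.Perm GolayPt) p) = papp P2 (idx p) :=
  idx_el_smul ok_P2 p

theorem P2_symm (p : GolayPt) : ((el P2 : M24) : Equiv.Perm GolayPt).symm p =
    ((el P2 : M24) : Equiv.Perm GolayPt) p := by
  rw [Equiv.symm_apply_eq]
  have h := congrArg (fun g : M24 => (g : Equiv.Perm GolayPt) p) el_P2_sq
  exact h.symm

theorem smul_zsmul_e8 (g : Co0) (n : ℤ) (v : leechLattice) : g • (n • v) = n • (g • v) :=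
  smul_zsmul g n v

theorem b0_e8 (i : GolayPt) :
    b0 • e8 i = (sgn (word c0 (((el P2 : M24) : Equiv.Perm GolayPt) i))) •
      e8 (((el P2 : M24) : Equiv.Perm GolayPt) i) := by
  unfold b0
  rw [mul_smul, perm_smul_e8]
  apply Subtype.ext
  funext j
  rw [signCo0_smul, signMap_apply]
  show sgn (word c0 j) * _ = sgn _ * ((e8 _ : leechLattice) : GolayPt → ℤ) j
  rw [e8_coe]
  by_cases h : j = ((el P2 : M24) : Equiv.Perm GolayPt) i
  · rw [h]
  · rw [Pi.single_eq_of_ne h, mul_zero, mul_zero]

theorem b0_smul (v : leechLattice) (j : GolayPt) : ((b0 • v : leechLattice) : GolayPt → ℤ) j =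
    sgn (word c0 j) * (v : GolayPt → ℤ) (((el P2 : M24) : Equiv.Perm GolayPt) j) := by
  unfold b0
  rw [mul_smul, signCo0_smul, signMap_apply, permCo0_smul, permMap_apply, P2_symm]
  rfl

theorem commute_of_isMat {g : Co0} (hg : IsMat Y g) : g * b0 = b0 * g := by
  apply co0_ext_e8
  intro i
  rw [mul_smul, mul_smul, b0_e8, smul_zsmul_e8]
  apply Subtype.ext
  funext j
  rw [b0_smul]
  show sgn _ * ((g • e8 _ : leechLattice) : GolayPt → ℤ) j = _
  rw [smul_e8 hg, smul_e8 hg, col_eq, col_eq, vec_apply, vec_apply, idx_P2, idx_P2, sgn_word,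
    sgn_word, idx_P2]
  have h := comOk_spec (idx_lt i) (idx_lt j)
  generalize dig (Y.2.getD (papp P2 (idx i)) 0) (idx j) = a at h ⊢
  generalize dig (Y.2.getD (idx i) 0) (papp P2 (idx j)) = b at h ⊢
  cases h1 : c0.testBit (papp P2 (idx i)) <;> cases h2 : c0.testBit (idx j) <;>
    simp only [h1, h2, Bool.xor_false, Bool.xor_true, Bool.not_true, Bool.not_false, if_true,
      Bool.false_eq_true, if_false] at h ⊢ <;> omega

theorem exists_thirteen : ∃ y : Co0, orderOf y = 13 ∧ y * b0 = b0 * y := by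
  obtain ⟨g, hg⟩ := Cfsg.Agent.Leech.Bridge.exists_isMat check
  refine ⟨g, ?_, commute_of_isMat hg⟩
  have : Fact (Nat.Prime 13) := ⟨by norm_num⟩
  apply orderOf_eq_prime
  · apply co0_ext_e8
    intro i
    rw [one_smul]
    apply Subtype.ext
    rw [vec_pk]
    exact run_pow hg _ 13 _ (pk_spec (idx_lt i)).1 (pk_spec (idx_lt i)).2.2 _ (vec_pk i)
  · intro h
    have h1 := smul_e8 hg (some 0)
    rw [h, one_smul, col_eq] at h1
    have h2 := congrFun h1 (some 0)
    rw [e8_coe, Pi.single_eq_same, vec_apply] at h2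
    have h3 : dig (Y.2.getD (idx (some 0)) 0) (idx (some 0)) = 14 := by decide +kernel
    rw [h3] at h2
    norm_num at h2

/-! ### The element of order 11 -/

/-- The unit 2 modulo 23. -/
def two : (ZMod 23)ˣ := ⟨2, 12, by decide, by decide⟩

theorem two_isSquare : IsSquare two := ⟨⟨5, 14, by decide, by decide⟩, Units.ext (by decide)⟩

/-- Multiplication by 2 as an element of `M24`. -/
def mu : M24 := ⟨Equiv.optionCongr (Units.mulLeft two), Cfsg.Agent.S0371.result two two_isSquare⟩

theorem mu_pow_some (n : ℕ) (a : ZMod 23) :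
    ((mu ^ n : M24) : Equiv.Perm GolayPt) (some a) = some (2 ^ n * a) := by
  induction n generalizing a with
  | zero => simp
  | succ n ih =>
    rw [pow_succ]
    show ((mu ^ n : M24) : Equiv.Perm GolayPt) (some (2 * a)) = _
    rw [ih, pow_succ]
    ring_nf

theorem mu_pow_none (n : ℕ) : ((mu ^ n : M24) : Equiv.Perm GolayPt) none = none := by
  induction n with
  | zero => simp
  | succ n ih =>
    rw [pow_succ]
    show ((mu ^ n : M24) : Equiv.Perm GolayPt) none = none
    exact ih

theorem mu_pow_11 : mu ^ 11 = 1 := by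
  apply Subtype.ext
  ext1 i
  cases i with
  | none => rw [mu_pow_none]; rfl
  | some a =>
    rw [mu_pow_some]
    have h : (2 : ZMod 23) ^ 11 = 1 := by decide
    rw [h, one_mul]
    rfl

theorem mu_ne_one : mu ≠ 1 := by
  intro h
  have h1 := mu_pow_some 1 1
  rw [pow_one, h] at h1
  exact absurd h1 (by decide)

theorem wordPerm_mu : wordPerm mu (q 0) = q 0 := by
  have key : ∀ a : ZMod 23, (∃ r : ZMod 23, a = r ^ 2 + 0) ↔ (∃ r : ZMod 23, 2 * a = r ^ 2 + 0) := by
    decide
  have h1 : ∀ i : GolayPt, qrWord 0 ((mu : Equiv.Perm GolayPt) i) = qrWord 0 i := by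
    intro i
    cases i with
    | none => rfl
    | some a =>
      show (if ∃ r : ZMod 23, 2 * a = r ^ 2 + 0 then (1 : ZMod 2) else 0) =
        if ∃ r : ZMod 23, a = r ^ 2 + 0 then 1 else 0
      by_cases h : ∃ r : ZMod 23, a = r ^ 2 + 0
      · rw [if_pos h, if_pos ((key a).1 h)]
      · rw [if_neg h, if_neg (fun h2 => h ((key a).2 h2))]
  apply Subtype.ext
  funext i
  show qrWord 0 ((mu : Equiv.Perm GolayPt).symm i) = qrWord 0 i
  have := h1 ((mu : Equiv.Perm GolayPt).symm i)
  rw [Equiv.apply_symm_apply] at this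
  exact this.symm

theorem card_q0 : (support₂ ((q 0 : golayCode) : GolayPt → ZMod 2)).card = 12 := by
  show (support₂ (qrWord 0)).card = 12
  decide

theorem permCo0_injective : Function.Injective permCo0 := by
  intro σ τ h
  apply Subtype.ext
  ext1 i
  have h1 : permCo0 σ • e8 i = permCo0 τ • e8 i := by rw [h]
  rw [perm_smul_e8, perm_smul_e8] at h1
  exact e8_inj h1

theorem wordPerm_support (σ : M24) (c d : golayCode)
    (h : σ • support₂ (c : GolayPt → ZMod 2) = support₂ (d : GolayPt → ZMod 2)) :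
    wordPerm σ c = d := by
  apply Subtype.ext
  funext i
  show (c : GolayPt → ZMod 2) ((σ : Equiv.Perm GolayPt).symm i) = (d : GolayPt → ZMod 2) i
  have h1 : i ∈ support₂ (d : GolayPt → ZMod 2) ↔
      (σ : Equiv.Perm GolayPt).symm i ∈ support₂ (c : GolayPt → ZMod 2) := by
    rw [← h]
    exact Finset.inv_smul_mem_iff.symm
  rw [mem_support₂, mem_support₂, ne_zero_iff_eq_one, ne_zero_iff_eq_one] at h1
  have h2 : ∀ a b : ZMod 2, (a = 1 ↔ b = 1) → b = a := by decide
  exact h2 _ _ h1

/-- A sign change on a dodecad commutes with an element of order 11. -/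
theorem exists_eleven (c : golayCode) (hc : (support₂ (c : GolayPt → ZMod 2)).card = 12) :
    ∃ y : Co0, orderOf y = 11 ∧ y * signCo0 c = signCo0 c * y := by
  have hmem : ∀ d : golayCode, (support₂ (d : GolayPt → ZMod 2)).card = 12 →
      support₂ (d : GolayPt → ZMod 2) ∈ dodecads := fun d hd => ⟨⟨_, d.2, rfl⟩, hd⟩
  obtain ⟨g, hg⟩ := Cfsg.Agent.S0368.result _ _ (hmem (q 0) card_q0) (hmem c hc)
  have h1 : wordPerm g (q 0) = c := wordPerm_support g _ _ hg
  have h2 : permCo0 mu * signCo0 (q 0) = signCo0 (q 0) * permCo0 mu := by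
    rw [perm_mul_sign, wordPerm_mu]
  have h3 : signCo0 c = permCo0 g * signCo0 (q 0) * (permCo0 g)⁻¹ := by
    rw [perm_mul_sign_mul_inv, h1]
  refine ⟨permCo0 g * permCo0 mu * (permCo0 g)⁻¹, ?_, ?_⟩
  · have : Fact (Nat.Prime 11) := ⟨by norm_num⟩
    apply orderOf_eq_prime
    · rw [conj_pow, ← map_pow, mu_pow_11, map_one]; group
    · intro h
      have h4 : permCo0 mu = 1 := by
        have h5 : permCo0 mu = (permCo0 g)⁻¹ * (permCo0 g * permCo0 mu * (permCo0 g)⁻¹) *
          permCo0 g := by group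
        rw [h5, h]; group
      rw [← map_one permCo0] at h4
      exact mu_ne_one (permCo0_injective h4)
  · rw [h3]
    have h5 : permCo0 g * permCo0 mu * (permCo0 g)⁻¹ * (permCo0 g * signCo0 (q 0) * (permCo0 g)⁻¹) =
        permCo0 g * (permCo0 mu * signCo0 (q 0)) * (permCo0 g)⁻¹ := by group
    rw [h5, h2]
    group

/-! ### Consequences in `Co1` -/

theorem dvd_card_centralizer {p : ℕ} (hp : p.Prime) (hp2 : p ≠ 2) {t y : Co0}
    (hy : orderOf y = p) (h : y * t = t * y) :
    p ∣ Nat.card (Subgroup.centralizer {((t : Co0) : Co1)} : Subgroup Co1) := by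
  have hmem : ((y : Co0) : Co1) ∈ (Subgroup.centralizer {((t : Co0) : Co1)} : Subgroup Co1) := by
    rw [Subgroup.mem_centralizer_singleton_iff]
    show ((y * t : Co0) : Co1) = ((t * y : Co0) : Co1)
    rw [h]
  have hord : orderOf ((y : Co0) : Co1) = p := by
    have : Fact p.Prime := ⟨hp⟩
    apply orderOf_eq_prime
    · have h1 : ((y ^ p : Co0) : Co1) = ((y : Co0) : Co1) ^ p := rfl
      rw [← h1, ← hy, pow_orderOf_eq_one]
      rfl
    · intro h1
      rw [QuotientGroup.eq_one_iff] at h1
      have h2 : (⟨y, h1⟩ : Subgroup.center Co0) ^ 2 = 1 := by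
        rw [← Cfsg.Agent.S0398.result]
        exact pow_card_eq_one'
      have h3 : y ^ 2 = 1 := congrArg Subtype.val h2
      have h4 := orderOf_dvd_of_pow_eq_one h3
      rw [hy] at h4
      exact hp2 ((Nat.prime_dvd_prime_iff_eq hp Nat.prime_two).1 h4)
  rw [← hord, ← Subgroup.orderOf_mk _ hmem]
  exact orderOf_dvd_natCard _

theorem dvd_card_centralizer_conj {p : ℕ} {a b : Co1} (h : ∃ g : Co1, g * a * g⁻¹ = b)
    (hp : p ∣ Nat.card (Subgroup.centralizer {a} : Subgroup Co1)) :
    p ∣ Nat.card (Subgroup.centralizer {b} : Subgroup Co1) := by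
  obtain ⟨g, rfl⟩ := h
  have e : (Subgroup.centralizer {a} : Subgroup Co1) ≃
      (Subgroup.centralizer {g * a * g⁻¹} : Subgroup Co1) :=
    { toFun := fun x => ⟨g * x.1 * g⁻¹, by
        rw [Subgroup.mem_centralizer_singleton_iff]
        have hx := x.2
        rw [Subgroup.mem_centralizer_singleton_iff] at hx
        have : g * x.1 * g⁻¹ * (g * a * g⁻¹) = g * (x.1 * a) * g⁻¹ := by group
        rw [this, hx]; group⟩
      invFun := fun x => ⟨g⁻¹ * x.1 * g, by
        rw [Subgroup.mem_centralizer_singleton_iff]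
        have hx := x.2
        rw [Subgroup.mem_centralizer_singleton_iff] at hx
        have : g⁻¹ * x.1 * g * a = g⁻¹ * (x.1 * (g * a * g⁻¹)) * g := by group
        rw [this, hx]; group⟩
      left_inv := fun x => Subtype.ext (by simp only; group)
      right_inv := fun x => Subtype.ext (by simp only; group) }
  rw [← Nat.card_congr e]
  exact hp

/-- `13` divides the order of the centraliser of `b0` in `Co1`. -/
theorem thirteen_dvd : 13 ∣ Nat.card (Subgroup.centralizer {((b0 : Co0) : Co1)} : Subgroup Co1) := by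
  obtain ⟨y, hy, h⟩ := exists_thirteen
  exact dvd_card_centralizer (by norm_num) (by norm_num) hy h

/-- `13` divides the order of the centraliser in `Co1` of the image of a conjugate of `b0`. -/
theorem thirteen_dvd_of_conj (t : Co0) (h : ∃ g : Co0, g * t * g⁻¹ = b0) :
    13 ∣ Nat.card (Subgroup.centralizer {((t : Co0) : Co1)} : Subgroup Co1) := by
  obtain ⟨g, hg⟩ := h
  refine dvd_card_centralizer_conj ⟨((g⁻¹ : Co0) : Co1), ?_⟩ thirteen_dvd
  rw [← hg]
  show ((g⁻¹ * (g * t * g⁻¹) * g⁻¹⁻¹ : Co0) : Co1) = _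
  congr 1
  group

/-- `11` divides the order of the centraliser in `Co1` of a sign change on a dodecad. -/
theorem eleven_dvd (c : golayCode) (hc : (support₂ (c : GolayPt → ZMod 2)).card = 12) :
    11 ∣ Nat.card (Subgroup.centralizer {((signCo0 c : Co0) : Co1)} : Subgroup Co1) := by
  obtain ⟨y, hy, h⟩ := exists_eleven c hc
  exact dvd_card_centralizer (by norm_num) (by norm_num) hy h

/-- `11` divides the order of the centraliser in `Co1` of the image of a conjugate of a sign change
on a dodecad. -/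
theorem eleven_dvd_of_conj (c : golayCode) (hc : (support₂ (c : GolayPt → ZMod 2)).card = 12)
    (t : Co0) (h : ∃ g : Co0, g * t * g⁻¹ = signCo0 c) :
    11 ∣ Nat.card (Subgroup.centralizer {((t : Co0) : Co1)} : Subgroup Co1) := by
  obtain ⟨g, hg⟩ := h
  refine dvd_card_centralizer_conj ⟨((g⁻¹ : Co0) : Co1), ?_⟩ (eleven_dvd c hc)
  rw [← hg]
  show ((g⁻¹ * (g * t * g⁻¹) * g⁻¹⁻¹ : Co0) : Co1) = _
  congr 1
  group

end Cfsg.Agent.CoOneType.Thirteen
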