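import Cfsg.Agent.CoOneType.SignFacts
import Cfsg.Agent.CoOneType.Thirteen
import Cfsg.Agent.S0367

/-!
# The classes of involutions of `Co1` (facts for the closing step)

From the two classification facts on `Co0` (hypotheses `A1`, `A1'`):

* `A1` : an element of square 1 is conjugate to a sign change;
* `A1'` : an element of square `-1` is conjugate to `b0`

we derive the hypotheses `hLz`, `hLc`, `C4` of `Cfsg.Agent.SporRec.Closing249.surjective_of_facts`
for `z` = sign change on an octad, `c` = sign change on a dodecad.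
-/

set_option autoImplicit false

namespace Cfsg.Agent.CoOneType.ClosingFacts

open Cfsg Cfsg.Spor Cfsg.Agent.SporadicA.Co0Mono Cfsg.Agent.SporadicA.Co1Simple
open Cfsg.Agent.CoOneType.SignFacts Cfsg.Agent.CoOneType.Thirteen
open scoped Pointwise

/-- Every element of square 1 of `Co0` is conjugate to a sign change. -/
def A1 : Prop := ∀ t : Co0, t * t = 1 → ∃ (g : Co0) (c : golayCode), g * t * g⁻¹ = signCo0 c

/-- Every element of square `-1` of `Co0` is conjugate to `b0`. -/
def A1' : Prop := ∀ t : Co0, t * t = signCo0 allOne → ∃ g : Co0, g * t * g⁻¹ = b0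

/-- The image in `Co1`. -/
abbrev mk (t : Co0) : Co1 := ((t : Co0) : Co1)

theorem mk_mul (a b : Co0) : mk (a * b) = mk a * mk b := rfl

theorem mk_inv (a : Co0) : mk a⁻¹ = (mk a)⁻¹ := rfl

theorem exists_mk (k : Co1) : ∃ t : Co0, mk t = k := QuotientGroup.mk_surjective k

theorem neg_eq : Cfsg.Agent.SporadicA.Co0Basic.negCo0 = signCo0 allOne := by
  apply Cfsg.Agent.SporadicA.Co0Mono.ext
  intro v
  rw [allOne_smul]
  rfl

theorem mem_center_iff (t : Co0) : t ∈ Subgroup.center Co0 ↔ t = 1 ∨ t = signCo0 allOne := by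
  constructor
  · intro h
    rcases Cfsg.Agent.SporadicA.Co0Basic.eq_one_or_neg_of_mem_center h with h | h
    · exact Or.inl h
    · right; rw [h, neg_eq]
  · rintro (rfl | rfl)
    · exact Subgroup.one_mem _
    · exact allOne_mem_center

theorem mk_eq_one (t : Co0) : mk t = 1 ↔ t = 1 ∨ t = signCo0 allOne := by
  rw [← mem_center_iff]
  exact QuotientGroup.eq_one_iff t

theorem mk_eq (s t : Co0) : mk s = mk t ↔ s = t ∨ s = t * signCo0 allOne := by
  have h1 : mk s = mk t ↔ mk (t⁻¹ * s) = 1 := by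
    rw [mk_mul, mk_inv, inv_mul_eq_one, eq_comm]
  rw [h1, mk_eq_one, inv_mul_eq_one, inv_mul_eq_iff_eq_mul, eq_comm]

theorem isConj_mk {s t : Co0} (g : Co0) (h : g * s * g⁻¹ = t) : IsConj (mk s) (mk t) := by
  rw [isConj_iff]
  refine ⟨mk g, ?_⟩
  rw [← mk_mul, ← mk_inv, ← mk_mul, h]

theorem isConj_sign {c d : golayCode} (g : M24) (h : wordPerm g c = d) :
    IsConj (mk (signCo0 c)) (mk (signCo0 d)) :=
  isConj_mk (permCo0 g) (by rw [perm_mul_sign_mul_inv, h])

theorem isConj_octad {c d : golayCode} (hc : wt c = 8) (hd : wt d = 8) :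
    IsConj (mk (signCo0 c)) (mk (signCo0 d)) := by
  obtain ⟨g, hg⟩ := Cfsg.Agent.S0367.result (sup c) (sup d) ⟨sup_mem c, hc⟩ ⟨sup_mem d, hd⟩
  exact isConj_sign g (wordPerm_support g c d hg)

theorem isConj_dodecad {c d : golayCode} (hc : wt c = 12) (hd : wt d = 12) :
    IsConj (mk (signCo0 c)) (mk (signCo0 d)) := by
  obtain ⟨g, hg⟩ := Cfsg.Agent.S0368.result (sup c) (sup d) ⟨sup_mem c, hc⟩ ⟨sup_mem d, hd⟩
  exact isConj_sign g (wordPerm_support g c d hg)

theorem mk_add_allOne (c : golayCode) : mk (signCo0 (c + allOne)) = mk (signCo0 c) := by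
  rw [mk_eq]
  right
  rw [signCo0_add]

theorem eq_zero_of_wt {c : golayCode} (h : wt c = 0) : c = 0 := by
  apply Subtype.ext
  funext i
  have h1 : i ∉ sup c := by
    have : sup c = ∅ := Finset.card_eq_zero.1 h
    rw [this]; exact Finset.notMem_empty i
  exact (notMem_sup c i).1 h1

theorem eq_allOne_of_wt {c : golayCode} (h : wt c = 24) : c = allOne := by
  have h1 : wt (c + allOne) = 0 := by
    have := wt_add_allOne c
    omega
  have h2 := eq_zero_of_wt h1
  rw [add_eq_zero_iff_eq_neg] at h2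
  rw [h2]
  apply Subtype.ext
  funext i
  show -(1 : ZMod 2) = 1
  decide

variable (o d : golayCode) (ho : wt o = 8) (hd : wt d = 12)

/-- Images of sign changes. -/
theorem sign_cases (ho : wt o = 8) (hd : wt d = 12) (c : golayCode) (h1 : mk (signCo0 c) ≠ 1) :
    IsConj (mk (signCo0 o)) (mk (signCo0 c)) ∨ IsConj (mk (signCo0 d)) (mk (signCo0 c)) := by
  rcases wt_cases c with h | h | h | h | h
  · exfalso
    apply h1
    rw [eq_zero_of_wt h, signCo0_zero]
    rfl
  · exact Or.inl (isConj_octad ho h)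
  · exact Or.inr (isConj_dodecad hd h)
  · left
    rw [← mk_add_allOne c]
    apply isConj_octad ho
    have := wt_add_allOne c
    omega
  · exfalso
    apply h1
    rw [eq_allOne_of_wt h, mk_eq_one]
    exact Or.inr rfl

/-- Images of elements of square 1. -/
theorem inv_cases (hA1 : A1) (ho : wt o = 8) (hd : wt d = 12) (t : Co0) (ht : t * t = 1)
    (h1 : mk t ≠ 1) :
    IsConj (mk (signCo0 o)) (mk t) ∨ IsConj (mk (signCo0 d)) (mk t) := by
  obtain ⟨g, c, hg⟩ := hA1 t ht
  have h2 : IsConj (mk t) (mk (signCo0 c)) := isConj_mk g hg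
  have h3 : mk (signCo0 c) ≠ 1 := by
    intro h
    rw [h, isConj_one_left] at h2
    exact h1 h2
  rcases sign_cases o d ho hd c h3 with h | h
  · exact Or.inl (h.trans h2.symm)
  · exact Or.inr (h.trans h2.symm)

theorem sq_of_isConj_sign {c : golayCode} {t : Co0} (h : IsConj (mk (signCo0 c)) (mk t)) :
    t * t = 1 := by
  obtain ⟨g, hg⟩ := isConj_iff.1 h
  obtain ⟨g', rfl⟩ := exists_mk g
  rw [← mk_mul, ← mk_inv, ← mk_mul, mk_eq] at hg
  have h2 : (g' * signCo0 c * g'⁻¹) * (g' * signCo0 c * g'⁻¹) = 1 := by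
    have : (g' * signCo0 c * g'⁻¹) * (g' * signCo0 c * g'⁻¹) =
        g' * (signCo0 c * signCo0 c) * g'⁻¹ := by group
    rw [this, signCo0_mul_self]; group
  rcases hg with hg | hg
  · rw [← hg]; exact h2
  · rw [hg] at h2
    have h3 : t * signCo0 allOne * (t * signCo0 allOne) =
        t * t * (signCo0 allOne * signCo0 allOne) := by
      have := sign_allOne_comm t
      calc t * signCo0 allOne * (t * signCo0 allOne)
          = t * (signCo0 allOne * t) * signCo0 allOne := by group
        _ = t * (t * signCo0 allOne) * signCo0 allOne := by rw [this]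
        _ = _ := by group
    rw [h3, signCo0_mul_self, mul_one] at h2
    exact h2

/-- Involutions of `Co1`. -/
theorem co1_cases (hA1 : A1) (hA1' : A1') (ho : wt o = 8) (hd : wt d = 12) (k : Co1)
    (hk : k * k = 1) (hk1 : k ≠ 1) :
    IsConj (mk (signCo0 o)) k ∨ IsConj (mk (signCo0 d)) k ∨
      ∃ t : Co0, mk t = k ∧ ∃ g : Co0, g * t * g⁻¹ = b0 := by
  obtain ⟨t, rfl⟩ := exists_mk k
  rw [← mk_mul, mk_eq_one] at hk
  rcases hk with hk | hk
  · rcases inv_cases o d hA1 ho hd t hk hk1 with h | h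
    · exact Or.inl h
    · exact Or.inr (Or.inl h)
  · exact Or.inr (Or.inr ⟨t, rfl, hA1' t hk⟩)

theorem not_isConj (ho : wt o = 8) (hd : wt d = 12) :
    ¬ IsConj (mk (signCo0 o)) (mk (signCo0 d)) := by
  intro h
  obtain ⟨g, hg⟩ := isConj_iff.1 h
  obtain ⟨g', rfl⟩ := exists_mk g
  rw [← mk_mul, ← mk_inv, ← mk_mul, mk_eq] at hg
  rcases hg with hg | hg
  · have := wt_eq_of_conj o d g' (by rw [← hg]; group)
    omega
  · rw [← signCo0_add] at hg
    have h1 := wt_eq_of_conj o (d + allOne) g' (by rw [← hg]; group)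
    have h2 := wt_add_allOne d
    omega

theorem isConj_dvd {p : ℕ} {a b : Co1} (h : IsConj a b)
    (hp : p ∣ Nat.card (Subgroup.centralizer {a} : Subgroup Co1)) :
    p ∣ Nat.card (Subgroup.centralizer {b} : Subgroup Co1) :=
  dvd_card_centralizer_conj (isConj_iff.1 h) hp

/-- Hypothesis `hLz` of the closing theorem. -/
theorem hLz (hA1 : A1) (hA1' : A1') (ho : wt o = 8) (hd : wt d = 12)
    (h11 : ¬ 11 ∣ Nat.card (Subgroup.centralizer {mk (signCo0 o)} : Subgroup Co1))
    (h13 : ¬ 13 ∣ Nat.card (Subgroup.centralizer {mk (signCo0 o)} : Subgroup Co1)) :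
    ∀ k : Co1, k * k = 1 → k ≠ 1 → ¬ IsConj (mk (signCo0 o)) k →
      ¬ (Nat.card (Subgroup.centralizer ({k} : Set Co1)) ∣
        Nat.card (Subgroup.centralizer ({mk (signCo0 o)} : Set Co1))) := by
  intro k hk hk1 hnot hdvd
  rcases co1_cases o d hA1 hA1' ho hd k hk hk1 with h | h | ⟨t, rfl, h⟩
  · exact hnot h
  · exact h11 ((isConj_dvd h (eleven_dvd d hd)).trans hdvd)
  · exact h13 ((thirteen_dvd_of_conj t h).trans hdvd)

/-- Hypothesis `hLc` of the closing theorem. -/
theorem hLc (hA1 : A1) (hA1' : A1') (ho : wt o = 8) (hd : wt d = 12)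
    (h13 : ¬ 13 ∣ Nat.card (Subgroup.centralizer {mk (signCo0 d)} : Subgroup Co1)) :
    ∀ k : Co1, k * k = 1 → k ≠ 1 → ¬ IsConj (mk (signCo0 o)) k → ¬ IsConj (mk (signCo0 d)) k →
      ¬ (Nat.card (Subgroup.centralizer ({k} : Set Co1)) ∣
        Nat.card (Subgroup.centralizer ({mk (signCo0 d)} : Set Co1))) := by
  intro k hk hk1 hnot hnot' hdvd
  rcases co1_cases o d hA1 hA1' ho hd k hk hk1 with h | h | ⟨t, rfl, h⟩
  · exact hnot h
  · exact hnot' h
  · exact h13 ((thirteen_dvd_of_conj t h).trans hdvd)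

/-- Hypothesis `C4` of the closing theorem. -/
theorem C4 (hA1 : A1) (ho : wt o = 8) (hd : wt d = 12) :
    ∀ k : Co1, k * mk (signCo0 o) = mk (signCo0 o) * k → mk (signCo0 o) * k ≠ 1 →
      (IsConj (mk (signCo0 o)) k ∨ IsConj (mk (signCo0 d)) k) →
      (IsConj (mk (signCo0 o)) (mk (signCo0 o) * k) ∨
        IsConj (mk (signCo0 d)) (mk (signCo0 o) * k)) := by
  intro k hcomm hne hk
  obtain ⟨t, rfl⟩ := exists_mk k
  have ht : t * t = 1 := by
    rcases hk with hk | hk
    · exact sq_of_isConj_sign hk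
    · exact sq_of_isConj_sign hk
  rw [← mk_mul, ← mk_mul, mk_eq] at hcomm
  have hcomm' : t * signCo0 o = signCo0 o * t := by
    rcases hcomm with h | h
    · exact h
    · exfalso
      have h1 : t * signCo0 o = signCo0 (o + allOne) * t := by
        rw [h, signCo0_add, mul_assoc, mul_assoc, sign_allOne_comm t]
      have h2 := wt_eq_of_conj o (o + allOne) t h1
      have h3 := wt_add_allOne o
      omega
  have hsq : signCo0 o * t * (signCo0 o * t) = 1 := by
    calc signCo0 o * t * (signCo0 o * t) = signCo0 o * (t * signCo0 o) * t := by group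
      _ = signCo0 o * (signCo0 o * t) * t := by rw [hcomm']
      _ = (signCo0 o * signCo0 o) * (t * t) := by group
      _ = 1 := by rw [signCo0_mul_self, ht, one_mul]
  exact inv_cases o d hA1 ho hd (signCo0 o * t) hsq hne

end Cfsg.Agent.CoOneType.ClosingFacts
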