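import Cfsg.Agent.CoOneType.InvCheck
import Cfsg.Agent.S0368
import Cfsg.Agent.SporadicA.OctadStab

/-!
Elements `t` of `Co0` with `t * t = 1` are conjugate to sign changes (`conj_sign_of_sq_one`);
elements with `t * t = -1` form one conjugacy class (`conj_b0_of_sq_neg`).
-/

set_option autoImplicit false
open Cfsg
open scoped Pointwise

namespace Cfsg.Agent.CoOneType.InvMain

open Cfsg.Agent.SporadicA.GolayBase Cfsg.Agent.SporadicA.GolayPerm
open Cfsg.Agent.SporadicStructure.M24El Cfsg.Agent.SporadicA.Co0Mono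
open Cfsg.Agent Cfsg.Agent.SporadicA.Co1Simple
open Cfsg.Agent.Co2Type.Mono
open Cfsg.Agent.CoOneType.InvClasses Cfsg.Agent.CoOneType.InvCheck
open Cfsg.Agent.J4.M24InvolData (P1 P2)
open Cfsg.Agent.J4.M24Invol (ok_P1 ok_P2 invol_conj)

/-! ### monomial elements -/

/-- A monomial element determines its sign word and its permutation. -/
theorem sp_inj {c d : golayCode} {σ τ : M24}
    (h : signCo0 c * permCo0 σ = signCo0 d * permCo0 τ) : c = d ∧ σ = τ := by
  obtain ⟨m, hm, rfl⟩ := exists_cd c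
  obtain ⟨n, hn, rfl⟩ := exists_cd d
  obtain ⟨P, -, -, rfl⟩ := exists_el σ
  obtain ⟨Q, -, -, rfl⟩ := exists_el τ
  obtain ⟨h1, h2⟩ := mo_inj hm hn h
  exact ⟨by rw [h1], h2⟩

theorem sp_mul (c d : golayCode) (σ τ : M24) :
    (signCo0 c * permCo0 σ) * (signCo0 d * permCo0 τ) =
      signCo0 (c + wordPerm σ d) * permCo0 (σ * τ) := by
  rw [mul_assoc, ← mul_assoc (permCo0 σ), perm_mul_sign, mul_assoc, ← map_mul, ← mul_assoc,
    ← signCo0_add]

/-- Conjugation of a monomial element by a sign change. -/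
theorem conj_by_sign (c d : golayCode) (σ : M24) :
    signCo0 d * (signCo0 c * permCo0 σ) * (signCo0 d)⁻¹ =
      signCo0 (c + (d + wordPerm σ d)) * permCo0 σ := by
  rw [signCo0_inv, mul_assoc, mul_assoc (signCo0 c), perm_mul_sign, ← mul_assoc (signCo0 c),
    ← signCo0_add, ← mul_assoc, ← signCo0_add]
  congr 2
  rw [← add_assoc, ← add_assoc, add_comm d c]

/-- Conjugation of a monomial element by a coordinate permutation. -/
theorem conj_by_perm (c : golayCode) (g σ : M24) :
    permCo0 g * (signCo0 c * permCo0 σ) * (permCo0 g)⁻¹ =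
      signCo0 (wordPerm g c) * permCo0 (g * σ * g⁻¹) := by
  rw [← mul_assoc, perm_mul_sign, mul_assoc, mul_assoc, map_mul, map_mul, map_inv, mul_assoc]

/-- Cases for the elements of `M24` with square 1. -/
theorem perm_cases (σ : M24) (h : σ * σ = 1) :
    σ = 1 ∨ ∃ g : M24, g * σ * g⁻¹ = el P1 ∨ g * σ * g⁻¹ = el P2 := by
  by_cases h1 : σ = 1
  · exact Or.inl h1
  · exact Or.inr (invol_conj σ h h1)

/-! ### The two types of permutations -/

theorem signed_P1 {m : ℕ} (hm : isCode m = true) (h : pimg P1 m = m) :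
    ∃ (g : Co0) (c : golayCode), g * mo m P1 * g⁻¹ = signCo0 c := by
  obtain ⟨i, hi, rfl⟩ := isCode_iff_exists.1 hm
  have h1 := allR_zero_spec check1 i hi
  rw [h, Nat.beq_refl, Bool.not_true, Bool.false_or, List.any_eq_true] at h1
  obtain ⟨r, hr, h2⟩ := h1
  obtain ⟨hF, hd⟩ := frames1_ok r hr
  rw [Bool.or_eq_true] at h2
  rcases h2 with h2 | h2
  · exact conj_of_chk hF ok_P1 hm h2
  · obtain ⟨g, c, hc⟩ := conj_of_chk hF ok_P1
      (isCode_xor hm (isCode_xor hd (isCode_pimg ok_P1 hd))) h2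
    refine ⟨g * signCo0 (cd r.2.2), c, ?_⟩
    rw [← hc]
    have h3 := conj_by_sign (cd (enc i)) (cd r.2.2) (el P1)
    rw [wordPerm_cd ok_P1 hd, ← cd_xor hd (isCode_pimg ok_P1 hd),
      ← cd_xor hm (isCode_xor hd (isCode_pimg ok_P1 hd))] at h3
    show _ = g * (signCo0 _ * permCo0 _) * g⁻¹
    rw [← h3]
    unfold mo
    group

theorem exists_P2 {m : ℕ} (hm : isCode m = true) (h : pimg P2 m = m) :
    ∃ d, isCode d = true ∧ d ^^^ pimg P2 d = m := by
  obtain ⟨i, hi, rfl⟩ := isCode_iff_exists.1 hm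
  have h1 := allR_zero_spec check2 i hi
  rw [h, Nat.beq_refl, Bool.not_true, Bool.false_or, Nat.beq_eq] at h1
  exact ⟨_, isCode_enc _, h1⟩

/-- Two monomial elements with permutation part `P2` whose sign words differ by an invariant word
are conjugate. -/
theorem conj_P2 {m n : ℕ} (hm : isCode m = true) (hn : isCode n = true)
    (h : pimg P2 (m ^^^ n) = m ^^^ n) : ∃ g : Co0, g * mo m P2 * g⁻¹ = mo n P2 := by
  obtain ⟨d, hd, h1⟩ := exists_P2 (isCode_xor hm hn) h
  refine ⟨signCo0 (cd d), ?_⟩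
  unfold mo
  rw [conj_by_sign, wordPerm_cd ok_P2 hd, ← cd_xor hd (isCode_pimg ok_P2 hd), h1,
    ← cd_xor hm (isCode_xor hm hn), ← Nat.xor_assoc, Nat.xor_self, Nat.zero_xor]

/-- A word for which the monomial element with permutation part `P2` is conjugate to a sign change. -/
theorem chk2_ok : chk [54, 10504, 115712, 786945, 4325568, 11538432] P2
    (4845570 ^^^ pimg P2 4845570) = true := by decide +kernel

theorem signed_P2 {m : ℕ} (hm : isCode m = true) (h : pimg P2 m = m) :
    ∃ (g : Co0) (c : golayCode), g * mo m P2 * g⁻¹ = signCo0 c := by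
  obtain ⟨hF, hd⟩ := frames2_ok (3299004463658510057987,
    [54, 10504, 115712, 786945, 4325568, 11538432], 4845570) (List.mem_singleton.2 rfl)
  have hd' : isCode (4845570 ^^^ pimg P2 4845570) = true := isCode_xor hd (isCode_pimg ok_P2 hd)
  obtain ⟨g, c, hc⟩ := conj_of_chk hF ok_P2 hd' chk2_ok
  obtain ⟨g', hg'⟩ := conj_P2 hm hd' (by
    rw [pimg_xor (ok_iff.1 ok_P2).1, h]
    congr 1)
  refine ⟨g * g', c, ?_⟩
  rw [← hc, ← hg']
  group

/-! ### The classes -/

theorem xor_of_sq {m w P : ℕ} (hm : isCode m = true) (hw : isCode w = true) (hP : ok P = true)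
    (h : mo m P * mo m P = signCo0 (cd w)) : m ^^^ pimg P m = w := by
  unfold mo at h
  rw [sp_mul, wordPerm_cd hP hm, ← cd_xor hm (isCode_pimg hP hm)] at h
  have h1 : signCo0 (cd w) = signCo0 (cd w) * permCo0 1 := by rw [map_one, mul_one]
  rw [h1] at h
  exact cd_inj (isCode_xor hm (isCode_pimg hP hm)) hw (sp_inj h).1

theorem cd_all : cd 16777215 = allOne := by
  apply Subtype.ext
  rw [coe_cd (by decide +kernel), word_all]
  rfl

theorem conj_sq {g t z : Co0} (h : t * t = z) : (g * t * g⁻¹) * (g * t * g⁻¹) = g * z * g⁻¹ := by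
  rw [← h]
  group

/-- An element with square `±1` is conjugate to a sign change or to a monomial element with
permutation part `P1` or `P2`. -/
theorem exists_conj_mo (t z : Co0) (hz : z ∈ Subgroup.center Co0) (hz2 : z * z = 1)
    (hz1 : ∃ w, z = signCo0 w) (ht : t * t = z) :
    (∃ (g : Co0) (c : golayCode), g * t * g⁻¹ = signCo0 c) ∨
      ∃ (g : Co0) (m : ℕ) (P : ℕ), (P = P1 ∨ P = P2) ∧ isCode m = true ∧ g * t * g⁻¹ = mo m P := by
  obtain ⟨g₀, c₀, σ, h0⟩ := FrameFix.exists_conj_sign_perm (t := t) (n := 2)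
    (by rw [show (2 : ℕ) ^ 2 = 2 * 2 from rfl, pow_mul, pow_two, pow_two, ht, hz2])
  obtain ⟨w, hw⟩ := hz1
  have hsq := conj_sq (g := g₀) ht
  rw [h0, sp_mul, (Subgroup.mem_center_iff.1 hz g₀), mul_inv_cancel_right, hw] at hsq
  have h1 : signCo0 w = signCo0 w * permCo0 1 := by rw [map_one, mul_one]
  rw [h1] at hsq
  have hσ := (sp_inj hsq).2
  rcases perm_cases σ hσ with rfl | ⟨g, hg⟩
  · left
    refine ⟨g₀, c₀, ?_⟩
    rw [h0, map_one, mul_one]
  · right
    obtain ⟨m, hm, hcm⟩ := exists_cd (wordPerm g c₀)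
    have h2 : (permCo0 g * g₀) * t * (permCo0 g * g₀)⁻¹ =
        signCo0 (cd m) * permCo0 (g * σ * g⁻¹) := by
      rw [hcm, ← conj_by_perm, ← h0]
      group
    rcases hg with hg | hg
    · exact ⟨_, m, P1, Or.inl rfl, hm, by rw [h2, hg]; rfl⟩
    · exact ⟨_, m, P2, Or.inr rfl, hm, by rw [h2, hg]; rfl⟩

/-- Every element `t` of `Co0` with `t * t = 1` is conjugate to a sign change. -/
theorem conj_sign_of_sq_one (t : Co0) (ht : t * t = 1) :
    ∃ (g : Co0) (c : golayCode), g * t * g⁻¹ = signCo0 c := by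
  rcases exists_conj_mo t 1 (Subgroup.one_mem _) (one_mul 1) ⟨0, signCo0_zero.symm⟩ ht with
    h | ⟨g, m, P, hP, hm, hg⟩
  · exact h
  · have h1 : mo m P * mo m P = signCo0 (cd 0) := by
      rw [← hg, conj_sq ht, cd_zero, signCo0_zero]
      group
    have key : ∃ (k : Co0) (c : golayCode), k * mo m P * k⁻¹ = signCo0 c := by
      rcases hP with rfl | rfl
      · exact signed_P1 hm (Nat.xor_eq_zero_iff.1 (xor_of_sq hm isCode_zero ok_P1 h1)).symm
      · exact signed_P2 hm (Nat.xor_eq_zero_iff.1 (xor_of_sq hm isCode_zero ok_P2 h1)).symm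
    obtain ⟨k, c, hk⟩ := key
    refine ⟨k * g, c, ?_⟩
    rw [← hk, ← hg]
    group

/-- The word of `b0`. -/
def b0m : ℕ := 1466012

theorem isCode_b0m : isCode b0m = true := by decide +kernel

theorem b0m_xor : b0m ^^^ pimg P2 b0m = 16777215 := by decide +kernel

/-- The representative of the elements with square `-1`. -/
noncomputable def b0 : Co0 := signCo0 (cd b0m) * permCo0 (el P2)

theorem b0_mul_self : b0 * b0 = signCo0 allOne := by
  unfold b0
  rw [sp_mul, wordPerm_cd ok_P2 isCode_b0m, ← cd_xor isCode_b0m (isCode_pimg ok_P2 isCode_b0m),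
    b0m_xor, cd_all, ← el_pcomp ok_P2 ok_P2]
  have h : el (pcomp P2 P2) = 1 := by
    have : pcomp P2 P2 = idP := by decide +kernel
    rw [this, el_idP]
  rw [h, map_one, mul_one]

/-- Every element `t` of `Co0` with `t * t = -1` is conjugate to `b0`. -/
theorem conj_b0_of_sq_neg (t : Co0) (ht : t * t = signCo0 allOne) :
    ∃ g : Co0, g * t * g⁻¹ = b0 := by
  rcases exists_conj_mo t _ allOne_mem_center (signCo0_mul_self _) ⟨_, rfl⟩ ht with
    ⟨g, c, hg⟩ | ⟨g, m, P, hP, hm, hg⟩
  · exfalso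
    have h1 := conj_sq (g := g) ht
    rw [hg, signCo0_mul_self, (Subgroup.mem_center_iff.1 allOne_mem_center g),
      mul_inv_cancel_right, ← signCo0_zero] at h1
    have h2 : signCo0 0 * permCo0 1 = signCo0 allOne * permCo0 1 := by rw [h1]
    have h3 := congrArg (fun c : golayCode => (c : GolayPt → ZMod 2) none) (sp_inj h2).1
    exact absurd h3 (by decide)
  · have h1 : mo m P * mo m P = signCo0 (cd 16777215) := by
      rw [← hg, conj_sq ht, cd_all, (Subgroup.mem_center_iff.1 allOne_mem_center g),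
        mul_inv_cancel_right]
    have hall : isCode 16777215 = true := by decide +kernel
    rcases hP with rfl | rfl
    · exfalso
      have h2 := congrArg (fun x => x.testBit 1) (xor_of_sq hm hall ok_P1 h1)
      have h3 : papp P1 1 = 1 := by decide +kernel
      have h4 := testBit_pimg_papp (ok_iff.1 ok_P1).1 m (show 1 < 24 by norm_num)
      simp only [Nat.testBit_xor] at h2
      rw [h3] at h4
      rw [h4, Bool.xor_self] at h2
      exact absurd h2 (by decide)
    · have h2 := xor_of_sq hm hall ok_P2 h1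
      obtain ⟨k, hk⟩ := conj_P2 hm isCode_b0m (by
        rw [pimg_xor (ok_iff.1 ok_P2).1]
        have e1 : pimg P2 m = m ^^^ 16777215 := by
          rw [← h2, ← Nat.xor_assoc, Nat.xor_self, Nat.zero_xor]
        have e2 : pimg P2 b0m = b0m ^^^ 16777215 := by
          rw [← b0m_xor, ← Nat.xor_assoc, Nat.xor_self, Nat.zero_xor]
        rw [e1, e2]
        have e3 : ∀ a b c : ℕ, (a ^^^ c) ^^^ (b ^^^ c) = a ^^^ b := by
          intro a b c
          rw [Nat.xor_comm b c, ← Nat.xor_assoc, Nat.xor_assoc a c c, Nat.xor_self, Nat.xor_zero]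
        exact e3 _ _ _)
      refine ⟨k * g, ?_⟩
      show _ = mo b0m P2
      rw [← hk, ← hg]
      group

/-! ### Octads and dodecads -/

theorem support_wordPerm (g : M24) (c : golayCode) :
    support₂ (wordPerm g c : GolayPt → ZMod 2) = g • support₂ (c : GolayPt → ZMod 2) := by
  rw [coe_smul_finset, smul_support₂]
  rfl

theorem word_ext {c d : golayCode}
    (h : support₂ (c : GolayPt → ZMod 2) = support₂ (d : GolayPt → ZMod 2)) : c = d := by
  apply Subtype.ext
  rw [← word_maskW (c : GolayPt → ZMod 2), ← word_maskW (d : GolayPt → ZMod 2),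
    ← maskOf_support₂, ← maskOf_support₂, h]

theorem exists_perm_octad {c d : golayCode} (hc : support₂ (c : GolayPt → ZMod 2) ∈ octads)
    (hd : support₂ (d : GolayPt → ZMod 2) ∈ octads) : ∃ g : M24, wordPerm g c = d := by
  obtain ⟨g, hg, h⟩ := Cfsg.Agent.SporadicA.OctadStab.exists_smul_eq hc hd
  exact ⟨⟨g, hg⟩, word_ext ((support_wordPerm _ _).trans h)⟩

theorem exists_perm_dodecad {c d : golayCode} (hc : support₂ (c : GolayPt → ZMod 2) ∈ dodecads)
    (hd : support₂ (d : GolayPt → ZMod 2) ∈ dodecads) : ∃ g : M24, wordPerm g c = d := by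
  obtain ⟨g, h⟩ := Cfsg.Agent.S0368.result _ _ hc hd
  exact ⟨g, word_ext ((support_wordPerm _ _).trans h)⟩

theorem add_allOne_support (c : golayCode) :
    support₂ ((c + allOne : golayCode) : GolayPt → ZMod 2) =
      (support₂ (c : GolayPt → ZMod 2))ᶜ := by
  ext p
  rw [Finset.mem_compl, mem_support₂, mem_support₂]
  show (c : GolayPt → ZMod 2) p + 1 ≠ 0 ↔ ¬ (c : GolayPt → ZMod 2) p ≠ 0
  generalize (c : GolayPt → ZMod 2) p = a
  revert a
  decide

theorem wordPerm_allOne (g : M24) : wordPerm g allOne = allOne := rfl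

theorem wordPerm_add (g : M24) (c d : golayCode) :
    wordPerm g (c + d) = wordPerm g c + wordPerm g d := rfl

/-- The sign changes up to conjugacy: for an octad word `o` and a dodecad word `d`, every sign
change is `±1` or conjugate to the sign change on `o`, on the complement of `o`, or on `d`. -/
theorem sign_cases (c o d : golayCode) (ho : support₂ (o : GolayPt → ZMod 2) ∈ octads)
    (hd : support₂ (d : GolayPt → ZMod 2) ∈ dodecads) :
    c = 0 ∨ c = allOne ∨ ∃ g : M24, wordPerm g c = o ∨ wordPerm g c = o + allOne ∨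
      wordPerm g c = d := by
  have hmem : support₂ (c : GolayPt → ZMod 2) ∈ supports (golayCode : Set (GolayPt → ZMod 2)) :=
    ⟨c, c.2, rfl⟩
  rcases card_of_mem_supports hmem with h | h | h | h | h
  · left
    apply word_ext
    rw [Finset.card_eq_zero] at h
    rw [h]
    symm
    rw [Finset.eq_empty_iff_forall_notMem]
    intro p hp
    rw [mem_support₂] at hp
    exact hp rfl
  · right; right
    obtain ⟨g, hg⟩ := exists_perm_octad ⟨hmem, h⟩ ho
    exact ⟨g, Or.inl hg⟩
  · right; right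
    obtain ⟨g, hg⟩ := exists_perm_dodecad ⟨hmem, h⟩ hd
    exact ⟨g, Or.inr (Or.inr hg)⟩
  · right; right
    have h1 : support₂ ((c + allOne : golayCode) : GolayPt → ZMod 2) ∈ octads := by
      refine ⟨⟨_, (c + allOne).2, rfl⟩, ?_⟩
      rw [add_allOne_support, Finset.card_compl, h]
      decide
    obtain ⟨g, hg⟩ := exists_perm_octad h1 ho
    refine ⟨g, Or.inr (Or.inl ?_)⟩
    rw [← hg, wordPerm_add, wordPerm_allOne, add_assoc, signCo0_add_self, add_zero]
  · right; left
    apply word_ext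
    have h1 : support₂ (c : GolayPt → ZMod 2) = Finset.univ := by
      rw [← Finset.card_eq_iff_eq_univ, h]
      decide
    rw [h1]
    symm
    rw [Finset.eq_univ_iff_forall]
    intro p
    rw [mem_support₂]
    show (1 : ZMod 2) ≠ 0
    decide

/-- The elements of `Co0` with square 1: for an octad word `o` and a dodecad word `d`. -/
theorem sq_one_cases (t : Co0) (ht : t * t = 1) (o d : golayCode)
    (ho : support₂ (o : GolayPt → ZMod 2) ∈ octads)
    (hd : support₂ (d : GolayPt → ZMod 2) ∈ dodecads) :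
    t = 1 ∨ t = signCo0 allOne ∨ ∃ g : Co0, g * t * g⁻¹ = signCo0 o ∨
      g * t * g⁻¹ = signCo0 (o + allOne) ∨ g * t * g⁻¹ = signCo0 d := by
  obtain ⟨g, c, hc⟩ := conj_sign_of_sq_one t ht
  have ht' : t = g⁻¹ * signCo0 c * g := by
    rw [← hc]
    group
  rcases sign_cases c o d ho hd with rfl | rfl | ⟨k, hk⟩
  · left
    rw [ht', signCo0_zero]
    group
  · right; left
    rw [ht', (Subgroup.mem_center_iff.1 allOne_mem_center g⁻¹), inv_mul_cancel_right]
  · right; right
    have h1 : (permCo0 k * g) * t * (permCo0 k * g)⁻¹ = signCo0 (wordPerm k c) := by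
      rw [← perm_mul_sign_mul_inv, ← hc]
      group
    refine ⟨permCo0 k * g, ?_⟩
    rw [h1]
    rcases hk with hk | hk | hk
    · left; rw [hk]
    · right; left; rw [hk]
    · right; right; rw [hk]

end Cfsg.Agent.CoOneType.InvMain
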