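import Cfsg.Agent.SporadicA.Co1Simple
import Cfsg.Agent.SporadicStructure.MinShapes

/-!
# Sign changes in `Co0` (facts for the closing step of the recognition of `Co1`), helper249

* `mem_N_of_conj_dodecad` : an element of `Co0` conjugating the sign change on a dodecad to a
  sign change on a dodecad preserves the standard cross (it is monomial);
* `wt_eq_of_conj` : conjugate sign changes are on words of the same weight.
-/

set_option autoImplicit false
open Cfsg

namespace Cfsg.Agent.CoOneType.SignFacts

open Cfsg.Agent.SporadicA.Co0Mono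
open Cfsg.Agent.SporadicA.Co1Simple
open Cfsg.Agent.SporadicStructure.Co0Base (e8 e8_coe)
open Cfsg.Agent.SporadicStructure.LeechBase (zmod2_cases mem_support₂)
open Cfsg.Agent.SporadicStructure.MinShapes (vec)
open Cfsg.Agent.SporadicStructure
open Cfsg.Agent.SporadicA

/-- The support of a code word. -/
def sup (c : golayCode) : Finset GolayPt := support₂ (c : GolayPt → ZMod 2)

theorem sup_mem (c : golayCode) : sup c ∈ supports (golayCode : Set (GolayPt → ZMod 2)) :=
  ⟨c, c.2, rfl⟩

theorem mem_sup (c : golayCode) (i : GolayPt) : i ∈ sup c ↔ (c : GolayPt → ZMod 2) i = 1 := by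
  rw [sup, mem_support₂]
  rcases zmod2_cases ((c : GolayPt → ZMod 2) i) with h | h <;> simp [h]

theorem notMem_sup (c : golayCode) (i : GolayPt) : i ∉ sup c ↔ (c : GolayPt → ZMod 2) i = 0 := by
  rw [sup, mem_support₂, not_not]

/-- The weight of a code word. -/
def wt (c : golayCode) : ℕ := (sup c).card

theorem wt_cases (c : golayCode) : wt c = 0 ∨ wt c = 8 ∨ wt c = 12 ∨ wt c = 16 ∨ wt c = 24 :=
  GolayBase.card_of_mem_supports (sup_mem c)

theorem sign_fixed_iff (c : golayCode) (v : leechLattice) :
    signCo0 c • v = v ↔ ∀ i ∈ sup c, (v : GolayPt → ℤ) i = 0 := by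
  constructor
  · intro h i hi
    have h1 : ((signCo0 c • v : leechLattice) : GolayPt → ℤ) i = (v : GolayPt → ℤ) i :=
      congrArg (fun u : leechLattice => (u : GolayPt → ℤ) i) h
    rw [signCo0_smul, signMap_apply, (mem_sup c i).1 hi, sgn_one] at h1
    omega
  · intro h
    apply Subtype.ext
    funext i
    rw [signCo0_smul, signMap_apply]
    by_cases hi : i ∈ sup c
    · rw [h i hi, mul_zero]
    · rw [(notMem_sup c i).1 hi, sgn_zero, one_mul]

/-- Minimal vectors supported off a dodecad. -/
theorem fixed_shape (c : golayCode) (hc : wt c = 12) (v : leechLattice)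
    (hn : sqNorm (v : GolayPt → ℤ) = 32) (hf : ∀ i ∈ sup c, (v : GolayPt → ℤ) i = 0) :
    ∃ T S : Finset GolayPt, T.card = 2 ∧ S ⊆ T ∧ (v : GolayPt → ℤ) = vec 4 T S := by
  obtain ⟨i₀, hi₀⟩ : (sup c).Nonempty := by
    rw [← Finset.card_pos]; unfold wt at hc; omega
  have heven : ∀ i, (v : GolayPt → ℤ) i ≡ 0 [ZMOD 2] := by
    rcases MinShapes.parity_cases v.2 with h | h
    · exact h
    · exfalso
      have h1 := h i₀
      rw [hf i₀ hi₀] at h1
      exact absurd h1 (by decide)
  rcases MinShapes.even_case v.2 hn heven with h | ⟨O, S, hO, hS, -, hv⟩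
  · exact h
  · exfalso
    have hdisj : O ∩ sup c = ∅ := by
      rw [Finset.eq_empty_iff_forall_notMem]
      intro i hi
      rw [Finset.mem_inter] at hi
      have h1 := hf i hi.2
      rw [hv] at h1
      simp only [vec, if_pos hi.1] at h1
      split_ifs at h1 <;> omega
    have h2 := GolayBase.card_symmDiff_add O (sup c)
    rw [hdisj, GolayBase.octad_card hO] at h2
    have h3 := GolayBase.card_of_mem_supports (GolayBase.symmDiff_mem_supports hO.1 (sup_mem c))
    unfold wt at hc
    rw [hc, Finset.card_empty] at h2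
    omega

/-- A lattice vector of norm 64 with all coordinates divisible by 8 is in the cross. -/
theorem mem_crossSet_of_eight (v : leechLattice) (hn : sqNorm (v : GolayPt → ℤ) = 64)
    (h : ∀ i, ∃ u : ℤ, (v : GolayPt → ℤ) i = 8 * u) : v ∈ crossSet := by
  choose u hu using h
  have hsum : ∑ i, u i ^ 2 = 1 := by
    have h1 : sqNorm (v : GolayPt → ℤ) = 64 * ∑ i, u i ^ 2 := by
      rw [sqNorm, Finset.mul_sum]
      refine Finset.sum_congr rfl fun i _ => ?_
      rw [hu i]; ring
    omega
  obtain ⟨j, hj, hj0⟩ := MinShapes.exists_of_sum_eq_one (fun i => sq_nonneg (u i)) hsum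
  rw [mem_crossSet]
  have hj2 : u j = 1 ∨ u j = -1 := by
    have h1 : (u j - 1) * (u j + 1) = 0 := by linear_combination hj
    rcases mul_eq_zero.1 h1 with h2 | h2
    · left; omega
    · right; omega
  have hzero : ∀ k, k ≠ j → u k = 0 := fun k hk => by
    have := hj0 k hk
    exact pow_eq_zero_iff (two_ne_zero) |>.1 this
  refine ⟨j, ?_⟩
  rcases hj2 with h2 | h2
  · left
    apply Subtype.ext
    funext k
    rw [hu k, e8_coe]
    by_cases hk : k = j
    · subst hk; rw [h2]; simp
    · rw [hzero k hk]; simp [hk]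
  · right
    apply Subtype.ext
    funext k
    show (v : GolayPt → ℤ) k = -((e8 j : leechLattice) : GolayPt → ℤ) k
    rw [hu k, e8_coe]
    by_cases hk : k = j
    · subst hk; rw [h2]; simp
    · rw [hzero k hk]; simp [hk]

/-- `4 e_i + 4 s e_k`. -/
def pv (i k : GolayPt) (s : ℤ) (hs : s = 1 ∨ s = -1) : leechLattice :=
  ⟨fun j => 4 * ((if j = i then 1 else 0) + (if j = k then s else 0)),
    Co0Base.four_mul_mem _ (by
      rw [Finset.sum_add_distrib]
      simp only [Finset.sum_ite_eq', Finset.mem_univ, if_true]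
      rcases hs with rfl | rfl <;> norm_num)⟩

theorem pv_apply (i k : GolayPt) (s : ℤ) (hs : s = 1 ∨ s = -1) (j : GolayPt) :
    ((pv i k s hs : leechLattice) : GolayPt → ℤ) j =
      4 * ((if j = i then 1 else 0) + (if j = k then s else 0)) := rfl

theorem pv_add (i k : GolayPt) :
    pv i k 1 (Or.inl rfl) + pv i k (-1) (Or.inr rfl) = e8 i := by
  apply Subtype.ext
  funext j
  show ((pv i k 1 _ : leechLattice) : GolayPt → ℤ) j +
    ((pv i k (-1) _ : leechLattice) : GolayPt → ℤ) j = _
  rw [pv_apply, pv_apply, e8_coe, Pi.single_apply]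
  split_ifs <;> norm_num

theorem sqNorm_pv (i k : GolayPt) (hik : i ≠ k) (s : ℤ) (hs : s = 1 ∨ s = -1) :
    sqNorm ((pv i k s hs : leechLattice) : GolayPt → ℤ) = 32 := by
  have h : ∀ j, ((pv i k s hs : leechLattice) : GolayPt → ℤ) j ^ 2 =
      (if j = i then 16 else 0) + (if j = k then 16 else 0) := by
    intro j
    rw [pv_apply]
    by_cases h1 : j = i
    · subst h1
      simp [hik]
    · by_cases h2 : j = k
      · subst h2
        rcases hs with rfl | rfl <;> simp [h1]
      · simp [h1, h2]
  rw [sqNorm, Finset.sum_congr rfl fun j _ => h j, Finset.sum_add_distrib]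
  simp

/-- Conjugating the sign change on a dodecad to the sign change on a dodecad: images of the
coordinate vectors off the dodecad. -/
theorem image_e8 (c d : golayCode) (hc : wt c = 12) (hd : wt d = 12) (g : Co0)
    (hg : g * signCo0 c = signCo0 d * g) (i : GolayPt) (hi : i ∉ sup c) :
    g • e8 i ∈ crossSet := by
  classical
  by_contra hV
  have hVn : sqNorm ((g • e8 i : leechLattice) : GolayPt → ℤ) = 64 := by
    rw [sqNorm_smul, sqNorm_e8]
  have hfix : ∀ v : leechLattice, (∀ j ∈ sup c, (v : GolayPt → ℤ) j = 0) →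
      ∀ j ∈ sup d, ((g • v : leechLattice) : GolayPt → ℤ) j = 0 := by
    intro v hv
    rw [← sign_fixed_iff] at hv ⊢
    rw [← mul_smul, ← hg, mul_smul, hv]
  -- the shapes of the images
  have key : ∀ k : GolayPt, k ∉ sup c → i ≠ k → ∀ s : ℤ, ∀ hs : s = 1 ∨ s = -1,
      ∃ T : Finset GolayPt, T.card = 2 ∧
        (∀ j ∈ T, ((g • pv i k s hs : leechLattice) : GolayPt → ℤ) j = 4 ∨
          ((g • pv i k s hs : leechLattice) : GolayPt → ℤ) j = -4) ∧
        ∀ j, j ∉ T → ((g • pv i k s hs : leechLattice) : GolayPt → ℤ) j = 0 := by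
    intro k hk hik s hs
    obtain ⟨T, S, hT, -, hv⟩ := fixed_shape d hd (g • pv i k s hs)
      (by rw [sqNorm_smul, sqNorm_pv i k hik])
      (hfix _ (by
        intro j hj
        rw [pv_apply]
        have h1 : j ≠ i := fun h => hi (h ▸ hj)
        have h2 : j ≠ k := fun h => hk (h ▸ hj)
        simp [h1, h2]))
    refine ⟨T, hT, ?_, ?_⟩
    · intro j hj
      rw [hv]
      simp only [vec, if_pos hj]
      split_ifs <;> simp
    · intro j hj
      rw [hv]
      simp only [vec, if_neg hj]
  have hadd : ∀ k j, ((g • e8 i : leechLattice) : GolayPt → ℤ) j =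
      ((g • pv i k 1 (Or.inl rfl) : leechLattice) : GolayPt → ℤ) j +
      ((g • pv i k (-1) (Or.inr rfl) : leechLattice) : GolayPt → ℤ) j := by
    intro k j
    rw [← pv_add i k, Co0Mono.smul_add]
    rfl
  -- the two supports are disjoint
  have key2 : ∀ k : GolayPt, k ∉ sup c → i ≠ k →
      ∃ T T' : Finset GolayPt, T.card = 2 ∧ T'.card = 2 ∧ Disjoint T T' ∧
        (∀ j ∈ T, ((g • pv i k 1 (Or.inl rfl) : leechLattice) : GolayPt → ℤ) j =
          ((g • e8 i : leechLattice) : GolayPt → ℤ) j) ∧
        (∀ j, j ∉ T → ((g • pv i k 1 (Or.inl rfl) : leechLattice) : GolayPt → ℤ) j = 0) ∧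
        (∀ j, ((g • e8 i : leechLattice) : GolayPt → ℤ) j ≠ 0 ↔ j ∈ T ∪ T') := by
    intro k hk hik
    obtain ⟨T, hT, hT1, hT0⟩ := key k hk hik 1 (Or.inl rfl)
    obtain ⟨T', hT', hT'1, hT'0⟩ := key k hk hik (-1) (Or.inr rfl)
    set P := ((g • pv i k 1 (Or.inl rfl) : leechLattice) : GolayPt → ℤ) with hP
    set M := ((g • pv i k (-1) (Or.inr rfl) : leechLattice) : GolayPt → ℤ) with hM
    have hadd' : ∀ j, ((g • e8 i : leechLattice) : GolayPt → ℤ) j = P j + M j := fun j => hadd k j
    have hdot : ∑ j, P j * M j = 0 := by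
      have h1 : sqNorm (P + M) = 64 := by
        rw [← hVn]
        congr 1
        funext j
        rw [hadd' j]; rfl
      rw [Co0Base.sqNorm_add] at h1
      have h2 : sqNorm P = 32 := by rw [hP, sqNorm_smul, sqNorm_pv i k hik]
      have h3 : sqNorm M = 32 := by rw [hM, sqNorm_smul, sqNorm_pv i k hik]
      unfold dotInt at h1
      omega
    have hdisj : Disjoint T T' := by
      by_contra hnd
      rw [Finset.not_disjoint_iff] at hnd
      obtain ⟨a, haT, haT'⟩ := hnd
      by_cases hTT : T = T'
      · apply hV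
        refine mem_crossSet_of_eight _ hVn fun j => ?_
        rw [hadd' j]
        by_cases hj : j ∈ T
        · rcases hT1 j hj with h1 | h1
          · rcases hT'1 j (hTT ▸ hj) with h2 | h2
            · exact ⟨1, by rw [h1, h2]; norm_num⟩
            · exact ⟨0, by rw [h1, h2]; norm_num⟩
          · rcases hT'1 j (hTT ▸ hj) with h2 | h2
            · exact ⟨0, by rw [h1, h2]; norm_num⟩
            · exact ⟨-1, by rw [h1, h2]; norm_num⟩
        · exact ⟨0, by rw [hT0 j hj, hT'0 j (hTT ▸ hj)]; norm_num⟩
      · -- exactly one common point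
        have hone : ∀ j, j ≠ a → P j * M j = 0 := by
          intro j hja
          by_cases hj : j ∈ T
          · by_cases hj' : j ∈ T'
            · exfalso
              apply hTT
              have h1 : ({j, a} : Finset GolayPt) = T := by
                apply Finset.eq_of_subset_of_card_le
                · intro x hx
                  rw [Finset.mem_insert, Finset.mem_singleton] at hx
                  rcases hx with rfl | rfl
                  · exact hj
                  · exact haT
                · rw [hT, Finset.card_pair hja]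
              have h2 : ({j, a} : Finset GolayPt) = T' := by
                apply Finset.eq_of_subset_of_card_le
                · intro x hx
                  rw [Finset.mem_insert, Finset.mem_singleton] at hx
                  rcases hx with rfl | rfl
                  · exact hj'
                  · exact haT'
                · rw [hT', Finset.card_pair hja]
              rw [← h1, h2]
            · rw [hT'0 j hj', mul_zero]
          · rw [hT0 j hj, zero_mul]
        rw [Finset.sum_eq_single a (fun j _ hj => hone j hj)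
          (fun h => absurd (Finset.mem_univ _) h)] at hdot
        rcases hT1 a haT with h1 | h1 <;> rcases hT'1 a haT' with h2 | h2 <;>
          rw [h1, h2] at hdot <;> norm_num at hdot
    refine ⟨T, T', hT, hT', hdisj, ?_, hT0, ?_⟩
    · intro j hj
      rw [hadd' j, hT'0 j (Finset.disjoint_left.1 hdisj hj), add_zero]
    · intro j
      rw [hadd' j, Finset.mem_union]
      constructor
      · intro h
        by_contra hn
        push Not at hn
        rw [hT0 j hn.1, hT'0 j hn.2] at h
        exact h rfl
      · rintro (h | h)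
        · rw [hT'0 j (Finset.disjoint_left.1 hdisj h)]
          rcases hT1 j h with h1 | h1 <;> rw [h1] <;> norm_num
        · rw [hT0 j (Finset.disjoint_right.1 hdisj h)]
          rcases hT'1 j h with h1 | h1 <;> rw [h1] <;> norm_num
  choose! T T' hT hT' hdisj hTV hT0 hU using key2
  let F : Finset GolayPt := (sup c)ᶜ.erase i
  have hF : ∀ k ∈ F, k ∉ sup c ∧ i ≠ k := by
    intro k hk
    rw [Finset.mem_erase, Finset.mem_compl] at hk
    exact ⟨hk.2, fun h => hk.1 h.symm⟩
  have hFcard : F.card = 11 := by
    rw [Finset.card_erase_of_mem (Finset.mem_compl.2 hi), Finset.card_compl,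
      ← Finset.card_univ, MinShapes.card_pt]
    unfold wt at hc
    rw [hc]
  obtain ⟨k₀, hk₀⟩ : F.Nonempty := by rw [← Finset.card_pos, hFcard]; norm_num
  let U : Finset GolayPt := T k₀ ∪ T' k₀
  have hUcard : U.card = 4 := by
    rw [Finset.card_union_of_disjoint (hdisj k₀ (hF k₀ hk₀).1 (hF k₀ hk₀).2),
      hT k₀ (hF k₀ hk₀).1 (hF k₀ hk₀).2, hT' k₀ (hF k₀ hk₀).1 (hF k₀ hk₀).2]
  have hle : F.card ≤ (U.powersetCard 2).card := by
    refine Finset.card_le_card_of_injOn T ?_ ?_
    · intro k hk
      have hk' := hF k hk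
      rw [Finset.mem_coe, Finset.mem_powersetCard]
      refine ⟨?_, hT k hk'.1 hk'.2⟩
      intro j hj
      have h1 : ((g • e8 i : leechLattice) : GolayPt → ℤ) j ≠ 0 :=
        (hU k hk'.1 hk'.2 j).2 (Finset.mem_union_left _ hj)
      exact (hU k₀ (hF k₀ hk₀).1 (hF k₀ hk₀).2 j).1 h1
    · intro k hk l hl hkl
      have hk' := hF k hk
      have hl' := hF l hl
      by_contra hne
      have h1 : g • pv i k 1 (Or.inl rfl) = g • pv i l 1 (Or.inl rfl) := by
        apply Subtype.ext
        funext j
        by_cases hj : j ∈ T k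
        · rw [hTV k hk'.1 hk'.2 j hj, hTV l hl'.1 hl'.2 j (hkl ▸ hj)]
        · rw [hT0 k hk'.1 hk'.2 j hj, hT0 l hl'.1 hl'.2 j (hkl ▸ hj)]
      have h2 := Co0Base.co0_smul_inj g h1
      have h3 := congrArg (fun v : leechLattice => (v : GolayPt → ℤ) k) h2
      simp only [pv_apply] at h3
      have h4 : k ≠ i := fun h => hk'.2 h.symm
      simp [h4, hne] at h3
  rw [hFcard, Finset.card_powersetCard, hUcard] at hle
  exact absurd hle (by decide)

theorem sup_add_allOne (c : golayCode) : sup (c + allOne) = (sup c)ᶜ := by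
  ext i
  rw [Finset.mem_compl, notMem_sup, mem_sup]
  show (c : GolayPt → ZMod 2) i + 1 = 1 ↔ _
  rcases zmod2_cases ((c : GolayPt → ZMod 2) i) with h | h
  · simp [h]
  · rw [h]; decide

theorem wt_add_allOne (c : golayCode) : wt (c + allOne) + wt c = 24 := by
  unfold wt
  rw [sup_add_allOne, Finset.card_compl_add_card, ← Finset.card_univ, MinShapes.card_pt]

theorem sign_allOne_comm (g : Co0) : g * signCo0 allOne = signCo0 allOne * g :=
  (Subgroup.mem_center_iff.1 allOne_mem_center g)

/-- Conjugating the sign change on a dodecad to the sign change on a dodecad preserves the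
standard cross. -/
theorem mem_N_of_conj_dodecad (c d : golayCode) (hc : wt c = 12) (hd : wt d = 12) (g : Co0)
    (hg : g * signCo0 c = signCo0 d * g) : g ∈ N := by
  apply mem_N_of_e8
  intro i
  by_cases hi : i ∈ sup c
  · have hc' := wt_add_allOne c
    have hd' := wt_add_allOne d
    refine image_e8 (c + allOne) (d + allOne) (by omega) (by omega) g ?_ i ?_
    · rw [signCo0_add, signCo0_add, ← mul_assoc, hg, mul_assoc, sign_allOne_comm, mul_assoc]
    · rw [sup_add_allOne, Finset.mem_compl, not_not]
      exact hi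
  · exact image_e8 c d hc hd g hg i hi

theorem dot_e8 (i k : GolayPt) :
    dotInt ((e8 i : leechLattice) : GolayPt → ℤ) ((e8 k : leechLattice) : GolayPt → ℤ) =
      if i = k then 64 else 0 := by
  classical
  unfold dotInt
  rw [e8_coe, e8_coe, Finset.sum_eq_single i]
  · by_cases h : i = k
    · subst h; simp
    · simp [h]
  · intro j _ hj; simp [hj]
  · intro h; exact absurd (Finset.mem_univ _) h

theorem card_compl_le (c d : golayCode) (g : Co0) (hg : g * signCo0 c = signCo0 d * g) :
    Fintype.card {i // i ∉ sup c} ≤ Fintype.card {i // i ∉ sup d} := by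
  classical
  let F : {i // i ∉ sup c} → EuclideanSpace ℝ {i // i ∉ sup d} :=
    fun i => WithLp.toLp 2 fun j => (((g • e8 i.1 : leechLattice) : GolayPt → ℤ) j.1 : ℝ)
  have hzero : ∀ i : {i // i ∉ sup c}, ∀ j ∈ sup d,
      ((g • e8 i.1 : leechLattice) : GolayPt → ℤ) j = 0 := by
    intro i
    rw [← sign_fixed_iff, ← mul_smul, ← hg, mul_smul]
    congr 1
    rw [sign_fixed_iff]
    intro j hj
    rw [e8_coe, Pi.single_apply, if_neg]
    rintro rfl
    exact i.2 hj
  have hinner : ∀ i k, inner ℝ (F i) (F k) = if i.1 = k.1 then (64 : ℝ) else 0 := by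
    intro i k
    have h1 := Co0Base.co0_dotInt g (e8 i.1) (e8 k.1)
    rw [dot_e8] at h1
    have h2 : (∑ j, ((g • e8 i.1 : leechLattice) : GolayPt → ℤ) j *
        ((g • e8 k.1 : leechLattice) : GolayPt → ℤ) j) =
        ∑ j : {i // i ∉ sup d}, ((g • e8 i.1 : leechLattice) : GolayPt → ℤ) j.1 *
        ((g • e8 k.1 : leechLattice) : GolayPt → ℤ) j.1 := by
      rw [← Finset.sum_subtype (sup d)ᶜ (fun x => Finset.mem_compl)
        (fun j => ((g • e8 i.1 : leechLattice) : GolayPt → ℤ) j *
          ((g • e8 k.1 : leechLattice) : GolayPt → ℤ) j)]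
      symm
      apply Finset.sum_subset (Finset.subset_univ _)
      intro j _ hj
      rw [Finset.mem_compl, not_not] at hj
      rw [hzero i j hj, zero_mul]
    unfold dotInt at h1
    rw [h2] at h1
    have h3 : inner ℝ (F i) (F k) = ((∑ j : {i // i ∉ sup d},
        ((g • e8 i.1 : leechLattice) : GolayPt → ℤ) j.1 *
        ((g • e8 k.1 : leechLattice) : GolayPt → ℤ) j.1 : ℤ) : ℝ) := by
      rw [PiLp.inner_apply, Int.cast_sum]
      refine Finset.sum_congr rfl fun j _ => ?_
      show inner ℝ (((g • e8 i.1 : leechLattice) : GolayPt → ℤ) j.1 : ℝ)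
        (((g • e8 k.1 : leechLattice) : GolayPt → ℤ) j.1 : ℝ) = _
      rw [Real.inner_apply, Int.cast_mul]
    rw [h3, h1]
    split_ifs <;> norm_num
  have hli : LinearIndependent ℝ F := by
    apply linearIndependent_of_ne_zero_of_inner_eq_zero
    · intro i h
      have := hinner i i
      rw [if_pos rfl, h, inner_zero_left] at this
      norm_num at this
    · intro i k hik
      show inner ℝ (F i) (F k) = 0
      rw [hinner, if_neg (fun h => hik (Subtype.ext h))]
  have := hli.fintype_card_le_finrank
  rwa [finrank_euclideanSpace] at this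

/-- Conjugate sign changes are on words of the same weight. -/
theorem wt_eq_of_conj (c d : golayCode) (g : Co0) (hg : g * signCo0 c = signCo0 d * g) :
    wt c = wt d := by
  have h1 := card_compl_le c d g hg
  have h2 := card_compl_le d c g⁻¹ (by
    rw [inv_mul_eq_iff_eq_mul, ← mul_assoc, hg, mul_inv_cancel_right])
  rw [Fintype.card_subtype_compl, Fintype.card_subtype_compl] at h1 h2
  have h3 : ∀ c : golayCode, Fintype.card {i // i ∈ sup c} = wt c := by
    intro c
    rw [Fintype.card_coe]; rfl
  rw [h3, h3] at h1 h2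
  have h4 : Fintype.card GolayPt = 24 := by rw [← Finset.card_univ, MinShapes.card_pt]
  have h5 := wt_add_allOne c
  have h6 := wt_add_allOne d
  omega

end Cfsg.Agent.CoOneType.SignFacts
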