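import Cfsg.Agent.CoOneType.FrameFix
import Cfsg.Agent.CoOneType.SignFacts
import Cfsg.Agent.CoOneType.ClosingFacts
import Cfsg.Agent.CoOneType.InvMain
import Cfsg.Agent.Co2Type.Mono
import Cfsg.Agent.SporadicA.XiSextet
import Cfsg.Agent.SporadicStructure.M24Frame
import Cfsg.Agent.SporadicStructure.GolayInterp
import Cfsg.Agent.S0358
import Cfsg.Agent.S0360
import Cfsg.Agent.S0363
import Cfsg.Agent.S0364

/-!
The order of the centraliser in `Co0` of the sign change on an octad is at least
`2160 * 2048 * 40320 = 178362777600`.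
-/

set_option autoImplicit false
open Cfsg
open scoped Pointwise

namespace Cfsg.Agent.CoOneType.CentOctad

open Cfsg.Agent.SporadicA.Co0Mono Cfsg.Agent.SporadicA.Co1Simple
open Cfsg.Agent.SporadicStructure.Co0Base (e8 e8_coe)
open Cfsg.Agent.SporadicStructure.LeechBase (zmod2_cases mem_support₂)
open Cfsg.Agent.CoOneType.SignFacts (sup mem_sup notMem_sup wt sup_mem)
open Cfsg.Agent.SporadicA

/-! ### Elements commuting with a sign change -/

/-- The centraliser of the sign change on `o`. -/
abbrev C0 (o : golayCode) : Subgroup Co0 := Subgroup.centralizer {signCo0 o}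

theorem mem_C0 {o : golayCode} {g : Co0} : g ∈ C0 o ↔ g * signCo0 o = signCo0 o * g := by
  rw [Subgroup.mem_centralizer_singleton_iff]

theorem sign_mem (o c : golayCode) : signCo0 c ∈ C0 o := by
  rw [mem_C0, ← signCo0_add, ← signCo0_add, add_comm]

theorem perm_mem {o : golayCode} {σ : M24} (h : wordPerm σ o = o) : permCo0 σ ∈ C0 o := by
  rw [mem_C0, perm_mul_sign, h]

theorem xi_mem {o : golayCode} {T : GolayPt → Fin 6} (hT : Xi.IsSextet T)
    (h : ∀ i j, T i = T j → (o : GolayPt → ZMod 2) i = (o : GolayPt → ZMod 2) j) :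
    Xi.xiCo0 T hT ∈ C0 o := by
  rw [mem_C0]
  apply Co0Mono.ext
  intro v
  apply Subtype.ext
  funext i
  rw [mul_smul, mul_smul]
  have h1 := Xi.two_xiCo0_smul T hT (signCo0 o • v) i
  have h2 := Xi.two_xiCo0_smul T hT v i
  rw [signCo0_smul (v := Xi.xiCo0 T hT • v), signMap_apply]
  have h3 : ∑ j ∈ Xi.fib T (T i), ((signCo0 o • v : leechLattice) : GolayPt → ℤ) j =
      sgn ((o : GolayPt → ZMod 2) i) * ∑ j ∈ Xi.fib T (T i), (v : GolayPt → ℤ) j := by
    rw [Finset.mul_sum]
    refine Finset.sum_congr rfl fun j hj => ?_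
    rw [signCo0_smul, signMap_apply, h j i (Xi.mem_fib.1 hj)]
  rw [h3, signCo0_smul, signMap_apply] at h1
  have h4 : 2 * ((Xi.xiCo0 T hT • signCo0 o • v : leechLattice) : GolayPt → ℤ) i =
      2 * (sgn ((o : GolayPt → ZMod 2) i) *
        ((Xi.xiCo0 T hT • v : leechLattice) : GolayPt → ℤ) i) := by
    rw [h1]
    linear_combination -(sgn ((o : GolayPt → ZMod 2) i)) * h2
  linarith

/-- Some sextet colouring with a prescribed tetrad, inside the octad `o`, of colour 0; its
tetrads do not cross `o`. -/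
theorem exists_sextet {o : golayCode} (ho : wt o = 8) {S : Finset GolayPt} (hS : S.card = 4)
    (hSo : S ⊆ sup o) : ∃ T : GolayPt → Fin 6, Xi.IsSextet T ∧ Xi.fib T 0 = S ∧
      (∀ i j, T i = T j → (o : GolayPt → ZMod 2) i = (o : GolayPt → ZMod 2) j) ∧
      ∃ k : Fin 6, k ≠ 0 ∧ Xi.fib T k = sup o \ S := by
  obtain ⟨T, hT, hT0⟩ := XiSextet.exists_isSextet Cfsg.Agent.S0363.result S hS
  have hoct : sup o ∈ octads := ⟨sup_mem o, ho⟩
  obtain ⟨p, hp⟩ : (sup o \ S).Nonempty := by
    rw [← Finset.card_pos, Finset.card_sdiff_of_subset hSo, hS]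
    have : (sup o).card = 8 := ho
    omega
  rw [Finset.mem_sdiff] at hp
  set k := T p with hk
  have hk0 : k ≠ 0 := by
    intro h
    apply hp.2
    rw [← hT0, Xi.mem_fib, ← h]
  have hoct' : Xi.fib T 0 ∪ Xi.fib T k ∈ octads := by
    refine ⟨hT.code 0 k hk0.symm, ?_⟩
    rw [Finset.card_union_of_disjoint, hT.card, hT.card]
    rw [Finset.disjoint_left]
    intro x hx hx'
    rw [Xi.mem_fib] at hx hx'
    exact hk0 (hx'.symm.trans hx)
  have hunion : Xi.fib T 0 ∪ Xi.fib T k = sup o := by
    apply GolayBase.octad_unique hoct' hoct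
    have hsub : insert p S ⊆ (Xi.fib T 0 ∪ Xi.fib T k) ∩ sup o := by
      intro x hx
      rw [Finset.mem_insert] at hx
      rcases hx with rfl | hx
      · exact Finset.mem_inter.2 ⟨Finset.mem_union_right _ (Xi.mem_fib.2 rfl), hp.1⟩
      · exact Finset.mem_inter.2 ⟨Finset.mem_union_left _ (by rw [hT0]; exact hx), hSo hx⟩
    have := Finset.card_le_card hsub
    rw [Finset.card_insert_of_notMem hp.2, hS] at this
    exact this
  have hmem : ∀ i, i ∈ sup o ↔ T i = 0 ∨ T i = k := by
    intro i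
    rw [← hunion, Finset.mem_union, Xi.mem_fib, Xi.mem_fib]
  refine ⟨T, hT, hT0, fun i j hij => ?_, k, hk0, ?_⟩
  · by_cases hi : i ∈ sup o
    · have hj : j ∈ sup o := by rw [hmem, ← hij, ← hmem]; exact hi
      rw [(mem_sup o i).1 hi, (mem_sup o j).1 hj]
    · have hj : j ∉ sup o := by rw [hmem, ← hij, ← hmem]; exact hi
      rw [(notMem_sup o i).1 hi, (notMem_sup o j).1 hj]
  · ext i
    rw [Finset.mem_sdiff, hmem, ← hT0, Xi.mem_fib, Xi.mem_fib]
    constructor
    · intro h; exact ⟨Or.inr h, by rw [h]; exact hk0⟩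
    · rintro ⟨h1 | h1, h2⟩
      · exact absurd h1 h2
      · exact h1

/-! ### The orbit of `8 e_i` -/

/-- The vectors in the orbit of `8 e_{i₀}` under the centraliser. -/
def InOrb (o : golayCode) (i₀ : GolayPt) (u : GolayPt → ℤ) : Prop :=
  ∃ g ∈ C0 o, ((g • e8 i₀ : leechLattice) : GolayPt → ℤ) = u

theorem InOrb.sign {o : golayCode} {i₀ : GolayPt} {u : GolayPt → ℤ} (h : InOrb o i₀ u)
    (c : golayCode) : InOrb o i₀ (signMap c u) := by
  obtain ⟨g, hg, rfl⟩ := h
  refine ⟨signCo0 c * g, (C0 o).mul_mem (sign_mem o c) hg, ?_⟩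
  rw [mul_smul, signCo0_smul]

theorem InOrb.xi {o : golayCode} {i₀ : GolayPt} {u : GolayPt → ℤ} (h : InOrb o i₀ u)
    {T : GolayPt → Fin 6} (hT : Xi.IsSextet T)
    (hTo : ∀ i j, T i = T j → (o : GolayPt → ZMod 2) i = (o : GolayPt → ZMod 2) j) :
    InOrb o i₀ (Xi.xiFun T u) := by
  obtain ⟨g, hg, rfl⟩ := h
  refine ⟨Xi.xiCo0 T hT * g, (C0 o).mul_mem (xi_mem hT hTo) hg, ?_⟩
  rw [mul_smul, Xi.xiCo0_smul]

/-- Change the signs of an orbit vector on at most seven points as wanted. -/
theorem InOrb.signs {o : golayCode} {i₀ : GolayPt} {u : GolayPt → ℤ} (h : InOrb o i₀ u)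
    (S : Finset GolayPt) (hS : S.card ≤ 7) (x : GolayPt → ℤ)
    (hx : ∀ i ∈ S, x i = u i ∨ x i = -u i) :
    ∃ u', InOrb o i₀ u' ∧ (∀ i ∈ S, u' i = x i) ∧ ∀ i, u' i = u i ∨ u' i = -u i := by
  classical
  obtain ⟨w, hw, hwt⟩ := Cfsg.Agent.SporadicStructure.GolayInterp.exists_word_interp S hS
    (fun i => if x i = u i then 0 else 1)
  refine ⟨_, h.sign ⟨w, hw⟩, fun i hi => ?_, fun i => ?_⟩
  · rw [signMap_apply]
    show sgn (w i) * _ = _
    rw [hwt i hi]
    by_cases h : x i = u i
    · rw [if_pos h, sgn_zero, one_mul, h]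
    · rw [if_neg h, sgn_one, (hx i hi).resolve_left h]
      ring
  · rw [signMap_apply]
    show sgn (w i) * _ = _ ∨ sgn (w i) * _ = _
    rcases zmod2_cases (w i) with h | h
    · left; rw [h, sgn_zero, one_mul]
    · right; rw [h, sgn_one]; ring

/-- The vector with coordinates `-4` on `s`, `4` on the rest of `S`, `0` elsewhere. -/
def vecB (S s : Finset GolayPt) : GolayPt → ℤ := fun j => if j ∈ S then (if j ∈ s then -4 else 4) else 0

theorem sum_single (S : Finset GolayPt) (j : GolayPt) (a : ℤ) :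
    ∑ k ∈ S, (Pi.single j a : GolayPt → ℤ) k = if j ∈ S then a else 0 := by
  rw [Finset.sum_pi_single']

/-- From `8 e_j` to the vectors `(±4)^4` on a tetrad through `j`. -/
theorem to_vecB {o : golayCode} (ho : wt o = 8) {i₀ : GolayPt} {S : Finset GolayPt}
    (hS : S.card = 4) (hSo : S ⊆ sup o) {j : GolayPt} (hj : j ∈ S)
    (h : InOrb o i₀ (Pi.single j 8)) (s : Finset GolayPt) : InOrb o i₀ (vecB S s) := by
  obtain ⟨T, hT, hT0, hTo, -⟩ := exists_sextet ho hS hSo
  have h1 := h.xi hT hTo
  have hform : ∀ i, Xi.xiFun T (Pi.single j 8) i = if i ∈ S then (if i = j then 4 else -4) else 0 := by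
    intro i
    have hs : ∑ k ∈ Xi.fib T (T i), (Pi.single j 8 : GolayPt → ℤ) k =
        if T j = T i then 8 else 0 := by
      rw [sum_single]
      by_cases h : T j = T i
      · rw [if_pos h, if_pos (Xi.mem_fib.2 h)]
      · rw [if_neg h, if_neg (fun h' => h (Xi.mem_fib.1 h'))]
    rw [Xi.xiFun_apply, hs, Pi.single_apply]
    have hTj : T j = 0 := by rw [← Xi.mem_fib, hT0]; exact hj
    by_cases hi : i ∈ S
    · have hTi : T i = 0 := by rw [← Xi.mem_fib, hT0]; exact hi
      rw [if_pos hTi, hTj, hTi, if_pos rfl, if_pos hi]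
      by_cases hij : i = j
      · rw [if_pos hij, if_pos hij]; norm_num
      · rw [if_neg hij, if_neg hij]; norm_num
    · have hTi : T i ≠ 0 := by
        intro h0
        apply hi
        rw [← hT0, Xi.mem_fib, h0]
      have hij : i ≠ j := by rintro rfl; exact hi hj
      rw [if_neg hTi, hTj, if_neg (Ne.symm hTi), if_neg hi, if_neg hij]
      norm_num
  obtain ⟨u', hu', h2, h3⟩ := h1.signs S (by rw [hS]; norm_num) (vecB S s) (fun i hi => by
    rw [hform, vecB, if_pos hi, if_pos hi]
    split_ifs <;> simp)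
  convert hu' using 1
  funext i
  by_cases hi : i ∈ S
  · exact (h2 i hi).symm
  · have h4 := h3 i
    rw [hform, if_neg hi] at h4
    rw [vecB, if_neg hi]
    rcases h4 with h4 | h4 <;> rw [h4]
    simp

/-- From `(±4)^4` on a tetrad through `j` to `8 e_j`. -/
theorem of_vecB {o : golayCode} (ho : wt o = 8) {i₀ : GolayPt} {S : Finset GolayPt}
    (hS : S.card = 4) (hSo : S ⊆ sup o) {j : GolayPt} (hj : j ∈ S)
    (h : InOrb o i₀ (vecB S (S.erase j))) : InOrb o i₀ (Pi.single j 8) := by
  obtain ⟨T, hT, hT0, hTo, -⟩ := exists_sextet ho hS hSo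
  have h1 := h.xi hT hTo
  convert h1 using 1
  funext i
  have hsum : ∑ k ∈ S, vecB S (S.erase j) k = -8 := by
    rw [← Finset.add_sum_erase _ _ hj]
    have e1 : vecB S (S.erase j) j = 4 := by
      rw [vecB, if_pos hj, if_neg (by simp)]
    have e2 : ∀ k ∈ S.erase j, vecB S (S.erase j) k = -4 := fun k hk => by
      rw [vecB, if_pos (Finset.mem_of_mem_erase hk), if_pos hk]
    rw [e1, Finset.sum_congr rfl e2, Finset.sum_const, Finset.card_erase_of_mem hj, hS]
    norm_num
  rw [Xi.xiFun_apply, Pi.single_apply]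
  by_cases hi : i ∈ S
  · have hTi : T i = 0 := by rw [← Xi.mem_fib, hT0]; exact hi
    rw [if_pos hTi, hTi, hT0, hsum, vecB, if_pos hi]
    by_cases hij : i = j
    · rw [if_pos hij, if_neg (by simp [hij])]; norm_num
    · rw [if_neg hij, if_pos (Finset.mem_erase.2 ⟨hij, hi⟩)]; norm_num
  · have hTi : T i ≠ 0 := by
      intro h0
      apply hi
      rw [← hT0, Xi.mem_fib, h0]
    have hij : i ≠ j := by rintro rfl; exact hi hj
    have e3 : ∑ k ∈ Xi.fib T (T i), vecB S (S.erase j) k = 0 := by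
      apply Finset.sum_eq_zero
      intro k hk
      rw [vecB, if_neg]
      intro hkS
      rw [← hT0, Xi.mem_fib] at hkS
      rw [Xi.mem_fib, hkS] at hk
      exact hTi hk.symm
    rw [if_neg hij, if_neg hTi, e3, vecB, if_neg hi]
    norm_num

/-- A 4-set inside a set with 8 elements through two given points. -/
theorem exists_four {O : Finset GolayPt} (hO : O.card = 8) {i j : GolayPt} (hi : i ∈ O)
    (hj : j ∈ O) : ∃ S ⊆ O, S.card = 4 ∧ i ∈ S ∧ j ∈ S := by
  have h1 : ({i, j} : Finset GolayPt) ⊆ O := by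
    intro x hx
    rw [Finset.mem_insert, Finset.mem_singleton] at hx
    rcases hx with rfl | rfl
    · exact hi
    · exact hj
  have h2 : ({i, j} : Finset GolayPt).card ≤ 4 := le_trans Finset.card_le_two (by norm_num)
  obtain ⟨S, hS1, hS2, hS3⟩ := Finset.exists_subsuperset_card_eq h1 h2 (by rw [hO]; norm_num)
  exact ⟨S, hS2, hS3, hS1 (by simp), hS1 (by simp)⟩

theorem orb_single {o : golayCode} (ho : wt o = 8) {i₀ : GolayPt} (hi₀ : i₀ ∈ sup o)
    {j : GolayPt} (hj : j ∈ sup o) : InOrb o i₀ (Pi.single j 8) := by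
  obtain ⟨S, hSo, hS, h1, h2⟩ := exists_four (O := sup o) ho hi₀ hj
  have h3 : InOrb o i₀ (Pi.single i₀ 8) := ⟨1, (C0 o).one_mem, by rw [one_smul, e8_coe]⟩
  exact of_vecB ho hS hSo h2 (to_vecB ho hS hSo h1 h3 _)

theorem orb_single_neg {o : golayCode} (ho : wt o = 8) {i₀ : GolayPt} (hi₀ : i₀ ∈ sup o)
    {j : GolayPt} (hj : j ∈ sup o) : InOrb o i₀ (Pi.single j (-8)) := by
  have h := (orb_single ho hi₀ hj).sign allOne
  convert h using 1
  funext i
  rw [signMap_apply]
  show _ = sgn 1 * _
  rw [sgn_one, Pi.single_apply, Pi.single_apply]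
  split_ifs <;> norm_num

theorem orb_vecB {o : golayCode} (ho : wt o = 8) {i₀ : GolayPt} (hi₀ : i₀ ∈ sup o)
    {S : Finset GolayPt} (hS : S.card = 4) (hSo : S ⊆ sup o) (s : Finset GolayPt) :
    InOrb o i₀ (vecB S s) := by
  obtain ⟨j, hj⟩ : S.Nonempty := by rw [← Finset.card_pos, hS]; norm_num
  exact to_vecB ho hS hSo hj (orb_single ho hi₀ (hSo hj)) s

theorem orb_six {o : golayCode} (ho : wt o = 8) {i₀ : GolayPt} (hi₀ : i₀ ∈ sup o)
    {i : GolayPt} (hi : i ∈ sup o) (s : Finset GolayPt) :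
    ∃ u, InOrb o i₀ u ∧ (∀ j ∈ (sup o).erase i, u j = if j ∈ s then -2 else 2) ∧
      (u i = 6 ∨ u i = -6) ∧ ∀ j, j ∉ sup o → u j = 0 := by
  obtain ⟨S', hSo', hS', hi', -⟩ := exists_four (O := sup o) ho hi hi
  obtain ⟨d, hd⟩ : (sup o \ S').Nonempty := by
    rw [← Finset.card_pos, Finset.card_sdiff_of_subset hSo', hS']
    have : (sup o).card = 8 := ho
    omega
  rw [Finset.mem_sdiff] at hd
  have hdi : d ∉ S'.erase i := fun h => hd.2 (Finset.mem_of_mem_erase h)
  set S := insert d (S'.erase i) with hS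
  have hcard : S.card = 4 := by
    rw [hS, Finset.card_insert_of_notMem hdi, Finset.card_erase_of_mem hi', hS']
  have hSo : S ⊆ sup o := by
    intro x hx
    rw [hS, Finset.mem_insert] at hx
    rcases hx with rfl | hx
    · exact hd.1
    · exact hSo' (Finset.mem_of_mem_erase hx)
  have hiS : i ∉ S := by
    rw [hS, Finset.mem_insert, not_or]
    exact ⟨fun h => hd.2 (h ▸ hi'), by simp⟩
  have h0 := orb_vecB ho hi₀ hcard hSo ∅
  obtain ⟨T, hT, hT0, hTo, k, hk0, hTk⟩ := exists_sextet ho hS' hSo'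
  have h1 := h0.xi hT hTo
  have hB : ∀ j, vecB S ∅ j = if j ∈ S then 4 else 0 := fun j => by
    rw [vecB]; simp
  have hsum0 : ∑ j ∈ S', vecB S ∅ j = 12 := by
    rw [← Finset.add_sum_erase _ _ hi', hB, if_neg hiS]
    have e2 : ∀ j ∈ S'.erase i, vecB S ∅ j = 4 := fun j hj => by
      rw [hB, if_pos (by rw [hS]; exact Finset.mem_insert_of_mem hj)]
    rw [Finset.sum_congr rfl e2, Finset.sum_const, Finset.card_erase_of_mem hi', hS']
    norm_num
  have hsumk : ∑ j ∈ sup o \ S', vecB S ∅ j = 4 := by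
    rw [Finset.sum_eq_single d]
    · rw [hB, if_pos (by rw [hS]; exact Finset.mem_insert_self _ _)]
    · intro j hj hjd
      rw [hB, if_neg]
      rw [hS, Finset.mem_insert, not_or]
      exact ⟨hjd, fun h => (Finset.mem_sdiff.1 hj).2 (Finset.mem_of_mem_erase h)⟩
    · intro h; exact absurd (Finset.mem_sdiff.2 hd) h
  have hui : Xi.xiFun T (vecB S ∅) i = -6 := by
    have hTi : T i = 0 := by rw [← Xi.mem_fib, hT0]; exact hi'
    rw [Xi.xiFun_apply, if_pos hTi, hTi, hT0, hsum0, hB, if_neg hiS]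
    norm_num
  have huj : ∀ j ∈ (sup o).erase i, Xi.xiFun T (vecB S ∅) j = 2 ∨
      Xi.xiFun T (vecB S ∅) j = -2 := by
    intro j hj
    rw [Finset.mem_erase] at hj
    by_cases hjS : j ∈ S'
    · right
      have hTj : T j = 0 := by rw [← Xi.mem_fib, hT0]; exact hjS
      rw [Xi.xiFun_apply, if_pos hTj, hTj, hT0, hsum0, hB, if_pos]
      · norm_num
      · rw [hS]; exact Finset.mem_insert_of_mem (Finset.mem_erase.2 ⟨hj.1, hjS⟩)
    · have hTj : T j = k := by
        rw [← Xi.mem_fib, hTk]; exact Finset.mem_sdiff.2 ⟨hj.2, hjS⟩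
      rw [Xi.xiFun_apply, hTj, if_neg hk0, hTk, hsumk, hB]
      by_cases h : j ∈ S
      · rw [if_pos h]; right; norm_num
      · rw [if_neg h]; left; norm_num
  have huo : ∀ j, j ∉ sup o → Xi.xiFun T (vecB S ∅) j = 0 := by
    intro j hj
    have e1 : ∑ x ∈ Xi.fib T (T j), vecB S ∅ x = 0 := by
      apply Finset.sum_eq_zero
      intro x hx
      rw [hB, if_neg]
      intro hxS
      apply hj
      rw [Xi.mem_fib] at hx
      have h2 := hTo x j hx
      rw [mem_sup, ← h2, ← mem_sup]
      exact hSo hxS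
    rw [Xi.xiFun_apply, e1, hB, if_neg (fun h => hj (hSo h))]
    split_ifs <;> norm_num
  obtain ⟨u', hu', h2, h3⟩ := h1.signs ((sup o).erase i) (by
      rw [Finset.card_erase_of_mem hi]
      have : (sup o).card = 8 := ho
      omega) (fun j => if j ∈ s then -2 else 2) (fun j hj => by
    show (if j ∈ s then (-2 : ℤ) else 2) = _ ∨ (if j ∈ s then (-2 : ℤ) else 2) = _
    rcases huj j hj with h | h <;> rw [h] <;> split_ifs <;> simp)
  refine ⟨u', hu', h2, ?_, fun j hj => ?_⟩
  · rcases h3 i with h | h <;> rw [h, hui]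
    · right; rfl
    · left; norm_num
  · rcases h3 j with h | h <;> rw [h, huo j hj]
    norm_num

/-! ### Counting the orbit -/

section Count

variable {o : golayCode} (ho : wt o = 8) {i₀ : GolayPt} (hi₀ : i₀ ∈ sup o)

/-- The vectors `±8 e_j`, `j` in the octad. -/
noncomputable def setA (O : Finset GolayPt) : Finset (GolayPt → ℤ) :=
  (O ×ˢ (Finset.univ : Finset Bool)).image
    fun x => (Pi.single x.1 (if x.2 then (8 : ℤ) else -8) : GolayPt → ℤ)

theorem card_setA {O : Finset GolayPt} (hO : O.card = 8) : (setA O).card = 16 := by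
  rw [setA, Finset.card_image_of_injOn, Finset.card_product, hO, Finset.card_univ,
    Fintype.card_bool]
  rintro ⟨j, b⟩ - ⟨k, c⟩ - h
  have h1 := congrFun h j
  simp only [Pi.single_eq_same] at h1
  have h2 : j = k := by
    by_contra hne
    rw [Pi.single_eq_of_ne hne] at h1
    cases b <;> simp at h1
  subst h2
  rw [Pi.single_eq_same] at h1
  cases b <;> cases c <;> simp at h1 ⊢

/-- The vectors `(±4)^4` on 4-subsets of the octad. -/
noncomputable def setB (O : Finset GolayPt) : Finset (GolayPt → ℤ) :=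
  ((O.powersetCard 4).sigma fun S => S.powerset).image fun x => vecB x.1 x.2

theorem card_setB {O : Finset GolayPt} (hO : O.card = 8) : (setB O).card = 1120 := by
  rw [setB, Finset.card_image_of_injOn, Finset.card_sigma]
  · have : ∀ S ∈ O.powersetCard 4, S.powerset.card = 16 := fun S hS => by
      rw [Finset.card_powerset, (Finset.mem_powersetCard.1 hS).2]
      norm_num
    rw [Finset.sum_congr rfl this, Finset.sum_const, Finset.card_powersetCard, hO]
    decide
  · rintro ⟨S, s⟩ hx ⟨S', s'⟩ hy h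
    rw [Finset.mem_coe, Finset.mem_sigma, Finset.mem_powersetCard, Finset.mem_powerset] at hx hy
    simp only at h hx hy
    have h1 : S = S' := by
      ext j
      have h1 := congrFun h j
      simp only [vecB] at h1
      constructor
      · intro hj
        by_contra hj'
        rw [if_pos hj, if_neg hj'] at h1
        split_ifs at h1 <;> norm_num at h1
      · intro hj
        by_contra hj'
        rw [if_pos hj, if_neg hj'] at h1
        split_ifs at h1 <;> norm_num at h1
    subst h1
    have h2 : s = s' := by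
      ext j
      have h1 := congrFun h j
      simp only [vecB] at h1
      constructor
      · intro hj
        by_contra hj'
        rw [if_pos (hx.2 hj), if_pos (hx.2 hj), if_pos hj, if_neg hj'] at h1
        norm_num at h1
      · intro hj
        by_contra hj'
        rw [if_pos (hy.2 hj), if_pos (hy.2 hj), if_pos hj, if_neg hj'] at h1
        norm_num at h1
    rw [h2]

include ho hi₀ in
theorem exists_setC : ∃ A : Finset (GolayPt → ℤ), A.card = 1024 ∧ ∀ u ∈ A, InOrb o i₀ u ∧
    ∃ i ∈ sup o, (u i = 6 ∨ u i = -6) ∧ ∀ j, u j ≠ 8 ∧ u j ≠ -8 := by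
  classical
  have hO : (sup o).card = 8 := ho
  choose! f h1 h2 h3 h4 using fun i (hi : i ∈ sup o) (s : Finset GolayPt) =>
    orb_six ho hi₀ hi s
  refine ⟨((sup o).sigma fun i => ((sup o).erase i).powerset).image fun x => f x.1 x.2, ?_, ?_⟩
  · rw [Finset.card_image_of_injOn, Finset.card_sigma]
    · have : ∀ i ∈ sup o, ((sup o).erase i).powerset.card = 128 := fun i hi => by
        rw [Finset.card_powerset, Finset.card_erase_of_mem hi, hO]
        norm_num
      rw [Finset.sum_congr rfl this, Finset.sum_const, hO]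
      norm_num
    · rintro ⟨i, s⟩ hx ⟨i', s'⟩ hy h
      rw [Finset.mem_coe, Finset.mem_sigma, Finset.mem_powerset] at hx hy
      simp only at h hx hy
      have e1 : i = i' := by
        by_contra hne
        have e2 := h2 i' hy.1 s' i (Finset.mem_erase.2 ⟨hne, hx.1⟩)
        rw [← h] at e2
        rcases h3 i hx.1 s with e3 | e3 <;> rw [e3] at e2 <;> split_ifs at e2 <;>
          norm_num at e2
      subst e1
      have e2 : ∀ j ∈ (sup o).erase i, (j ∈ s ↔ j ∈ s') := by
        intro j hj
        have e3 := h2 i hx.1 s j hj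
        rw [h, h2 i hx.1 s' j hj] at e3
        by_cases hs : j ∈ s <;> by_cases hs' : j ∈ s'
        · exact ⟨fun _ => hs', fun _ => hs⟩
        · rw [if_pos hs, if_neg hs'] at e3; norm_num at e3
        · rw [if_pos hs', if_neg hs] at e3; norm_num at e3
        · exact ⟨fun h => absurd h hs, fun h => absurd h hs'⟩
      have e4 : s = s' := by
        ext j
        constructor
        · intro hj; exact (e2 j (hx.2 hj)).1 hj
        · intro hj; exact (e2 j (hy.2 hj)).2 hj
      rw [e4]
  · intro u hu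
    rw [Finset.mem_image] at hu
    obtain ⟨⟨i, s⟩, hx, rfl⟩ := hu
    rw [Finset.mem_sigma, Finset.mem_powerset] at hx
    simp only at hx ⊢
    refine ⟨h1 i hx.1 s, i, hx.1, h3 i hx.1 s, fun j => ?_⟩
    by_cases hj : j ∈ sup o
    · by_cases hji : j = i
      · subst hji
        rcases h3 j hx.1 s with e | e <;> rw [e] <;> norm_num
      · rw [h2 i hx.1 s j (Finset.mem_erase.2 ⟨hji, hj⟩)]
        split_ifs <;> norm_num
    · rw [h4 i hx.1 s j hj]
      norm_num

include ho hi₀ in
theorem exists_orb_set : ∃ A : Finset (GolayPt → ℤ), A.card = 2160 ∧ ∀ u ∈ A, InOrb o i₀ u := by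
  classical
  have hO : (sup o).card = 8 := ho
  obtain ⟨C, hC, hC'⟩ := exists_setC ho hi₀
  have hA : ∀ u ∈ setA (sup o), InOrb o i₀ u ∧ ∃ j, u j = 8 ∨ u j = -8 := by
    intro u hu
    rw [setA, Finset.mem_image] at hu
    obtain ⟨⟨j, b⟩, hx, rfl⟩ := hu
    rw [Finset.mem_product] at hx
    refine ⟨?_, j, ?_⟩
    · cases b
      · exact orb_single_neg ho hi₀ hx.1
      · exact orb_single ho hi₀ hx.1
    · simp only [Pi.single_eq_same]
      cases b <;> simp
  have hB : ∀ u ∈ setB (sup o), InOrb o i₀ u ∧ ∀ j, u j = 0 ∨ u j = 4 ∨ u j = -4 := by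
    intro u hu
    rw [setB, Finset.mem_image] at hu
    obtain ⟨⟨S, s⟩, hx, rfl⟩ := hu
    rw [Finset.mem_sigma, Finset.mem_powersetCard] at hx
    simp only at hx
    refine ⟨orb_vecB ho hi₀ hx.1.2 hx.1.1 s, fun j => ?_⟩
    simp only [vecB]
    split_ifs <;> simp
  refine ⟨(setA (sup o) ∪ setB (sup o)) ∪ C, ?_, ?_⟩
  · rw [Finset.card_union_of_disjoint, Finset.card_union_of_disjoint, card_setA hO,
      card_setB hO, hC]
    · rw [Finset.disjoint_left]
      intro u hu hu'
      obtain ⟨j, hj⟩ := (hA u hu).2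
      rcases (hB u hu').2 j with h | h | h <;> rw [h] at hj <;> norm_num at hj
    · rw [Finset.disjoint_left]
      intro u hu hu'
      obtain ⟨-, i, -, h1, h2⟩ := hC' u hu'
      rw [Finset.mem_union] at hu
      rcases hu with hu | hu
      · obtain ⟨j, hj⟩ := (hA u hu).2
        rcases hj with hj | hj
        · exact (h2 j).1 hj
        · exact (h2 j).2 hj
      · rcases (hB u hu).2 i with h | h | h <;> rw [h] at h1 <;> norm_num at h1
  · intro u hu
    rw [Finset.mem_union, Finset.mem_union] at hu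
    rcases hu with (hu | hu) | hu
    · exact (hA u hu).1
    · exact (hB u hu).1
    · exact (hC' u hu).1

include ho hi₀ in
theorem card_orbit : 2160 ≤ Nat.card (MulAction.orbit (C0 o) (e8 i₀)) := by
  classical
  obtain ⟨A, hA, hA'⟩ := exists_orb_set ho hi₀
  have : Finite Co0 := Cfsg.Agent.CoOneType.FrameFix.finite_co0
  have : Finite (MulAction.orbit (C0 o) (e8 i₀)) :=
    (Set.finite_range fun g : C0 o => g • e8 i₀).to_subtype
  let f : MulAction.orbit (C0 o) (e8 i₀) → (GolayPt → ℤ) := fun x => ((x : leechLattice) : GolayPt → ℤ)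
  have h1 : (A : Set (GolayPt → ℤ)) ⊆ Set.range f := by
    intro u hu
    obtain ⟨g, hg, rfl⟩ := hA' u hu
    exact ⟨⟨g • e8 i₀, ⟨⟨g, hg⟩, rfl⟩⟩, rfl⟩
  have h2 : (A : Set (GolayPt → ℤ)).ncard ≤ (Set.range f).ncard :=
    Set.ncard_le_ncard h1 (Set.finite_range f)
  rw [Set.ncard_coe_finset, hA, ← Set.image_univ] at h2
  refine h2.trans ((Set.ncard_image_le Set.finite_univ).trans ?_)
  rw [Set.ncard_univ]

end Count

/-! ### The stabiliser of `8 e_{i₀}` -/

theorem card_stab_octad {O : Finset GolayPt} (hO : O ∈ octads) :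
    322560 ≤ Nat.card (MulAction.stabilizer M24 O) := by
  have h1 : (MulAction.orbit M24 O).ncard ≤ 759 := by
    rw [← Cfsg.Agent.S0360.result]
    apply Set.ncard_le_ncard
    · rintro _ ⟨g, rfl⟩
      exact (GolayPerm.smul_mem_octads g.2).2 hO
    · exact Set.toFinite _
  have h2 := (MulAction.stabilizer M24 O).card_mul_index
  rw [MulAction.index_stabilizer, Cfsg.Agent.S0364.result] at h2
  by_contra hlt
  rw [not_le] at hlt
  have h3 := Nat.mul_le_mul (Nat.le_of_lt_succ hlt) h1
  have h4 : Nat.card (MulAction.stabilizer M24 O) * (MulAction.orbit M24 O).ncard ≤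
      322559 * 759 := Nat.mul_le_mul (by omega) h1
  rw [h2] at h4
  norm_num at h4

theorem card_stab_pt {O : Finset GolayPt} (hO : O ∈ octads) {i : GolayPt} (hi : i ∈ O) :
    40320 ≤ Nat.card (MulAction.stabilizer (MulAction.stabilizer M24 O) i) := by
  have h1 : (MulAction.orbit (MulAction.stabilizer M24 O) i).ncard ≤ 8 := by
    have h0 : O.card = 8 := hO.2
    rw [← h0, ← Set.ncard_coe_finset]
    apply Set.ncard_le_ncard
    · rintro _ ⟨g, rfl⟩
      have h2 : (g : M24) • O = O := g.2
      show (g : M24) • i ∈ (O : Set GolayPt)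
      have h3 : (g : M24) • i ∈ (g : M24) • O := Finset.smul_mem_smul_finset hi
      rwa [h2] at h3
    · exact Set.toFinite _
  have h2 := (MulAction.stabilizer (MulAction.stabilizer M24 O) i).card_mul_index
  rw [MulAction.index_stabilizer] at h2
  have h3 := card_stab_octad hO
  rw [← h2] at h3
  by_contra hlt
  rw [not_le] at hlt
  have h4 : Nat.card (MulAction.stabilizer (MulAction.stabilizer M24 O) i) *
      (MulAction.orbit (MulAction.stabilizer M24 O) i).ncard ≤ 40319 * 8 :=
    Nat.mul_le_mul (by omega) h1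
  omega

theorem card_words (i : GolayPt) :
    2048 ≤ Nat.card {c : golayCode // (c : GolayPt → ZMod 2) i = 0} := by
  classical
  have hfin : Finite {c : golayCode // (c : GolayPt → ZMod 2) i = 0} := inferInstance
  let f : golayCode → {c : golayCode // (c : GolayPt → ZMod 2) i = 0} × Bool := fun c =>
    if h : (c : GolayPt → ZMod 2) i = 0 then (⟨c, h⟩, true)
    else (⟨c + allOne, by
      have h1 := (zmod2_cases ((c : GolayPt → ZMod 2) i)).resolve_left h
      show (c : GolayPt → ZMod 2) i + 1 = 0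
      rw [h1]; decide⟩, false)
  have hf : Function.Injective f := by
    intro c d h
    simp only [f] at h
    split_ifs at h with h1 h2 h2
    · simpa using h
    · simp at h
    · simp at h
    · simpa using h
  have h1 := Nat.card_le_card_of_injective f hf
  rw [Cfsg.Agent.S0358.card_golayCode, Nat.card_prod, Nat.card_eq_fintype_card (α := Bool),
    Fintype.card_bool] at h1
  omega

theorem card_stab {o : golayCode} (ho : wt o = 8) {i₀ : GolayPt} (hi₀ : i₀ ∈ sup o) :
    2048 * 40320 ≤ Nat.card (MulAction.stabilizer (C0 o) (e8 i₀)) := by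
  have hoct : sup o ∈ octads := ⟨sup_mem o, ho⟩
  have : Finite Co0 := Cfsg.Agent.CoOneType.FrameFix.finite_co0
  have hperm : ∀ σ : MulAction.stabilizer (MulAction.stabilizer M24 (sup o)) i₀,
      wordPerm ((σ : MulAction.stabilizer M24 (sup o)) : M24) o = o := fun σ =>
    Cfsg.Agent.CoOneType.Thirteen.wordPerm_support _ _ _ σ.1.2
  let f : {c : golayCode // (c : GolayPt → ZMod 2) i₀ = 0} ×
      MulAction.stabilizer (MulAction.stabilizer M24 (sup o)) i₀ →
      MulAction.stabilizer (C0 o) (e8 i₀) := fun x =>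
    ⟨⟨signCo0 x.1.1 * permCo0 ((x.2 : MulAction.stabilizer M24 (sup o)) : M24),
      (C0 o).mul_mem (sign_mem o _) (perm_mem (hperm x.2))⟩, by
      rw [MulAction.mem_stabilizer_iff]
      show (signCo0 x.1.1 * permCo0 ((x.2 : MulAction.stabilizer M24 (sup o)) : M24)) • e8 i₀ = e8 i₀
      apply Subtype.ext
      funext j
      rw [mul_smul, signCo0_smul, signMap_apply, permCo0_smul, permMap_apply, e8_coe]
      have h1 : ((((x.2 : MulAction.stabilizer M24 (sup o)) : M24) : Equiv.Perm GolayPt)) i₀ = i₀ :=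
        x.2.2
      by_cases hj : j = i₀
      · subst hj
        have h2 : ((((x.2 : MulAction.stabilizer M24 (sup o)) : M24) : Equiv.Perm GolayPt)).symm j
            = j := by
          rw [Equiv.symm_apply_eq]; exact h1.symm
        rw [h2, x.1.2, sgn_zero, one_mul]
      · rw [Pi.single_eq_of_ne hj, Pi.single_eq_of_ne, mul_zero]
        intro h2
        rw [Equiv.symm_apply_eq, h1] at h2
        exact hj h2⟩
  have hf : Function.Injective f := by
    rintro ⟨c, σ⟩ ⟨d, τ⟩ h
    have h1 : signCo0 c.1 * permCo0 ((σ : MulAction.stabilizer M24 (sup o)) : M24) =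
        signCo0 d.1 * permCo0 ((τ : MulAction.stabilizer M24 (sup o)) : M24) :=
      congrArg (fun x : MulAction.stabilizer (C0 o) (e8 i₀) => ((x : C0 o) : Co0)) h
    obtain ⟨h2, h3⟩ := Cfsg.Agent.CoOneType.InvMain.sp_inj h1
    exact Prod.ext (Subtype.ext h2) (Subtype.ext (Subtype.ext h3))
  have h1 := Nat.card_le_card_of_injective f hf
  rw [Nat.card_prod] at h1
  exact (Nat.mul_le_mul (card_words i₀) (card_stab_pt hoct hi₀)).trans h1

/-! ### The orders -/

/-- The order of the centraliser of the sign change on an octad. -/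
theorem card_C0 {o : golayCode} (ho : wt o = 8) : 178362777600 ≤ Nat.card (C0 o) := by
  obtain ⟨i₀, hi₀⟩ : (sup o).Nonempty := by
    rw [← Finset.card_pos]
    have : (sup o).card = 8 := ho
    omega
  have h1 := (MulAction.stabilizer (C0 o) (e8 i₀)).card_mul_index
  rw [MulAction.index_stabilizer] at h1
  rw [← h1]
  have h2 := Nat.mul_le_mul (card_stab ho hi₀) (card_orbit ho hi₀)
  rw [Nat.card_coe_set_eq] at h2
  exact le_trans (by norm_num) h2

/-- The order of the centraliser in `Co1` of the image of the sign change on an octad. -/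
theorem card_centralizer {o : golayCode} (ho : wt o = 8) :
    89181388800 ≤
      Nat.card (Subgroup.centralizer {((signCo0 o : Co0) : Spor.Co1)} : Subgroup Spor.Co1) := by
  have : Finite Co0 := Cfsg.Agent.CoOneType.FrameFix.finite_co0
  have : Finite Spor.Co1 := Quotient.finite _
  let f : C0 o →* Spor.Co1 := (QuotientGroup.mk' (Subgroup.center Co0)).comp (C0 o).subtype
  have hker : Nat.card f.ker ≤ 2 := by
    have h1 : Set.MapsTo (fun x : C0 o => (x : Co0)) (f.ker : Set (C0 o))
        ({1, signCo0 allOne} : Set Co0) := by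
      intro x hx
      have h2 : ((x : Co0) : Spor.Co1) = 1 := hx
      exact (Cfsg.Agent.CoOneType.ClosingFacts.mk_eq_one (x : Co0)).1 h2
    have h2 := Set.ncard_le_ncard_of_injOn _ h1 (Subtype.val_injective.injOn) (Set.toFinite _)
    exact (Nat.card_coe_set_eq _).trans_le (h2.trans (Set.ncard_insert_le _ _ |>.trans
      (by rw [Set.ncard_singleton])))
  have hrange : Nat.card f.range ≤
      Nat.card (Subgroup.centralizer {((signCo0 o : Co0) : Spor.Co1)} : Subgroup Spor.Co1) := by
    apply Nat.card_mono (Set.toFinite _)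
    rintro _ ⟨x, rfl⟩
    rw [SetLike.mem_coe, Subgroup.mem_centralizer_singleton_iff]
    have h1 := mem_C0.1 x.2
    exact congrArg (fun y : Co0 => (y : Spor.Co1)) h1
  have hmul : Nat.card f.range * Nat.card f.ker = Nat.card (C0 o) := by
    rw [← Nat.card_congr (QuotientGroup.quotientKerEquivRange f).toEquiv, mul_comm]
    exact f.ker.card_mul_index
  have h1 := card_C0 ho
  rw [← hmul] at h1
  have h2 := Nat.mul_le_mul hrange hker
  omega

end Cfsg.Agent.CoOneType.CentOctad
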