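import Cfsg.Agent.CoOneType.UThreeChk0

set_option autoImplicit false
set_option maxRecDepth 100000

namespace Cfsg.Agent.CoOneType.UThreeAll

open Cfsg.Agent.SporadicRecognition.CosetCert Cfsg.Agent.CoOneType.UThreeData

theorem part : Part C 0 C.N 72 := Cfsg.Agent.CoOneType.UThreeChk0.all

end Cfsg.Agent.CoOneType.UThreeAll
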