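import Cfsg.Agent.CoOneType.Pres
import Cfsg.Agent.SporadicRecognition.CosetChain
import Cfsg.Agent.CoOneType.DEightAll
import Cfsg.Agent.CoOneType.LThreeAll
import Cfsg.Agent.CoOneType.UThreeAll
import Cfsg.Agent.CoOneType.JTwoAll
import Cfsg.Agent.CoOneType.GTwoAll
import Cfsg.Agent.CoOneType.TSuzAll

/-!
# The chain `L₃(2) < U₃(3):2 < J₂:2 < G₂(4):2 < 3·Suz:2` in the presentation P957
-/

set_option autoImplicit false

namespace Cfsg.Agent.CoOneType.Chain

open Cfsg.Agent.SporadicRecognition.CosetCert Cfsg.Agent.SporadicRecognition.CosetCertHyp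
open Cfsg.Agent.SporadicRecognition.CosetChain

variable {G : Type*} [Group G]

/-- The letters: `0 s, 1 t, 2 x, 3 x⁻¹, 4 y, 5 y⁻¹, 6 g, 7 h, 8 f, 9 e, 10 d`. -/
def lt (s t x y g h f e d : G) : ℕ → G
  | 0 => s
  | 1 => t
  | 2 => x
  | 3 => x⁻¹
  | 4 => y
  | 5 => y⁻¹
  | 6 => g
  | 7 => h
  | 8 => f
  | 9 => e
  | 10 => d
  | _ => 1

theorem inv_self {a : G} (h : a * a = 1) : a⁻¹ = a := inv_eq_of_mul_eq_one_right h

theorem cube_ok {a : G} (h : a ^ 3 = 1) : a * (a * (a * 1)) = 1 := by
  rw [mul_one, ← h, pow_succ, pow_two, mul_assoc]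

theorem comm_ok {a b : G} (ha : a * a = 1) (hb : b * b = 1) (h : Commute a b) :
    a * (b * (a * (b * 1))) = 1 := by
  rw [mul_one, ← mul_assoc b a b, ← h.eq, mul_assoc a b b, hb, mul_one, ha]

theorem comm_ok' {a b : G} (hb : b * b = 1) (h : Commute b a) :
    a⁻¹ * (b * (a * (b * 1))) = 1 := by
  rw [mul_one, ← mul_assoc b a b, h.eq, mul_assoc a b b, hb, mul_one, inv_mul_cancel]

theorem braid_ok {a b : G} (h : (a * b) ^ 3 = 1) :
    a * (b * (a * (b * (a * (b * 1))))) = 1 := by
  simpa only [pow_succ, pow_zero, mul_one, one_mul, mul_assoc] using h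

theorem braid_ok' {a b : G} (h : (a * b) ^ 3 = 1) :
    b * (a * (b * (a * (b * (a * 1))))) = 1 := by
  have h2 : (b * a) ^ 3 = 1 := by
    have : b * a = b * (a * b) * b⁻¹ := by group
    rw [this, conj_pow, h, mul_one, mul_inv_cancel]
  exact braid_ok h2

theorem comm_rel {q r : G} (h : Commute q r) : q⁻¹ * (r⁻¹ * (q * r)) = 1 := by
  rw [h.eq, inv_mul_cancel_left, inv_mul_cancel]

variable {s t x y d e f g h : G}

theorem sts_sq (H : PresM s t x y) : s * t * s * (s * t * s) = 1 := by
  have h1 : s * t * s * (s * t * s) = s * (t * (s * s) * t) * s := by simp only [mul_assoc]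
  rw [h1, H.s2, mul_one, H.t2, mul_one, H.s2]

theorem zt_eq (H : PresM s t x y) : (s * t) ^ 2 * t = s * t * s := by
  have h1 : (s * t) ^ 2 * t = s * t * s * (t * t) := by simp only [pow_two, mul_assoc]
  rw [h1, H.t2, mul_one]

theorem zs_sq (H : PresM s t x y) : (s * t) ^ 2 * s * ((s * t) ^ 2 * s) = 1 := by
  have h1 : (s * t) ^ 2 * s * ((s * t) ^ 2 * s) = s * t * s * (t * (s * s) * t) * s * t * s := by
    simp only [pow_two, mul_assoc]
  rw [h1, H.s2, mul_one, H.t2, mul_one]
  have h2 : s * t * s * s * t * s = s * (t * (s * s) * t) * s := by simp only [mul_assoc]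
  rw [h2, H.s2, mul_one, H.t2, mul_one, H.s2]

/-- the inverse letter -/
def invL : ℕ → ℕ
  | 2 => 3
  | 3 => 2
  | 4 => 5
  | 5 => 4
  | n => n

theorem lt_inv (H : RelK s t x y d e f g h) : ∀ n, n < 11 →
    lt s t x y g h f e d n * lt s t x y g h f e d (invL n) = 1
  | 0, _ => H.s2
  | 1, _ => H.t2
  | 2, _ => mul_inv_cancel x
  | 3, _ => inv_mul_cancel x
  | 4, _ => mul_inv_cancel y
  | 5, _ => inv_mul_cancel y
  | 6, _ => H.g2
  | 7, _ => H.h2
  | 8, _ => H.f2
  | 9, _ => H.e2
  | 10, _ => H.d2
  | (n + 11), hn => absurd hn (by omega)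

theorem rel_ok (H : RelK s t x y d e f g h) : ∀ r ∈ TSuzData.rels, ev (lt s t x y g h f e d) r = 1 := by
  intro r hr
  simp only [TSuzData.rels, List.mem_cons, List.not_mem_nil, or_false] at hr
  rcases hr with rfl | rfl | rfl | rfl | rfl | rfl | rfl | rfl | rfl | rfl | rfl | rfl | rfl | rfl | rfl | rfl | rfl | rfl | rfl | rfl | rfl | rfl | rfl | rfl | rfl | rfl | rfl | rfl | rfl | rfl | rfl | rfl | rfl | rfl | rfl | rfl | rfl | rfl | rfl | rfl | rfl | rfl | rfl | rfl
  · -- xxx
    exact cube_ok H.x3
  · -- yyy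
    exact cube_ok H.y3
  · -- sgsg
    exact comm_ok H.s2 H.g2 H.gs.symm
  · -- tgtg
    exact comm_ok H.t2 H.g2 H.gt.symm
  · -- Xgxg
    exact comm_ok' H.g2 H.gx
  · -- shsh
    exact comm_ok H.s2 H.h2 H.hs.symm
  · -- thth
    exact comm_ok H.t2 H.h2 H.ht.symm
  · -- Yhyh
    exact comm_ok' H.h2 H.hy
  · -- sfsf
    exact comm_ok H.s2 H.f2 H.fs.symm
  · -- tftf
    exact comm_ok H.t2 H.f2 H.ft.symm
  · -- Xfxf
    exact comm_ok' H.f2 H.fx
  · -- Yfyf
    exact comm_ok' H.f2 H.fy
  · -- sese
    exact comm_ok H.s2 H.e2 H.es.symm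
  · -- tete
    exact comm_ok H.t2 H.e2 H.et.symm
  · -- Xexe
    exact comm_ok' H.e2 H.ex
  · -- Yeye
    exact comm_ok' H.e2 H.ey
  · -- sdsd
    exact comm_ok H.s2 H.d2 H.ds.symm
  · -- tdtd
    exact comm_ok H.t2 H.d2 H.dt.symm
  · -- Xdxd
    exact comm_ok' H.d2 H.dx
  · -- Ydyd
    exact comm_ok' H.d2 H.dy
  · -- gege
    exact comm_ok H.g2 H.e2 H.eg.symm
  · -- hehe
    exact comm_ok H.h2 H.e2 H.eh.symm
  · -- gdgd
    exact comm_ok H.g2 H.d2 H.dg.symm
  · -- hdhd
    exact comm_ok H.h2 H.d2 H.dh.symm
  · -- fdfd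
    exact comm_ok H.f2 H.d2 H.df.symm
  · -- Ytysts
    simp only [ev, List.map, List.prod_cons, List.prod_nil, lt]
    have h1 : y⁻¹ * t * y * (s * t * s) = 1 := by rw [H.ty, zt_eq H.toPresM, sts_sq H.toPresM]
    simpa only [lt, mul_assoc, mul_one] using h1
  · -- gfgfgf
    exact braid_ok' H.fg
  · -- hfhfhf
    exact braid_ok' H.fh
  · -- fefefe
    exact braid_ok' H.ef
  · -- ededed
    exact braid_ok' H.de
  · -- Xststxs
    simp only [ev, List.map, List.prod_cons, List.prod_nil, lt]
    have h1 : x⁻¹ * (s * t) ^ 2 * x * s = 1 := by rw [H.zx, H.s2]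
    simpa only [lt, mul_assoc, mul_one, pow_succ, pow_zero, one_mul] using h1
  · -- Yststyt
    simp only [ev, List.map, List.prod_cons, List.prod_nil, lt]
    have h1 : y⁻¹ * (s * t) ^ 2 * y * t = 1 := by rw [H.zy, H.t2]
    simpa only [lt, mul_assoc, mul_one, pow_succ, pow_zero, one_mul] using h1
  · -- stststst
    simp only [ev, List.map, List.prod_cons, List.prod_nil, lt]
    simpa only [lt, mul_assoc, mul_one, pow_succ, pow_zero, one_mul] using H.st4
  · -- Xsxststs
    simp only [ev, List.map, List.prod_cons, List.prod_nil, lt]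
    have h1 : x⁻¹ * s * x * ((s * t) ^ 2 * s) = 1 := by rw [H.sx, zs_sq H.toPresM]
    simpa only [lt, mul_assoc, mul_one, pow_succ, pow_zero, one_mul] using h1
  · -- stsxstsx
    simp only [ev, List.map, List.prod_cons, List.prod_nil, lt]
    have h1 := H.xi
    rw [zt_eq H.toPresM] at h1
    have h2 : s * t * s * x * (s * t * s) * x = 1 := by rw [h1, inv_mul_cancel]
    simpa only [lt, mul_assoc, mul_one] using h2
  · -- xyxyxyxy
    simp only [ev, List.map, List.prod_cons, List.prod_nil, lt]
    simpa only [lt, mul_assoc, mul_one, pow_succ, pow_zero, one_mul] using H.xy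
  · -- ghghstst
    simp only [ev, List.map, List.prod_cons, List.prod_nil, lt]
    have h1 : (g * h) ^ 2 * (s * t) ^ 2 = 1 := by rw [H.q2, ← pow_add]; exact H.st4
    simpa only [lt, mul_assoc, mul_one, pow_succ, pow_zero, one_mul] using h1
  · -- ghXghxxghX
    simp only [ev, List.map, List.prod_cons, List.prod_nil, lt]
    simpa only [lt, mul_assoc, mul_one] using H.qx3
  · -- ghYghyyghY
    simp only [ev, List.map, List.prod_cons, List.prod_nil, lt]
    simpa only [lt, mul_assoc, mul_one] using H.qy3
  · -- ststsyststsy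
    simp only [ev, List.map, List.prod_cons, List.prod_nil, lt]
    have h2 : (s * t) ^ 2 * s * y * ((s * t) ^ 2 * s) * y = 1 := by rw [H.yi, inv_mul_cancel]
    simpa only [lt, mul_assoc, mul_one, pow_succ, pow_zero, one_mul] using h2
  · -- hgXhgxghXghx
    simp only [ev, List.map, List.prod_cons, List.prod_nil, lt]
    have h1 := comm_rel H.qx
    simp only [mul_inv_rev, inv_inv, inv_self H.g2, inv_self H.h2] at h1
    simpa only [lt, mul_assoc, mul_one] using h1
  · -- hgYhgyghYghy
    simp only [ev, List.map, List.prod_cons, List.prod_nil, lt]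
    have h1 := comm_rel H.qy
    simp only [mul_inv_rev, inv_inv, inv_self H.g2, inv_self H.h2] at h1
    simpa only [lt, mul_assoc, mul_one] using h1
  · -- xYxYxYxYxYxYxY
    simp only [ev, List.map, List.prod_cons, List.prod_nil, lt]
    simpa only [lt, mul_assoc, mul_one, pow_succ, pow_zero, one_mul] using H.xY
  · -- xyfgxyfgxyfgxyfgxyfgxyfgxyfg
    simp only [ev, List.map, List.prod_cons, List.prod_nil, lt]
    simpa only [lt, mul_assoc, mul_one, pow_succ, pow_zero, one_mul] using H.r5


/-- Elements satisfying the relations of `K`, as a numbered list of letters. -/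
structure Let (L : ℕ → G) : Prop where
  inv : ∀ n, n < 11 → L n * L (invL n) = 1
  rel : ∀ r ∈ TSuzData.rels, ev L r = 1

theorem let_of (H : RelK s t x y d e f g h) : Let (lt s t x y g h f e d) :=
  ⟨lt_inv H, rel_ok H⟩

/-- one step -/
theorem step (C : Cert) {L : ℕ → G} (H : Let L) (rels subw : List (List Nat)) (j n m : ℕ)
    (hinv : ∀ x, x < C.k → C.inv x < C.k ∧ C.inv x = invL x)
    (hrels : ∀ r ∈ rels, r ∈ TSuzData.rels) (hk : C.k ≤ 11)
    (hsub : ∀ s ∈ subw, ∀ y ∈ s, y < j)
    (hcheck : checkHyp C (restr C.k rels) (restr C.k subw) = true) (hP : Part C 0 C.N n)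
    (ih : Finite (Subgroup.closure (L '' {x | x < j})) ∧
      Nat.card (Subgroup.closure (L '' {x | x < j})) ≤ m) :
    Finite (Subgroup.closure (L '' {x | x < C.k})) ∧
      Nat.card (Subgroup.closure (L '' {x | x < C.k})) ≤ n * m := by
  obtain ⟨h1, h2⟩ := card_step C L rels subw
    (Subgroup.closure (L '' {x | x < j}))
    (fun x hx => ⟨(hinv x hx).1, by rw [(hinv x hx).2]; exact H.inv x (lt_of_lt_of_le hx hk)⟩)
    (fun r hr _ => H.rel r (hrels r hr))
    (fun s hs _ => sub_letters _ j subw hsub s hs) hcheck hP ih.1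
  exact ⟨h1, h2.trans (Nat.mul_le_mul_left _ ih.2)⟩

theorem trivial_level (L : ℕ → G) : Finite (Subgroup.closure (L '' {x | x < 0})) ∧
      Nat.card (Subgroup.closure (L '' {x | x < 0})) ≤ 1 := by
  have h0 : L '' {x | x < 0} = ∅ := by
    simp
  rw [h0, Subgroup.closure_empty]
  exact ⟨inferInstance, by simp⟩

theorem d8_le {L : ℕ → G} (H : Let L) :
    Finite (Subgroup.closure (L '' {x | x < 2})) ∧
      Nat.card (Subgroup.closure (L '' {x | x < 2})) ≤ 8 :=
  step DEightData.C H DEightData.rels DEightData.subw 0 8 1 (by decide +kernel) (by decide +kernel)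
    (by decide +kernel) (by decide +kernel) (by decide +kernel) DEightAll.part (trivial_level L)

theorem l32_le {L : ℕ → G} (H : Let L) :
    Finite (Subgroup.closure (L '' {x | x < 6})) ∧
      Nat.card (Subgroup.closure (L '' {x | x < 6})) ≤ 168 :=
  step LThreeData.C H LThreeData.rels LThreeData.subw 2 21 8 (by decide +kernel) (by decide +kernel)
    (by decide +kernel) (by decide +kernel) (by decide +kernel) LThreeAll.part (d8_le H)

theorem u33_le {L : ℕ → G} (H : Let L) :
    Finite (Subgroup.closure (L '' {x | x < 8})) ∧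
      Nat.card (Subgroup.closure (L '' {x | x < 8})) ≤ 12096 :=
  step UThreeData.C H UThreeData.rels UThreeData.subw 6 72 168 (by decide +kernel) (by decide +kernel)
    (by decide +kernel) (by decide +kernel) (by decide +kernel) UThreeAll.part (l32_le H)

theorem j2_le {L : ℕ → G} (H : Let L) :
    Finite (Subgroup.closure (L '' {x | x < 9})) ∧
      Nat.card (Subgroup.closure (L '' {x | x < 9})) ≤ 1209600 :=
  step JTwoData.C H JTwoData.rels JTwoData.subw 8 100 12096 (by decide +kernel) (by decide +kernel)
    (by decide +kernel) (by decide +kernel) (by decide +kernel) JTwoAll.part (u33_le H)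

theorem g24_le {L : ℕ → G} (H : Let L) :
    Finite (Subgroup.closure (L '' {x | x < 10})) ∧
      Nat.card (Subgroup.closure (L '' {x | x < 10})) ≤ 503193600 :=
  step GTwoData.C H GTwoData.rels GTwoData.subw 9 416 1209600 (by decide +kernel) (by decide +kernel)
    (by decide +kernel) (by decide +kernel) (by decide +kernel) GTwoAll.part (j2_le H)

theorem suz_le {L : ℕ → G} (H : Let L) :
    Finite (Subgroup.closure (L '' {x | x < 11})) ∧
      Nat.card (Subgroup.closure (L '' {x | x < 11})) ≤ 2690072985600 :=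
  step TSuzData.C H TSuzData.rels TSuzData.subw 10 5346 503193600 (by decide +kernel) (by decide +kernel)
    (by decide +kernel) (by decide +kernel) (by decide +kernel) TSuzAll.part (g24_le H)

theorem d8_closure (s t x y g h f e d : G) :
    Subgroup.closure (lt s t x y g h f e d '' {x | x < 2}) = Subgroup.closure {s, t} := by
  apply le_antisymm
  · rw [Subgroup.closure_le]
    rintro _ ⟨n, hn, rfl⟩
    simp only [Set.mem_ofPred_eq] at hn
    interval_cases n
    · exact Subgroup.subset_closure (by simp [lt])
    · exact Subgroup.subset_closure (by simp [lt])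
  · rw [Subgroup.closure_le]
    intro a ha
    simp only [Set.mem_insert_iff, Set.mem_singleton_iff] at ha
    rcases ha with rfl | rfl
    · exact Subgroup.subset_closure ⟨0, by simp, rfl⟩
    · exact Subgroup.subset_closure ⟨1, by simp, rfl⟩

theorem card_d8 (H : RelK s t x y d e f g h) :
    Finite (Subgroup.closure ({s, t} : Set G)) ∧ Nat.card (Subgroup.closure ({s, t} : Set G)) ≤ 8 := by
  rw [← d8_closure s t x y g h f e d]
  exact d8_le (let_of H)

theorem l32_closure (s t x y g h f e d : G) :
    Subgroup.closure (lt s t x y g h f e d '' {x | x < 6}) = Subgroup.closure {s, t, x, y} := by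
  apply le_antisymm
  · rw [Subgroup.closure_le]
    rintro _ ⟨n, hn, rfl⟩
    simp only [Set.mem_ofPred_eq] at hn
    interval_cases n
    · exact Subgroup.subset_closure (by simp [lt])
    · exact Subgroup.subset_closure (by simp [lt])
    · exact Subgroup.subset_closure (by simp [lt])
    · exact Subgroup.inv_mem _ (Subgroup.subset_closure (by simp))
    · exact Subgroup.subset_closure (by simp [lt])
    · exact Subgroup.inv_mem _ (Subgroup.subset_closure (by simp))
  · rw [Subgroup.closure_le]
    intro a ha
    simp only [Set.mem_insert_iff, Set.mem_singleton_iff] at ha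
    rcases ha with rfl | rfl | rfl | rfl
    · exact Subgroup.subset_closure ⟨0, by simp, rfl⟩
    · exact Subgroup.subset_closure ⟨1, by simp, rfl⟩
    · exact Subgroup.subset_closure ⟨2, by simp, rfl⟩
    · exact Subgroup.subset_closure ⟨4, by simp, rfl⟩

theorem card_l32 (H : RelK s t x y d e f g h) :
    Finite (Subgroup.closure ({s, t, x, y} : Set G)) ∧ Nat.card (Subgroup.closure ({s, t, x, y} : Set G)) ≤ 168 := by
  rw [← l32_closure s t x y g h f e d]
  exact l32_le (let_of H)

theorem u33_closure (s t x y g h f e d : G) :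
    Subgroup.closure (lt s t x y g h f e d '' {x | x < 8}) = Subgroup.closure {s, t, x, y, g, h} := by
  apply le_antisymm
  · rw [Subgroup.closure_le]
    rintro _ ⟨n, hn, rfl⟩
    simp only [Set.mem_ofPred_eq] at hn
    interval_cases n
    · exact Subgroup.subset_closure (by simp [lt])
    · exact Subgroup.subset_closure (by simp [lt])
    · exact Subgroup.subset_closure (by simp [lt])
    · exact Subgroup.inv_mem _ (Subgroup.subset_closure (by simp))
    · exact Subgroup.subset_closure (by simp [lt])
    · exact Subgroup.inv_mem _ (Subgroup.subset_closure (by simp))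
    · exact Subgroup.subset_closure (by simp [lt])
    · exact Subgroup.subset_closure (by simp [lt])
  · rw [Subgroup.closure_le]
    intro a ha
    simp only [Set.mem_insert_iff, Set.mem_singleton_iff] at ha
    rcases ha with rfl | rfl | rfl | rfl | rfl | rfl
    · exact Subgroup.subset_closure ⟨0, by simp, rfl⟩
    · exact Subgroup.subset_closure ⟨1, by simp, rfl⟩
    · exact Subgroup.subset_closure ⟨2, by simp, rfl⟩
    · exact Subgroup.subset_closure ⟨4, by simp, rfl⟩
    · exact Subgroup.subset_closure ⟨6, by simp, rfl⟩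
    · exact Subgroup.subset_closure ⟨7, by simp, rfl⟩

theorem card_u33 (H : RelK s t x y d e f g h) :
    Finite (Subgroup.closure ({s, t, x, y, g, h} : Set G)) ∧ Nat.card (Subgroup.closure ({s, t, x, y, g, h} : Set G)) ≤ 12096 := by
  rw [← u33_closure s t x y g h f e d]
  exact u33_le (let_of H)

theorem j2_closure (s t x y g h f e d : G) :
    Subgroup.closure (lt s t x y g h f e d '' {x | x < 9}) = Subgroup.closure {s, t, x, y, g, h, f} := by
  apply le_antisymm
  · rw [Subgroup.closure_le]
    rintro _ ⟨n, hn, rfl⟩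
    simp only [Set.mem_ofPred_eq] at hn
    interval_cases n
    · exact Subgroup.subset_closure (by simp [lt])
    · exact Subgroup.subset_closure (by simp [lt])
    · exact Subgroup.subset_closure (by simp [lt])
    · exact Subgroup.inv_mem _ (Subgroup.subset_closure (by simp))
    · exact Subgroup.subset_closure (by simp [lt])
    · exact Subgroup.inv_mem _ (Subgroup.subset_closure (by simp))
    · exact Subgroup.subset_closure (by simp [lt])
    · exact Subgroup.subset_closure (by simp [lt])
    · exact Subgroup.subset_closure (by simp [lt])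
  · rw [Subgroup.closure_le]
    intro a ha
    simp only [Set.mem_insert_iff, Set.mem_singleton_iff] at ha
    rcases ha with rfl | rfl | rfl | rfl | rfl | rfl | rfl
    · exact Subgroup.subset_closure ⟨0, by simp, rfl⟩
    · exact Subgroup.subset_closure ⟨1, by simp, rfl⟩
    · exact Subgroup.subset_closure ⟨2, by simp, rfl⟩
    · exact Subgroup.subset_closure ⟨4, by simp, rfl⟩
    · exact Subgroup.subset_closure ⟨6, by simp, rfl⟩
    · exact Subgroup.subset_closure ⟨7, by simp, rfl⟩
    · exact Subgroup.subset_closure ⟨8, by simp, rfl⟩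

theorem card_j2 (H : RelK s t x y d e f g h) :
    Finite (Subgroup.closure ({s, t, x, y, g, h, f} : Set G)) ∧ Nat.card (Subgroup.closure ({s, t, x, y, g, h, f} : Set G)) ≤ 1209600 := by
  rw [← j2_closure s t x y g h f e d]
  exact j2_le (let_of H)

theorem g24_closure (s t x y g h f e d : G) :
    Subgroup.closure (lt s t x y g h f e d '' {x | x < 10}) = Subgroup.closure {s, t, x, y, g, h, f, e} := by
  apply le_antisymm
  · rw [Subgroup.closure_le]
    rintro _ ⟨n, hn, rfl⟩
    simp only [Set.mem_ofPred_eq] at hn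
    interval_cases n
    · exact Subgroup.subset_closure (by simp [lt])
    · exact Subgroup.subset_closure (by simp [lt])
    · exact Subgroup.subset_closure (by simp [lt])
    · exact Subgroup.inv_mem _ (Subgroup.subset_closure (by simp))
    · exact Subgroup.subset_closure (by simp [lt])
    · exact Subgroup.inv_mem _ (Subgroup.subset_closure (by simp))
    · exact Subgroup.subset_closure (by simp [lt])
    · exact Subgroup.subset_closure (by simp [lt])
    · exact Subgroup.subset_closure (by simp [lt])
    · exact Subgroup.subset_closure (by simp [lt])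
  · rw [Subgroup.closure_le]
    intro a ha
    simp only [Set.mem_insert_iff, Set.mem_singleton_iff] at ha
    rcases ha with rfl | rfl | rfl | rfl | rfl | rfl | rfl | rfl
    · exact Subgroup.subset_closure ⟨0, by simp, rfl⟩
    · exact Subgroup.subset_closure ⟨1, by simp, rfl⟩
    · exact Subgroup.subset_closure ⟨2, by simp, rfl⟩
    · exact Subgroup.subset_closure ⟨4, by simp, rfl⟩
    · exact Subgroup.subset_closure ⟨6, by simp, rfl⟩
    · exact Subgroup.subset_closure ⟨7, by simp, rfl⟩
    · exact Subgroup.subset_closure ⟨8, by simp, rfl⟩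
    · exact Subgroup.subset_closure ⟨9, by simp, rfl⟩

theorem card_g24 (H : RelK s t x y d e f g h) :
    Finite (Subgroup.closure ({s, t, x, y, g, h, f, e} : Set G)) ∧ Nat.card (Subgroup.closure ({s, t, x, y, g, h, f, e} : Set G)) ≤ 503193600 := by
  rw [← g24_closure s t x y g h f e d]
  exact g24_le (let_of H)

theorem suz_closure (s t x y g h f e d : G) :
    Subgroup.closure (lt s t x y g h f e d '' {x | x < 11}) = Subgroup.closure {s, t, x, y, g, h, f, e, d} := by
  apply le_antisymm
  · rw [Subgroup.closure_le]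
    rintro _ ⟨n, hn, rfl⟩
    simp only [Set.mem_ofPred_eq] at hn
    interval_cases n
    · exact Subgroup.subset_closure (by simp [lt])
    · exact Subgroup.subset_closure (by simp [lt])
    · exact Subgroup.subset_closure (by simp [lt])
    · exact Subgroup.inv_mem _ (Subgroup.subset_closure (by simp))
    · exact Subgroup.subset_closure (by simp [lt])
    · exact Subgroup.inv_mem _ (Subgroup.subset_closure (by simp))
    · exact Subgroup.subset_closure (by simp [lt])
    · exact Subgroup.subset_closure (by simp [lt])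
    · exact Subgroup.subset_closure (by simp [lt])
    · exact Subgroup.subset_closure (by simp [lt])
    · exact Subgroup.subset_closure (by simp [lt])
  · rw [Subgroup.closure_le]
    intro a ha
    simp only [Set.mem_insert_iff, Set.mem_singleton_iff] at ha
    rcases ha with rfl | rfl | rfl | rfl | rfl | rfl | rfl | rfl | rfl
    · exact Subgroup.subset_closure ⟨0, by simp, rfl⟩
    · exact Subgroup.subset_closure ⟨1, by simp, rfl⟩
    · exact Subgroup.subset_closure ⟨2, by simp, rfl⟩
    · exact Subgroup.subset_closure ⟨4, by simp, rfl⟩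
    · exact Subgroup.subset_closure ⟨6, by simp, rfl⟩
    · exact Subgroup.subset_closure ⟨7, by simp, rfl⟩
    · exact Subgroup.subset_closure ⟨8, by simp, rfl⟩
    · exact Subgroup.subset_closure ⟨9, by simp, rfl⟩
    · exact Subgroup.subset_closure ⟨10, by simp, rfl⟩

theorem card_suz (H : RelK s t x y d e f g h) :
    Finite (Subgroup.closure ({s, t, x, y, g, h, f, e, d} : Set G)) ∧ Nat.card (Subgroup.closure ({s, t, x, y, g, h, f, e, d} : Set G)) ≤ 2690072985600 := by
  rw [← suz_closure s t x y g h f e d]
  exact suz_le (let_of H)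

/-- The order bound for `K` in the order of letters of `RelK`. -/
theorem card_K (H : RelK s t x y d e f g h) :
    Finite (Subgroup.closure ({s, t, x, y, d, e, f, g, h} : Set G)) ∧
      Nat.card (Subgroup.closure ({s, t, x, y, d, e, f, g, h} : Set G)) ≤ 2690072985600 := by
  have h1 : ({s, t, x, y, d, e, f, g, h} : Set G) = {s, t, x, y, g, h, f, e, d} := by
    ext a
    simp only [Set.mem_insert_iff, Set.mem_singleton_iff]
    tauto
  rw [h1]
  exact card_suz H

/-- The order bound for `C = G₂(4):2` in the order of letters of `RelK`. -/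
theorem card_C (H : RelK s t x y d e f g h) :
    Finite (Subgroup.closure ({s, t, x, y, e, f, g, h} : Set G)) ∧
      Nat.card (Subgroup.closure ({s, t, x, y, e, f, g, h} : Set G)) ≤ 503193600 := by
  have h1 : ({s, t, x, y, e, f, g, h} : Set G) = {s, t, x, y, g, h, f, e} := by
    ext a
    simp only [Set.mem_insert_iff, Set.mem_singleton_iff]
    tauto
  rw [h1]
  exact card_g24 H

end Cfsg.Agent.CoOneType.Chain
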