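import Cfsg.Agent.CoOneType.SignFacts
import Cfsg.Agent.SporRec.Closing249
import Cfsg.Agent.S0358
import Cfsg.Agent.S0360
import Cfsg.Agent.S0367
import Cfsg.Agent.S0368
import Cfsg.Agent.S0386
import Cfsg.Agent.S0398
import Cfsg.Agent.S0399

/-!
# The elementary abelian subgroup of the sign changes in `Co1` (helper249)
-/

set_option autoImplicit false
open Cfsg

namespace Cfsg.Agent.CoOneType.CoOneE

open Cfsg.Agent.SporadicA.Co0Mono
open Cfsg.Agent.SporadicA.Co1Simple
open Cfsg.Agent.SporadicStructure.Co0Base (e8 e8_coe)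
open Cfsg.Agent.SporadicStructure.LeechBase (zmod2_cases mem_support₂ support₂_inj ind support₂_ind
  mem_supports_iff_ind)
open Cfsg.Agent.SporadicStructure
open Cfsg.Agent.SporadicA
open Cfsg.Agent.CoOneType.SignFacts
open scoped Pointwise

instance : Finite Co0 :=
  Nat.finite_of_card_ne_zero (by rw [Cfsg.Agent.S0397.result]; norm_num)

/-- The projection `Co0 → Co1`. -/
def pr : Co0 →* Spor.Co1 := QuotientGroup.mk' (Subgroup.center Co0)

theorem pr_surjective : Function.Surjective pr := QuotientGroup.mk'_surjective _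

theorem allOne_ne : signCo0 allOne ≠ 1 := by
  intro h
  have h1 : signCo0 allOne • e8 none = e8 none := by rw [h, one_smul]
  rw [allOne_smul] at h1
  have h2 := congrArg (fun v : leechLattice => (v : GolayPt → ℤ) none) h1
  have h3 : -((e8 none : leechLattice) : GolayPt → ℤ) none =
    ((e8 none : leechLattice) : GolayPt → ℤ) none := h2
  rw [e8_coe, Pi.single_apply, if_pos rfl] at h3
  norm_num at h3

theorem mem_center_iff (g : Co0) : g ∈ Subgroup.center Co0 ↔ g = 1 ∨ g = signCo0 allOne := by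
  classical
  constructor
  · intro hg
    have hcard := Cfsg.Agent.S0398.result
    by_contra hcon
    push Not at hcon
    have h3 : ({1, signCo0 allOne, g} : Finset Co0).card = 3 := by
      rw [Finset.card_eq_three]
      exact ⟨1, signCo0 allOne, g, allOne_ne.symm, hcon.1.symm, hcon.2.symm, rfl⟩
    have h4 : ((({1, signCo0 allOne, g} : Finset Co0) : Set Co0)).ncard ≤
        ((Subgroup.center Co0 : Subgroup Co0) : Set Co0).ncard := by
      refine Set.ncard_le_ncard ?_ (Set.toFinite _)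
      intro x hx
      simp only [Finset.coe_insert, Finset.coe_singleton, Set.mem_insert_iff,
        Set.mem_singleton_iff] at hx
      rcases hx with rfl | rfl | rfl
      · exact Subgroup.one_mem _
      · exact allOne_mem_center
      · exact hg
    rw [Set.ncard_coe_finset, h3] at h4
    have h5 : ((Subgroup.center Co0 : Subgroup Co0) : Set Co0).ncard = 2 := hcard
    omega
  · rintro (rfl | rfl)
    · exact Subgroup.one_mem _
    · exact allOne_mem_center

theorem pr_eq_iff (g h : Co0) : pr g = pr h ↔ h = g ∨ h = g * signCo0 allOne := by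
  unfold pr
  rw [QuotientGroup.mk'_apply, QuotientGroup.mk'_apply, QuotientGroup.eq, mem_center_iff]
  constructor
  · rintro (h1 | h1)
    · left; exact (inv_mul_eq_one.1 h1).symm
    · right; rw [← h1, mul_inv_cancel_left]
  · rintro (rfl | rfl)
    · left; exact inv_mul_cancel _
    · right; exact inv_mul_cancel_left _ _

theorem pr_sign_eq_iff (c d : golayCode) :
    pr (signCo0 c) = pr (signCo0 d) ↔ d = c ∨ d = c + allOne := by
  have hinj : ∀ a b : golayCode, signCo0 a = signCo0 b → a = b := by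
    intro a b hab
    apply Subtype.ext
    funext i
    have h1 : ((signCo0 a • e8 i : leechLattice) : GolayPt → ℤ) i =
        ((signCo0 b • e8 i : leechLattice) : GolayPt → ℤ) i := by rw [hab]
    rw [signCo0_smul, signCo0_smul, signMap_apply, signMap_apply, e8_coe, Pi.single_apply,
      if_pos rfl] at h1
    rcases zmod2_cases ((a : GolayPt → ZMod 2) i) with h | h <;>
    rcases zmod2_cases ((b : GolayPt → ZMod 2) i) with h' | h' <;>
    rw [h, h'] at h1 ⊢ <;> simp [sgn_zero, sgn_one] at h1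
  rw [pr_eq_iff, ← signCo0_add]
  constructor
  · rintro (h | h)
    · exact Or.inl (hinj _ _ h)
    · exact Or.inr (hinj _ _ h)
  · rintro (rfl | rfl)
    · exact Or.inl rfl
    · exact Or.inr rfl

/-- The subgroup of `Co1` of the sign changes. -/
def E : Subgroup Spor.Co1 where
  carrier := {x | ∃ c : golayCode, x = pr (signCo0 c)}
  one_mem' := ⟨0, by rw [signCo0_zero, map_one]⟩
  mul_mem' := by
    rintro _ _ ⟨c, rfl⟩ ⟨d, rfl⟩
    exact ⟨c + d, by rw [signCo0_add, map_mul]⟩
  inv_mem' := by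
    rintro _ ⟨c, rfl⟩
    exact ⟨c, by rw [← map_inv, signCo0_inv]⟩

theorem mem_E (x : Spor.Co1) : x ∈ E ↔ ∃ c : golayCode, x = pr (signCo0 c) := Iff.rfl

theorem E_sq (x : Spor.Co1) (hx : x ∈ E) : x * x = 1 := by
  obtain ⟨c, rfl⟩ := hx
  rw [← map_mul, signCo0_mul_self, map_one]

theorem sup_inj {c d : golayCode} (h : sup c = sup d) : c = d :=
  Subtype.ext (support₂_inj h)

theorem sup_wordPerm (σ : M24) (c : golayCode) : sup (wordPerm σ c) = σ • sup c := by
  ext i
  rw [mem_sup, wordPerm_apply, ← mem_sup, Finset.mem_smul_finset]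
  constructor
  · intro h
    refine ⟨_, h, ?_⟩
    show (σ : Equiv.Perm GolayPt) ((σ : Equiv.Perm GolayPt).symm i) = i
    rw [Equiv.apply_symm_apply]
  · rintro ⟨j, hj, rfl⟩
    have : (σ : Equiv.Perm GolayPt).symm (σ • j) = j := by
      show (σ : Equiv.Perm GolayPt).symm ((σ : Equiv.Perm GolayPt) j) = j
      rw [Equiv.symm_apply_apply]
    rwa [this]

theorem sup_mem_octads (c : golayCode) : sup c ∈ octads ↔ wt c = 8 :=
  ⟨fun h => h.2, fun h => ⟨sup_mem c, h⟩⟩

theorem sup_mem_dodecads (c : golayCode) : sup c ∈ dodecads ↔ wt c = 12 :=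
  ⟨fun h => h.2, fun h => ⟨sup_mem c, h⟩⟩

/-- Sign changes on two octads or two dodecads are conjugate. -/
theorem isConj_of_wt (c d : golayCode) (h : (wt c = 8 ∧ wt d = 8) ∨ (wt c = 12 ∧ wt d = 12)) :
    IsConj (pr (signCo0 c)) (pr (signCo0 d)) := by
  have h1 : ∃ σ : M24, σ • sup c = sup d := by
    rcases h with ⟨h1, h2⟩ | ⟨h1, h2⟩
    · exact Cfsg.Agent.S0367.result _ _ ((sup_mem_octads c).2 h1) ((sup_mem_octads d).2 h2)
    · exact Cfsg.Agent.S0368.result _ _ ((sup_mem_dodecads c).2 h1) ((sup_mem_dodecads d).2 h2)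
  obtain ⟨σ, hσ⟩ := h1
  rw [← sup_wordPerm] at hσ
  have h2 := sup_inj hσ
  rw [isConj_iff]
  refine ⟨pr (permCo0 σ), ?_⟩
  rw [← map_inv, ← map_mul, ← map_mul, perm_mul_sign_mul_inv, h2]

theorem pr_sign_add_allOne (c : golayCode) : pr (signCo0 (c + allOne)) = pr (signCo0 c) :=
  ((pr_sign_eq_iff c (c + allOne)).2 (Or.inr rfl)).symm

/-- The weight of conjugate sign changes in `Co1`. -/
theorem wt_of_isConj (c d : golayCode) (h : IsConj (pr (signCo0 c)) (pr (signCo0 d))) :
    wt d = wt c ∨ wt d + wt c = 24 := by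
  rw [isConj_iff] at h
  obtain ⟨x, hx⟩ := h
  obtain ⟨g, rfl⟩ := pr_surjective x
  rw [← map_inv, ← map_mul, ← map_mul, pr_eq_iff] at hx
  rcases hx with hx | hx
  · left
    symm
    apply wt_eq_of_conj c d g
    rw [hx, inv_mul_cancel_right]
  · right
    have h1 : wt (c + allOne) = wt d := by
      apply wt_eq_of_conj _ d g
      rw [hx, signCo0_add, mul_assoc (g * signCo0 c * g⁻¹), ← sign_allOne_comm]
      group
    have h2 := wt_add_allOne c
    omega

/-- Classes of the elements of `E`: octads. -/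
theorem isConj_octad_iff (o c : golayCode) (ho : wt o = 8) :
    IsConj (pr (signCo0 o)) (pr (signCo0 c)) ↔ wt c = 8 ∨ wt c = 16 := by
  constructor
  · intro h
    rcases wt_of_isConj o c h with h | h
    · left; omega
    · right; omega
  · rintro (h | h)
    · exact isConj_of_wt o c (Or.inl ⟨ho, h⟩)
    · rw [← pr_sign_add_allOne c]
      have := wt_add_allOne c
      exact isConj_of_wt o _ (Or.inl ⟨ho, by omega⟩)

/-- Classes of the elements of `E`: dodecads. -/
theorem isConj_dodecad_iff (d c : golayCode) (hd : wt d = 12) :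
    IsConj (pr (signCo0 d)) (pr (signCo0 c)) ↔ wt c = 12 := by
  constructor
  · intro h
    rcases wt_of_isConj d c h with h | h <;> omega
  · intro h
    exact isConj_of_wt d c (Or.inr ⟨hd, h⟩)

theorem sup_zero : sup 0 = ∅ := by
  ext i
  rw [mem_sup]
  simp

theorem wt_eq_zero (c : golayCode) (h : wt c = 0) : c = 0 := by
  apply sup_inj
  rw [sup_zero]
  exact Finset.card_eq_zero.1 h

theorem allOne_add_self : allOne + allOne = 0 := by
  apply Subtype.ext
  funext i
  show (1 : ZMod 2) + 1 = 0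
  decide

theorem add_allOne_add_allOne (c : golayCode) : c + allOne + allOne = c := by
  rw [add_assoc, allOne_add_self, add_zero]

theorem pr_sign_eq_one_iff (c : golayCode) : pr (signCo0 c) = 1 ↔ wt c = 0 ∨ wt c = 24 := by
  constructor
  · intro h
    have h1 : pr (signCo0 c) = pr (signCo0 0) := by rw [h, signCo0_zero, map_one]
    rcases (pr_sign_eq_iff c 0).1 h1 with h2 | h2
    · left; rw [← h2]; unfold wt; rw [sup_zero, Finset.card_empty]
    · right
      have h3 := wt_add_allOne c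
      rw [← h2] at h3
      have h4 : wt 0 = 0 := by unfold wt; rw [sup_zero, Finset.card_empty]
      omega
  · rintro (h | h)
    · rw [wt_eq_zero c h, signCo0_zero, map_one]
    · have h3 := wt_add_allOne c
      have h4 := wt_eq_zero (c + allOne) (by omega)
      rw [← pr_sign_add_allOne, h4, signCo0_zero, map_one]

/-- Weights of the elements of `E` which are neither trivial nor conjugate to the octad
elements. -/
theorem wt_of_not (o c : golayCode) (ho : wt o = 8) (h1 : pr (signCo0 c) ≠ 1)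
    (h2 : ¬ IsConj (pr (signCo0 o)) (pr (signCo0 c))) : wt c = 12 := by
  rw [Ne, pr_sign_eq_one_iff] at h1
  rw [isConj_octad_iff o c ho] at h2
  have := wt_cases c
  omega

/-- Sign changes are normalised by the monomial group. -/
theorem N_normalises (g : Co0) (hg : g ∈ N) (c : golayCode) :
    ∃ d : golayCode, g * signCo0 c * g⁻¹ = signCo0 d := by
  obtain ⟨a, σ, rfl⟩ := exists_sign_perm hg
  refine ⟨wordPerm σ c, ?_⟩
  have h1 := perm_mul_sign_mul_inv σ c
  have h2 : signCo0 a * permCo0 σ * signCo0 c * (signCo0 a * permCo0 σ)⁻¹ =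
      signCo0 a * (permCo0 σ * signCo0 c * (permCo0 σ)⁻¹) * (signCo0 a)⁻¹ := by group
  rw [h2, h1, signCo0_inv, ← signCo0_add, ← signCo0_add]
  congr 1
  rw [add_comm a, add_assoc]
  have : a + a = 0 := Cfsg.Agent.SporadicA.Co1Simple.signCo0_add_self a
  rw [this, add_zero]

/-- The fusion hypothesis of the closing theorem. -/
theorem E_fusion (o : golayCode) (ho : wt o = 8) (a : Spor.Co1) (ha : a ∈ E) (ha1 : a ≠ 1)
    (haz : ¬ IsConj (pr (signCo0 o)) a) (h : Spor.Co1) (hh : h * a * h⁻¹ ∈ E) :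
    ∃ g ∈ N, h = pr g := by
  obtain ⟨c, rfl⟩ := ha
  obtain ⟨d, hd⟩ := hh
  obtain ⟨g, rfl⟩ := pr_surjective h
  have hc : wt c = 12 := wt_of_not o c ho ha1 haz
  have hcd : IsConj (pr (signCo0 c)) (pr (signCo0 d)) := by
    rw [isConj_iff]
    exact ⟨pr g, hd⟩
  have hd12 : wt d = 12 := (isConj_dodecad_iff c d hc).1 hcd
  refine ⟨g, ?_, rfl⟩
  rw [← map_inv, ← map_mul, ← map_mul, pr_eq_iff] at hd
  rcases hd with hd | hd
  · apply mem_N_of_conj_dodecad c d hc hd12 g
    rw [hd, inv_mul_cancel_right]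
  · have h2 := wt_add_allOne c
    apply mem_N_of_conj_dodecad (c + allOne) d (by omega) hd12 g
    rw [hd, signCo0_add, mul_assoc (g * signCo0 c * g⁻¹), ← sign_allOne_comm]
    group

theorem E_normal (o : golayCode) (ho : wt o = 8) (a : Spor.Co1) (ha : a ∈ E) (ha1 : a ≠ 1)
    (haz : ¬ IsConj (pr (signCo0 o)) a) (h : Spor.Co1) (hh : h * a * h⁻¹ ∈ E) :
    ∀ e ∈ E, h * e * h⁻¹ ∈ E := by
  obtain ⟨g, hg, rfl⟩ := E_fusion o ho a ha ha1 haz h hh
  rintro _ ⟨c, rfl⟩
  obtain ⟨d, hd⟩ := N_normalises g hg c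
  exact ⟨d, by rw [← hd, map_mul, map_mul, map_inv]⟩

/-- The centraliser of a dodecad element is contained in the image of the monomial group. -/
theorem centralizer_dodecad_le (d : golayCode) (hd : wt d = 12) :
    Subgroup.centralizer ({pr (signCo0 d)} : Set Spor.Co1) ≤ N.map pr := by
  intro h hh
  rw [Subgroup.mem_centralizer_singleton_iff] at hh
  obtain ⟨o, ho⟩ : ∃ o : golayCode, wt o = 8 := by
    have h1 := Cfsg.Agent.S0360.result
    obtain ⟨x, hx⟩ : octads.Nonempty := by
      rw [Set.nonempty_iff_ne_empty]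
      intro h0
      rw [h0, Set.ncard_empty] at h1
      norm_num at h1
    obtain ⟨w, hw, hwx⟩ := hx.1
    exact ⟨⟨w, hw⟩, by unfold wt sup; rw [hwx]; exact hx.2⟩
  have hd1 : pr (signCo0 d) ≠ 1 := by rw [Ne, pr_sign_eq_one_iff]; omega
  have hdz : ¬ IsConj (pr (signCo0 o)) (pr (signCo0 d)) := by
    rw [isConj_octad_iff o d ho]; omega
  obtain ⟨g, hg, rfl⟩ := E_fusion o ho _ ⟨d, rfl⟩ hd1 hdz h (by
    rw [hh, mul_inv_cancel_right]; exact ⟨d, rfl⟩)
  exact ⟨g, hg, rfl⟩

theorem not_dvd_centralizer_dodecad (d : golayCode) (hd : wt d = 12) :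
    ¬ 13 ∣ Nat.card (Subgroup.centralizer ({pr (signCo0 d)} : Set Spor.Co1)) := by
  intro h
  have h1 : Nat.card (Subgroup.centralizer ({pr (signCo0 d)} : Set Spor.Co1)) ∣
      Nat.card (N.map pr) := Subgroup.card_dvd_of_le (centralizer_dodecad_le d hd)
  have h2 : Nat.card (N.map pr) ∣ Nat.card N := Subgroup.card_map_dvd _ _
  have h3 := (h.trans h1).trans h2
  rw [Cfsg.Agent.S0399.card_N] at h3
  norm_num at h3

/-! ### the numbers 759 and 264 -/

open Classical in
/-- The code word with a given support. -/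
noncomputable def wordOf (s : Finset GolayPt) : golayCode :=
  if h : ind s ∈ golayCode then ⟨ind s, h⟩ else 0

theorem sup_wordOf {s : Finset GolayPt}
    (h : s ∈ supports (golayCode : Set (GolayPt → ZMod 2))) : sup (wordOf s) = s := by
  rw [mem_supports_iff_ind] at h
  unfold wordOf
  rw [dif_pos h]
  exact support₂_ind s

theorem wordOf_sup (c : golayCode) : wordOf (sup c) = c := sup_inj (sup_wordOf (sup_mem c))

theorem wt_wordOf {s : Finset GolayPt} (h : s ∈ octads) : wt (wordOf s) = 8 := by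
  unfold wt
  rw [sup_wordOf h.1]; exact h.2

/-- The class of octad elements in `E` as an image. -/
theorem octadClass_eq (o : golayCode) (ho : wt o = 8) :
    {u : Spor.Co1 | u ∈ E ∧ IsConj (pr (signCo0 o)) u} =
      (fun s => pr (signCo0 (wordOf s))) '' octads := by
  ext u
  constructor
  · rintro ⟨⟨c, rfl⟩, h⟩
    rcases (isConj_octad_iff o c ho).1 h with h | h
    · exact ⟨sup c, (sup_mem_octads c).2 h, by show pr _ = _; rw [wordOf_sup]⟩
    · have h2 := wt_add_allOne c
      refine ⟨sup (c + allOne), (sup_mem_octads _).2 (by omega), ?_⟩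
      show pr _ = _
      rw [wordOf_sup, pr_sign_add_allOne]
  · rintro ⟨s, hs, rfl⟩
    exact ⟨⟨_, rfl⟩, (isConj_octad_iff o _ ho).2 (Or.inl (wt_wordOf hs))⟩

theorem injOn_octads : Set.InjOn (fun s => pr (signCo0 (wordOf s))) octads := by
  intro s hs t ht hst
  rcases (pr_sign_eq_iff _ _).1 hst with h | h
  · rw [← sup_wordOf hs.1, ← sup_wordOf ht.1, h]
  · exfalso
    have h1 := wt_wordOf hs
    have h2 := wt_wordOf ht
    have h3 := wt_add_allOne (wordOf s)
    rw [← h] at h3
    omega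

theorem card_octadClass (o : golayCode) (ho : wt o = 8) :
    Nat.card {u : Spor.Co1 // u ∈ E ∧ u ∈ {x | IsConj (pr (signCo0 o)) x}} = 759 := by
  have h1 : Nat.card {u : Spor.Co1 // u ∈ E ∧ u ∈ {x | IsConj (pr (signCo0 o)) x}} =
      {u : Spor.Co1 | u ∈ E ∧ IsConj (pr (signCo0 o)) u}.ncard := rfl
  rw [h1, octadClass_eq o ho, Set.InjOn.ncard_image injOn_octads]
  exact Cfsg.Agent.S0360.result

theorem sup_add (c d : golayCode) : sup (c + d) = symmDiff (sup c) (sup d) := by
  ext i
  rw [Finset.mem_symmDiff]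
  simp only [mem_sup]
  show (c : GolayPt → ZMod 2) i + (d : GolayPt → ZMod 2) i = 1 ↔ _
  rcases zmod2_cases ((c : GolayPt → ZMod 2) i) with h | h <;>
  rcases zmod2_cases ((d : GolayPt → ZMod 2) i) with h' | h' <;> rw [h, h'] <;> decide

theorem wt_add (c d : golayCode) : wt (c + d) + 2 * (sup c ∩ sup d).card = wt c + wt d := by
  unfold wt
  rw [sup_add]
  exact GolayBase.card_symmDiff_add _ _

theorem card_octadClass_mul (o : golayCode) (ho : wt o = 8) (a : Spor.Co1) (ha : a ∈ E)
    (ha1 : a ≠ 1) (haz : a ∉ {x | IsConj (pr (signCo0 o)) x}) :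
    Nat.card {u : Spor.Co1 // (u ∈ E ∧ u ∈ {x | IsConj (pr (signCo0 o)) x}) ∧
      u * a ∈ {x | IsConj (pr (signCo0 o)) x}} = 264 := by
  obtain ⟨d, rfl⟩ := ha
  have hd : wt d = 12 := wt_of_not o d ho ha1 haz
  have h1 : Nat.card {u : Spor.Co1 // (u ∈ E ∧ u ∈ {x | IsConj (pr (signCo0 o)) x}) ∧
      u * pr (signCo0 d) ∈ {x | IsConj (pr (signCo0 o)) x}} =
      {u : Spor.Co1 | (u ∈ E ∧ IsConj (pr (signCo0 o)) u) ∧
        IsConj (pr (signCo0 o)) (u * pr (signCo0 d))}.ncard := rfl
  have hset : {u : Spor.Co1 | (u ∈ E ∧ IsConj (pr (signCo0 o)) u) ∧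
        IsConj (pr (signCo0 o)) (u * pr (signCo0 d))} =
      (fun s => pr (signCo0 (wordOf s))) ''
        ({s | s ∈ octads ∧ (s ∩ sup d).card = 6} ∪ {s | s ∈ octads ∧ (s ∩ sup d).card = 2}) := by
    have hiff : ∀ s ∈ octads, IsConj (pr (signCo0 o)) (pr (signCo0 (wordOf s)) * pr (signCo0 d)) ↔
        ((s ∩ sup d).card = 6 ∨ (s ∩ sup d).card = 2) := by
      intro s hs
      rw [← map_mul, ← signCo0_add, isConj_octad_iff o _ ho]
      have h2 := wt_add (wordOf s) d
      rw [sup_wordOf hs.1, wt_wordOf hs, hd] at h2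
      omega
    ext u
    constructor
    · rintro ⟨h2, h3⟩
      have h4 : u ∈ {u : Spor.Co1 | u ∈ E ∧ IsConj (pr (signCo0 o)) u} := h2
      rw [octadClass_eq o ho] at h4
      obtain ⟨s, hs, rfl⟩ := h4
      refine ⟨s, ?_, rfl⟩
      rcases (hiff s hs).1 h3 with h | h
      · exact Or.inl ⟨hs, h⟩
      · exact Or.inr ⟨hs, h⟩
    · rintro ⟨s, hs, rfl⟩
      have hs' : s ∈ octads := by rcases hs with hs | hs <;> exact hs.1
      refine ⟨⟨⟨_, rfl⟩, (isConj_octad_iff o _ ho).2 (Or.inl (wt_wordOf hs'))⟩, ?_⟩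
      apply (hiff s hs').2
      rcases hs with hs | hs
      · exact Or.inl hs.2
      · exact Or.inr hs.2
  rw [h1, hset, Set.InjOn.ncard_image (injOn_octads.mono (by
    rintro s (hs | hs) <;> exact hs.1)), Set.ncard_union_eq]
  · have h2 := Cfsg.Agent.S0386.result (sup d) ((sup_mem_dodecads d).2 hd)
    rw [h2.1, h2.2.1]
  · rw [Set.disjoint_left]
    rintro s ⟨-, h2⟩ ⟨-, h3⟩
    omega

/-- The homomorphism from the code onto `E`. -/
def toE : Multiplicative golayCode →* Spor.Co1 where
  toFun c := pr (signCo0 c.toAdd)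
  map_one' := by
    show pr (signCo0 0) = 1
    rw [signCo0_zero, map_one]
  map_mul' c d := by
    show pr (signCo0 (c.toAdd + d.toAdd)) = _
    rw [signCo0_add, map_mul]

theorem card_E : Nat.card E = 2048 := by
  have h1 : toE.range = E := by
    ext x
    constructor
    · rintro ⟨c, rfl⟩
      exact ⟨c.toAdd, rfl⟩
    · rintro ⟨c, rfl⟩
      exact ⟨Multiplicative.ofAdd c, rfl⟩
  have h2 := Subgroup.card_eq_card_quotient_mul_card_subgroup toE.ker
  have h3 : Nat.card (Multiplicative golayCode) = 4096 := Cfsg.Agent.S0358.card_golayCode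
  have h4 : Nat.card (Multiplicative golayCode ⧸ toE.ker) = Nat.card E := by
    rw [← h1]
    exact Nat.card_congr (QuotientGroup.quotientKerEquivRange toE).toEquiv
  have h5 : Nat.card toE.ker = 2 := by
    have h6 : ((toE.ker : Subgroup (Multiplicative golayCode)) :
        Set (Multiplicative golayCode)) = {1, Multiplicative.ofAdd allOne} := by
      ext c
      have h7 : toE c = 1 ↔ c.toAdd = 0 ∨ c.toAdd = allOne := by
        show pr (signCo0 c.toAdd) = 1 ↔ _
        have h8 : pr (signCo0 c.toAdd) = 1 ↔ pr (signCo0 0) = pr (signCo0 c.toAdd) := by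
          rw [signCo0_zero, map_one, eq_comm]
        rw [h8, pr_sign_eq_iff, zero_add]
      exact h7
    have h8 : Nat.card toE.ker = ((toE.ker : Subgroup (Multiplicative golayCode)) :
        Set (Multiplicative golayCode)).ncard := rfl
    rw [h8, h6, Set.ncard_pair]
    intro h
    have h9 : (0 : golayCode) = allOne := congrArg Multiplicative.toAdd h
    apply allOne_ne
    rw [← h9, signCo0_zero]
  rw [h3, h4, h5] at h2
  omega

/-- The counting hypothesis of the closing theorem. -/
theorem E_count (o : golayCode) (ho : wt o = 8) (A : Subgroup Spor.Co1) (hAE : A ≤ E)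
    (hA1 : A ≠ ⊥) (hAD : ∀ a ∈ A, ¬ IsConj (pr (signCo0 o)) a) :
    ∃ u₁ ∈ E, IsConj (pr (signCo0 o)) u₁ ∧ ∃ u₂ ∈ E, IsConj (pr (signCo0 o)) u₂ ∧
      Nat.card {a : A // IsConj (pr (signCo0 o)) (u₁ * (a : Spor.Co1))} ≠
        Nat.card {a : A // IsConj (pr (signCo0 o)) (u₂ * (a : Spor.Co1))} := by
  refine Cfsg.Agent.SporRec.Closing249.count_of_numbers E {x | IsConj (pr (signCo0 o)) x} 759 264
    (card_octadClass o ho) (by norm_num) (fun a ha ha1 haz => card_octadClass_mul o ho a ha ha1 haz)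
    A hAE hAD ?_
  -- the order of `A` is `2 ^ k`, `1 ≤ k ≤ 10`
  have h1 : Nat.card A ∣ 2 ^ 11 := by
    have := Subgroup.card_dvd_of_le hAE
    rw [card_E] at this
    exact this
  obtain ⟨k, hk, hkA⟩ := (Nat.dvd_prime_pow Nat.prime_two).1 h1
  have hk0 : k ≠ 0 := by
    rintro rfl
    rw [pow_zero] at hkA
    exact hA1 (Subgroup.card_eq_one.1 hkA)
  have hk11 : k ≠ 11 := by
    rintro rfl
    have h2 : A = E := Subgroup.eq_of_le_of_card_ge hAE (by rw [hkA, card_E]; norm_num)
    apply hAD (pr (signCo0 o))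
    · rw [h2]; exact ⟨o, rfl⟩
    · exact IsConj.refl _
  rw [hkA]
  have hk' : k ≤ 10 := by omega
  interval_cases k <;> first | omega | norm_num

end Cfsg.Agent.CoOneType.CoOneE
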