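import Cfsg.Agent.CoOneType.ClosingFacts
import Cfsg.Agent.CoOneType.CoOneE
import Cfsg.Agent.CoOneType.InvBridge

/-!
# The closing theorem for `Co1`

`surjective` : an injective homomorphism `φ : Co1 →* G` (`G` finite) whose range contains the
centraliser of `φ z`, `z` the image of the sign change on an octad, `11` and `13` not dividing the
order of the centraliser of `φ z`, is surjective.
-/

set_option autoImplicit false

namespace Cfsg.Agent.CoOneType.ClosingMain

open Cfsg Cfsg.Spor Cfsg.Agent.SporadicA.Co0Mono Cfsg.Agent.SporadicA.Co1Simple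
open Cfsg.Agent.CoOneType.SignFacts Cfsg.Agent.CoOneType.Thirteen
open Cfsg.Agent.CoOneType.ClosingFacts Cfsg.Agent.CoOneType.CoOneE

theorem a1 : A1 := Cfsg.Agent.CoOneType.InvBridge.conj_sign

theorem a1' : A1' := Cfsg.Agent.CoOneType.InvBridge.conj_b0

theorem exists_octad : ∃ o : golayCode, wt o = 8 := by
  have h1 := Cfsg.Agent.S0360.result
  obtain ⟨x, hx⟩ : octads.Nonempty := by
    rw [Set.nonempty_iff_ne_empty]
    intro h0
    rw [h0, Set.ncard_empty] at h1
    norm_num at h1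
  obtain ⟨w, hw, hwx⟩ := hx.1
  exact ⟨⟨w, hw⟩, by unfold wt sup; rw [hwx]; exact hx.2⟩

theorem mk_sign_ne_one {c : golayCode} (h0 : wt c ≠ 0) (h24 : wt c ≠ 24) :
    mk (signCo0 c) ≠ 1 := by
  intro h
  have h1 := (pr_sign_eq_one_iff c).1 h
  omega

theorem mk_sign_sq (c : golayCode) : mk (signCo0 c) * mk (signCo0 c) = 1 := by
  rw [← mk_mul, signCo0_mul_self]
  rfl

/-- **Closing for `Co1`.** -/
theorem surjective {G : Type*} [Group G] [Finite G] (φ : Co1 →* G) (hφ : Function.Injective φ)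
    (o : golayCode) (ho : wt o = 8)
    (hC : ∀ g : G, g * φ (mk (signCo0 o)) * g⁻¹ = φ (mk (signCo0 o)) → g ∈ φ.range)
    (h11 : ¬ 11 ∣ Nat.card (Subgroup.centralizer ({φ (mk (signCo0 o))} : Set G)))
    (h13 : ¬ 13 ∣ Nat.card (Subgroup.centralizer ({φ (mk (signCo0 o))} : Set G))) :
    Function.Surjective φ := by
  have hd : wt (q 0) = 12 := card_q0
  have hcard := Cfsg.Agent.SporRec.Closing249.card_centralizer_eq φ hφ (mk (signCo0 o)) hC
  rw [hcard] at h11 h13
  have : Finite Co1 := Finite.of_injective φ hφ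
  refine Cfsg.Agent.SporRec.Closing249.surjective_of_facts Cfsg.Agent.S0399.result.1 φ hφ
    (mk (signCo0 o)) (mk (signCo0 (q 0))) E (mk_sign_sq o)
    (mk_sign_ne_one (by omega) (by omega)) (mk_sign_sq _) (mk_sign_ne_one (by omega) (by omega))
    hC (not_isConj o (q 0) ho hd) (hLz o (q 0) a1 a1' ho hd h11 h13)
    (hLc o (q 0) a1 a1' ho hd (not_dvd_centralizer_dodecad (q 0) hd))
    (fun e he => E_sq e he) ⟨q 0, rfl⟩
    (fun a ha ha1 haz h hh => E_normal o ho a ha ha1 haz h hh)
    (fun A hAE hA1 hAD => E_count o ho A hAE hA1 hAD)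
    (C4 o (q 0) a1 ho hd)

/-- **Closing for `Co1`**, for a group `G` with a subgroup `G₀` isomorphic to `Co1` containing the
centraliser of an involution `z` of `G₀` corresponding to a sign change on an octad. -/
theorem eq_top {G : Type*} [Group G] [Finite G] (G₀ : Subgroup G) (e : G₀ ≃* Co1) (z : G)
    (hz : z ∈ G₀) (o : golayCode) (ho : wt o = 8) (hzo : IsConj (e ⟨z, hz⟩) (mk (signCo0 o)))
    (hC : Subgroup.centralizer ({z} : Set G) ≤ G₀)
    (h11 : ¬ 11 ∣ Nat.card (Subgroup.centralizer ({z} : Set G)))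
    (h13 : ¬ 13 ∣ Nat.card (Subgroup.centralizer ({z} : Set G))) : G₀ = ⊤ := by
  obtain ⟨g, hg⟩ := isConj_iff.1 hzo
  -- move `z`
  let φ : Co1 →* G := G₀.subtype.comp ((e.symm.toMonoidHom).comp (MulAut.conj g⁻¹).toMonoidHom)
  have hφ : Function.Injective φ := by
    intro a b h
    have h1 : e.symm (MulAut.conj g⁻¹ a) = e.symm (MulAut.conj g⁻¹ b) := Subtype.ext h
    exact (MulAut.conj g⁻¹).injective (e.symm.injective h1)
  have hφz : φ (mk (signCo0 o)) = z := by
    show ((e.symm (g⁻¹ * mk (signCo0 o) * g⁻¹⁻¹) : G₀) : G) = z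
    rw [← hg]
    have : g⁻¹ * (g * e ⟨z, hz⟩ * g⁻¹) * g⁻¹⁻¹ = e ⟨z, hz⟩ := by group
    rw [this, MulEquiv.symm_apply_apply]
  have hrange : φ.range = G₀ := by
    apply le_antisymm
    · rintro _ ⟨x, rfl⟩
      exact (e.symm (MulAut.conj g⁻¹ x)).2
    · intro x hx
      refine ⟨(MulAut.conj g⁻¹).symm (e ⟨x, hx⟩), ?_⟩
      show ((e.symm (MulAut.conj g⁻¹ ((MulAut.conj g⁻¹).symm (e ⟨x, hx⟩))) : G₀) : G) = x
      rw [MulEquiv.apply_symm_apply, MulEquiv.symm_apply_apply]
  have hsurj := surjective φ hφ o ho (by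
    intro h hh
    rw [hrange]
    apply hC
    rw [Subgroup.mem_centralizer_singleton_iff]
    rw [hφz] at hh
    calc h * z = (h * z * h⁻¹) * h := by group
      _ = z * h := by rw [hh]) (by rw [hφz]; exact h11) (by rw [hφz]; exact h13)
  rw [← hrange]
  exact MonoidHom.range_eq_top.2 hsurj

/-- An involution of `Co1` whose centraliser has order prime to 11 and 13 is conjugate to a sign
change on an octad. -/
theorem isConj_of_not_dvd (o : golayCode) (ho : wt o = 8) (k : Co1) (hk : k * k = 1) (hk1 : k ≠ 1)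
    (h11 : ¬ 11 ∣ Nat.card (Subgroup.centralizer {k} : Subgroup Co1))
    (h13 : ¬ 13 ∣ Nat.card (Subgroup.centralizer {k} : Subgroup Co1)) :
    IsConj k (mk (signCo0 o)) := by
  have hd : wt (q 0) = 12 := card_q0
  rcases co1_cases o (q 0) a1 a1' ho hd k hk hk1 with h | h | ⟨t, rfl, h⟩
  · exact h.symm
  · exact absurd (isConj_dvd h (eleven_dvd (q 0) hd)) h11
  · exact absurd (thirteen_dvd_of_conj t h) h13

/-- **Closing for `Co1`**, final form: `G` finite, `G₀` a subgroup isomorphic to `Co1` containing the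
centraliser of an involution `z ∈ G₀`, this centraliser of order prime to 11 and 13. Then
`G₀ = G`. -/
theorem eq_top' {G : Type*} [Group G] [Finite G] (G₀ : Subgroup G) (e : G₀ ≃* Co1) (z : G)
    (hz2 : z * z = 1) (hz1 : z ≠ 1) (hC : Subgroup.centralizer ({z} : Set G) ≤ G₀)
    (h11 : ¬ 11 ∣ Nat.card (Subgroup.centralizer ({z} : Set G)))
    (h13 : ¬ 13 ∣ Nat.card (Subgroup.centralizer ({z} : Set G))) : G₀ = ⊤ := by
  have hz : z ∈ G₀ := hC (by rw [Subgroup.mem_centralizer_singleton_iff])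
  obtain ⟨o, ho⟩ := exists_octad
  have hcard : Nat.card (Subgroup.centralizer {e ⟨z, hz⟩} : Subgroup Co1) =
      Nat.card (Subgroup.centralizer ({z} : Set G)) := by
    have h := Cfsg.Agent.SporRec.Closing249.card_centralizer_eq
      (G₀.subtype.comp e.symm.toMonoidHom)
      (G₀.subtype_injective.comp e.symm.injective) (e ⟨z, hz⟩) (by
        intro g hg
        have h1 : (G₀.subtype.comp e.symm.toMonoidHom) (e ⟨z, hz⟩) = z := by
          show ((e.symm (e ⟨z, hz⟩) : G₀) : G) = z
          rw [MulEquiv.symm_apply_apply]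
        rw [h1] at hg
        have h2 : g ∈ G₀ := by
          apply hC
          rw [Subgroup.mem_centralizer_singleton_iff]
          calc g * z = (g * z * g⁻¹) * g := by group
            _ = z * g := by rw [hg]
        refine ⟨e ⟨g, h2⟩, ?_⟩
        show ((e.symm (e ⟨g, h2⟩) : G₀) : G) = g
        rw [MulEquiv.symm_apply_apply])
    have h1 : (G₀.subtype.comp e.symm.toMonoidHom) (e ⟨z, hz⟩) = z := by
      show ((e.symm (e ⟨z, hz⟩) : G₀) : G) = z
      rw [MulEquiv.symm_apply_apply]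
    rw [h1] at h
    exact h.symm
  refine eq_top G₀ e z hz o ho (isConj_of_not_dvd o ho _ ?_ ?_ ?_ ?_) hC h11 h13
  · rw [← map_mul]
    have : (⟨z, hz⟩ : G₀) * ⟨z, hz⟩ = 1 := Subtype.ext hz2
    rw [this, map_one]
  · intro h
    rw [← map_one e] at h
    exact hz1 (congrArg Subtype.val (e.injective h))
  · rw [hcard]; exact h11
  · rw [hcard]; exact h13

end Cfsg.Agent.CoOneType.ClosingMain
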