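import Cfsg.Agent.SporadicStructure.Co0Matrix

/-!
Evaluation of words in explicit elements of `Co0` by the action on one lattice vector with trivial stabilizer.
-/

set_option autoImplicit false

namespace Cfsg.Agent.CoOneType.CoEval

open Cfsg Cfsg.Agent.SporadicA Cfsg.Agent.SporadicStructure.Co0Matrix

/-! ### A vector with trivial stabilizer -/

/-- The coordinates `8 · 64^i`. -/
def betaL : List ℤ := (List.range 24).map fun i => 8 * 64 ^ i

theorem betaL_ok : leechB betaL = true := by decide +kernel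

/-- The vector with coordinates `8 · 64^i`. -/
def beta : leechLattice := ⟨vec betaL, vec_mem_of_leechB betaL_ok⟩

theorem beta_coe : ((beta : leechLattice) : GolayPt → ℤ) = vec betaL := rfl

theorem vec_betaL (p : GolayPt) : vec betaL p = 8 * 64 ^ GolayBase.idx p := getD_range_map _ p

/-- Uniqueness of expansions in base `64` with small digits. -/
theorem digits (n : ℕ) : ∀ d : ℕ → ℤ, (∀ i, i < n → |d i| ≤ 16) →
    ∑ i ∈ Finset.range n, d i * 64 ^ i = 0 → ∀ i, i < n → d i = 0 := by
  induction n with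
  | zero => intro d _ _ i hi; omega
  | succ n ih =>
    intro d hd hs
    rw [Finset.sum_range_succ'] at hs
    have e : ∑ i ∈ Finset.range n, d (i + 1) * 64 ^ (i + 1) =
        64 * ∑ i ∈ Finset.range n, d (i + 1) * 64 ^ i := by
      rw [Finset.mul_sum]
      exact Finset.sum_congr rfl fun i _ => by rw [pow_succ]; ring
    rw [e, pow_zero, mul_one] at hs
    have h0 := abs_le.mp (hd 0 (Nat.succ_pos n))
    have hd0 : d 0 = 0 := by omega
    have hs' : ∑ i ∈ Finset.range n, d (i + 1) * 64 ^ i = 0 := by omega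
    have := ih (fun i => d (i + 1)) (fun i hi => hd (i + 1) (by omega)) hs'
    intro i hi
    cases i with
    | zero => exact hd0
    | succ i => exact this i (by omega)

theorem dot_beta (v : GolayPt → ℤ) :
    dotInt (vec betaL) v = 8 * ∑ i ∈ Finset.range 24, v (GolayBase.pt i) * 64 ^ i := by
  unfold dotInt
  rw [GolayBase.sum_pt, Finset.mul_sum]
  refine Finset.sum_congr rfl fun i hi => ?_
  rw [vec_betaL, GolayBase.idx_pt (Finset.mem_range.mp hi)]
  ring

theorem abs_le_of_norm {v : GolayPt → ℤ} (hv : sqNorm v = 64) (p : GolayPt) : |v p| ≤ 8 := by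
  have h1 : v p ^ 2 ≤ sqNorm v := by
    unfold sqNorm
    exact Finset.single_le_sum (f := fun i => v i ^ 2) (fun i _ => sq_nonneg _) (Finset.mem_univ p)
  rw [hv] at h1
  rw [abs_le]
  constructor <;> nlinarith

theorem sqNorm_e8 (i : GolayPt) : sqNorm ((Co0Basic.e8 i : leechLattice) : GolayPt → ℤ) = 64 := by
  unfold sqNorm
  rw [Finset.sum_eq_single i]
  · rw [Co0Basic.e8_apply, if_pos rfl]; norm_num
  · intro j _ hj
    rw [Co0Basic.e8_apply, if_neg hj]; norm_num
  · intro h; exact absurd (Finset.mem_univ i) h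

/-- The stabilizer of the vector is trivial. -/
theorem eq_one_of_fix {g : Co0} (h : g.1 beta = beta) : g = 1 := by
  apply Co0Basic.ext_e8
  intro i
  have h1 := Co0Basic.map_dot g beta (Co0Basic.e8 i)
  rw [h, beta_coe] at h1
  set c : GolayPt → ℤ := ((g.1 (Co0Basic.e8 i) : leechLattice) : GolayPt → ℤ) with hc
  set e : GolayPt → ℤ := ((Co0Basic.e8 i : leechLattice) : GolayPt → ℤ) with he
  have hcn : sqNorm c = 64 := by
    rw [hc, Co0Basic.map_sqNorm g (Co0Basic.e8 i)]; exact sqNorm_e8 i
  have hen : sqNorm e = 64 := sqNorm_e8 i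
  have h2 : ∑ j ∈ Finset.range 24, (c (GolayBase.pt j) - e (GolayBase.pt j)) * 64 ^ j = 0 := by
    have h3 : dotInt (vec betaL) c - dotInt (vec betaL) e = 0 := by linarith
    rw [dot_beta, dot_beta, ← mul_sub, ← Finset.sum_sub_distrib] at h3
    have h4 : ∑ j ∈ Finset.range 24, (c (GolayBase.pt j) * 64 ^ j - e (GolayBase.pt j) * 64 ^ j) = 0 := by
      omega
    rw [← h4]
    exact Finset.sum_congr rfl fun j _ => by ring
  have h5 := digits 24 (fun j => c (GolayBase.pt j) - e (GolayBase.pt j)) (fun j _ => by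
    have h6 := abs_le.mp (abs_le_of_norm hcn (GolayBase.pt j))
    have h7 := abs_le.mp (abs_le_of_norm hen (GolayBase.pt j))
    rw [abs_le]; constructor <;> linarith) h2
  apply Subtype.ext
  funext p
  have h8 : c (GolayBase.pt (GolayBase.idx p)) - e (GolayBase.pt (GolayBase.idx p)) = 0 :=
    h5 _ (GolayBase.idx_lt p)
  rw [GolayBase.pt_idx] at h8
  show c p = e p
  linarith

theorem eq_of_fix {g h : Co0} (hgh : g.1 beta = h.1 beta) : g = h := by
  have : h⁻¹ * g = 1 := by
    apply eq_one_of_fix
    show (h⁻¹).1 (g.1 beta) = beta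
    rw [hgh]
    exact congrArg (fun x : Co0 => x.1 beta) (inv_mul_cancel h)
  exact (inv_mul_eq_one.mp this).symm

/-! ### Matrices representing elements -/

/-- The element `g` acts as the matrix `R` (times `1/8`). -/
structure Rep (g : Co0) (R : List (List ℤ)) : Prop where
  len : R.length = 24
  act : ∀ v : leechLattice, ((g.1 v : leechLattice) : GolayPt → ℤ) = act R v

theorem Ok.symm {R C : List (List ℤ)} (h : Ok R C) : Ok C R :=
  ⟨h.lenC, h.lenR, h.lC, h.lR, trB_symm h.tr, h.oC, h.oR, h.pC, h.pR⟩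

theorem rep_mk {R C : List (List ℤ)} (h : Ok R C) : Rep (mk h) R := ⟨h.lenR, fun _ => rfl⟩

theorem rep_inv {R C : List (List ℤ)} (h : Ok R C) : Rep (mk h)⁻¹ C := ⟨h.lenC, fun _ => rfl⟩

/-- Matrix times vector on lists. -/
def ap (R : List (List ℤ)) (l : List ℤ) : List ℤ := R.map fun r => dotL l r / 8

theorem length_ap {R : List (List ℤ)} (hR : R.length = 24) (l : List ℤ) : (ap R l).length = 24 := by
  rw [ap, List.length_map, hR]

theorem Rep.apply {g : Co0} {R : List (List ℤ)} (h : Rep g R) {v : leechLattice} {l : List ℤ}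
    (hl : l.length ≤ 24) (hv : (v : GolayPt → ℤ) = vec l) :
    ((g.1 v : leechLattice) : GolayPt → ℤ) = vec (ap R l) := by
  rw [h.act v, hv]; exact act_vec h.len hl

/-- The image of a list under a word. -/
def fold (M : ℕ → List (List ℤ)) (w : List ℕ) (l : List ℤ) : List ℤ :=
  w.foldr (fun i l => ap (M i) l) l

theorem fold_spec {e : ℕ → Co0} {M : ℕ → List (List ℤ)} (hM : ∀ i, Rep (e i) (M i)) (w : List ℕ)
    {l : List ℤ} (hl : l.length ≤ 24) {v : leechLattice} (hv : (v : GolayPt → ℤ) = vec l) :
    (fold M w l).length ≤ 24 ∧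
      ((((w.map e).prod : Co0).1 v : leechLattice) : GolayPt → ℤ) = vec (fold M w l) := by
  induction w with
  | nil => exact ⟨hl, hv⟩
  | cons i w ih =>
    refine ⟨(length_ap (hM i).len _).le, ?_⟩
    rw [List.map_cons, List.prod_cons]
    exact (hM i).apply ih.1 ih.2

/-- Boolean equality of lists of integers. -/
def eqL : List ℤ → List ℤ → Bool
  | [], [] => true
  | a :: s, b :: t => decide (a = b) && eqL s t
  | _, _ => false

theorem eqL_eq : ∀ {s t : List ℤ}, eqL s t = true → s = t
  | [], [], _ => rfl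
  | a :: s, b :: t, h => by
    rw [eqL, Bool.and_eq_true] at h
    rw [of_decide_eq_true h.1, eqL_eq h.2]
  | [], _ :: _, h => by simp [eqL] at h
  | _ :: _, [], h => by simp [eqL] at h

/-- The negative of `betaL`. -/
def negbetaL : List ℤ := (List.range 24).map fun i => -(8 * 64 ^ i)

theorem vec_negbetaL : vec negbetaL = - vec betaL := by
  funext p
  rw [Pi.neg_apply, vec_betaL]
  exact getD_range_map _ p

/-- The word is `1` in `Co0`. -/
def oneB (M : ℕ → List (List ℤ)) (w : List ℕ) : Bool := eqL (fold M w betaL) betaL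

/-- The word is `-1` in `Co0`. -/
def negB (M : ℕ → List (List ℤ)) (w : List ℕ) : Bool := eqL (fold M w betaL) negbetaL

theorem eq_one_of_oneB {e : ℕ → Co0} {M : ℕ → List (List ℤ)} (hM : ∀ i, Rep (e i) (M i)) {w : List ℕ}
    (h : oneB M w = true) : (w.map e).prod = 1 := by
  apply eq_one_of_fix
  apply Subtype.ext
  have h1 := (fold_spec hM w (l := betaL) (v := beta) (by decide) rfl).2
  rw [eqL_eq h] at h1
  exact h1

theorem eq_neg_of_negB {e : ℕ → Co0} {M : ℕ → List (List ℤ)} (hM : ∀ i, Rep (e i) (M i)) {w : List ℕ}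
    (h : negB M w = true) : (w.map e).prod = Co0Basic.negCo0 := by
  apply eq_of_fix
  apply Subtype.ext
  have h1 := (fold_spec hM w (l := betaL) (v := beta) (by decide) rfl).2
  rw [eqL_eq h] at h1
  rw [h1, Co0Basic.negCo0_apply, vec_negbetaL]
  rfl

/-- The word is `1` in `Co1`. -/
def relB (M : ℕ → List (List ℤ)) (w : List ℕ) : Bool :=
  let l := fold M w betaL
  if decide (l.headD 0 = 8) then eqL l betaL else
    eqL l betaL || eqL l negbetaL

/-- The projection to `Co1`. -/
abbrev pr (g : Co0) : Spor.Co1 := QuotientGroup.mk' (Subgroup.center Co0) g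

theorem pr_neg : pr Co0Basic.negCo0 = 1 :=
  (QuotientGroup.eq_one_iff _).mpr Co0Basic.negCo0_mem_center

theorem map_prod_pr (e : ℕ → Co0) (w : List ℕ) : (w.map fun i => pr (e i)).prod = pr (w.map e).prod := by
  rw [pr, map_list_prod, List.map_map]
  rfl

theorem eq_one_of_relB {e : ℕ → Co0} {M : ℕ → List (List ℤ)} (hM : ∀ i, Rep (e i) (M i)) {w : List ℕ}
    (h : relB M w = true) : (w.map fun i => pr (e i)).prod = 1 := by
  rw [map_prod_pr]
  have h' : oneB M w = true ∨ negB M w = true := by
    unfold relB at h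
    simp only at h
    split at h
    · exact Or.inl h
    · exact (Bool.or_eq_true _ _ ▸ h)
  rcases h' with h' | h'
  · rw [eq_one_of_oneB hM h']; exact map_one _
  · rw [eq_neg_of_negB hM h']; exact pr_neg

/-- A word is not `1` in `Co1` if its value on `beta` is not `± beta`. -/
def neB (M : ℕ → List (List ℤ)) (w : List ℕ) : Bool :=
  (let l := fold M w betaL
  !(eqL l betaL) && !(eqL l negbetaL)) && Nat.beq (fold M w betaL).length 24

theorem eqL_refl : ∀ s : List ℤ, eqL s s = true
  | [] => rfl
  | a :: s => by rw [eqL, eqL_refl s, decide_eq_true rfl]; rfl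

theorem vec_injective {s t : List ℤ} (hs : s.length = 24) (ht : t.length = 24) (h : vec s = vec t) :
    s = t := by
  apply List.ext_getElem (by rw [hs, ht])
  intro i h1 h2
  have := congrFun h (GolayBase.pt i)
  rw [vec_apply, vec_apply, GolayBase.idx_pt (by omega), List.getD_eq_getElem _ _ h1,
    List.getD_eq_getElem _ _ h2] at this
  exact this

theorem ne_one_of_neB {e : ℕ → Co0} {M : ℕ → List (List ℤ)} (hM : ∀ i, Rep (e i) (M i)) {w : List ℕ}
    (h : neB M w = true) : (w.map fun i => pr (e i)).prod ≠ 1 := by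
  rw [map_prod_pr]
  intro h1
  have h2 : (w.map e).prod ∈ Subgroup.center Co0 := (QuotientGroup.eq_one_iff _).mp h1
  have h3 := (fold_spec hM w (l := betaL) (v := beta) (by decide) rfl).2
  unfold neB at h
  simp only [Bool.and_eq_true, Bool.not_eq_true'] at h
  have hlen := Nat.eq_of_beq_eq_true h.2
  rcases Co0Basic.eq_one_or_neg_of_mem_center h2 with h4 | h4
  · rw [h4] at h3
    have h5 : vec betaL = vec (fold M w betaL) := h3
    have h6 := vec_injective (by decide) hlen h5
    rw [← h6, eqL_refl] at h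
    exact absurd h.1.1 (by decide)
  · rw [h4, Co0Basic.negCo0_apply] at h3
    have h5 : vec negbetaL = vec (fold M w betaL) := by rw [vec_negbetaL]; exact h3
    have h6 := vec_injective (by decide) hlen h5
    rw [← h6, eqL_refl] at h
    exact absurd h.1.2 (by decide)

/-- Negatives of the entries. -/
def negL (l : List ℤ) : List ℤ := l.map fun a => -a

theorem getD_negL : ∀ (l : List ℤ) (i : ℕ), (negL l).getD i 0 = - l.getD i 0
  | [], i => by simp [negL]
  | a :: t, 0 => rfl
  | a :: t, i + 1 => getD_negL t i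

theorem vec_negL (l : List ℤ) : vec (negL l) = - vec l := by
  funext p
  rw [Pi.neg_apply, vec_apply, vec_apply]
  exact getD_negL l _

/-- Two words agree in `Co1`. -/
def sameB (M : ℕ → List (List ℤ)) (w w' : List ℕ) : Bool :=
  let l := fold M w betaL
  let l' := fold M w' betaL
  eqL l l' || eqL l (negL l')

theorem eq_of_sameB {e : ℕ → Co0} {M : ℕ → List (List ℤ)} (hM : ∀ i, Rep (e i) (M i)) {w w' : List ℕ}
    (h : sameB M w w' = true) :
    (w.map fun i => pr (e i)).prod = (w'.map fun i => pr (e i)).prod := by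
  rw [map_prod_pr, map_prod_pr]
  have h1 := (fold_spec hM w (l := betaL) (v := beta) (by decide) rfl).2
  have h2 := (fold_spec hM w' (l := betaL) (v := beta) (by decide) rfl).2
  rcases (Bool.or_eq_true _ _ ▸ h : (_ = true) ∨ (_ = true)) with h3 | h3
  · rw [eqL_eq h3, ← h2] at h1
    rw [eq_of_fix (Subtype.ext h1)]
  · rw [eqL_eq h3, vec_negL, ← h2] at h1
    have h4 : (w.map e).prod = Co0Basic.negCo0 * (w'.map e).prod := by
      apply eq_of_fix
      apply Subtype.ext
      rw [h1]
      rfl
    rw [h4, pr, map_mul]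
    show pr Co0Basic.negCo0 * _ = _
    rw [pr_neg, one_mul]

end Cfsg.Agent.CoOneType.CoEval
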