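import Cfsg.Agent.SporadicStructure.Co0Matrix

/-!
A faster check that an explicit matrix gives an element of `Co0` (zeros are skipped).
-/

set_option autoImplicit false

namespace Cfsg.Agent.CoOneType.CoFast

open Cfsg Cfsg.Agent.SporadicA Cfsg.Agent.SporadicStructure.Co0Matrix

/-- Dot product skipping the zeros of the second list. -/
def dotZ : List ℤ → List ℤ → ℤ
  | a :: s, b :: t =>
    match b with
    | Int.ofNat 0 => dotZ s t
    | b => a * b + dotZ s t
  | _, _ => 0

theorem dotZ_eq : ∀ s t : List ℤ, dotZ s t = dotL s t
  | a :: s, b :: t => by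
    rw [dotL_cons]
    unfold dotZ
    split
    · rename_i h
      rw [dotZ_eq s t]
      show dotL s t = a * 0 + dotL s t
      ring
    · rw [dotZ_eq s t]
  | [], t => by rw [dotL_nil_left]; rfl
  | a :: s, [] => by rw [dotL_nil_right]; rfl

/-- Check that the map `act R` preserves the lattice. -/
def presZ (R : List (List ℤ)) : Bool :=
  gens.all fun g =>
    let v := R.map fun r => dotZ g r
    (v.all fun a => Nat.beq (a % 8).toNat 0) && leechB (v.map fun a => a / 8)

theorem presB_of_presZ {R : List (List ℤ)} (h : presZ R = true) : presB R = true := by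
  unfold presB
  rw [List.all_eq_true]
  intro g hg
  have h1 := List.all_eq_true.mp h g hg
  simp only [Bool.and_eq_true, List.map_map] at h1
  obtain ⟨h1, h2⟩ := h1
  rw [Bool.and_eq_true]
  constructor
  · rw [List.all_eq_true]
    intro r hr
    have h3 := List.all_eq_true.mp h1 (dotZ g r) (List.mem_map_of_mem hr)
    have h4 := Nat.eq_of_beq_eq_true h3
    rw [dotZ_eq] at h4
    apply decide_eq_true
    omega
  · have e : (fun r => dotL g r / 8) = (fun a : ℤ => a / 8) ∘ fun r => dotZ g r := by
      funext r
      show dotL g r / 8 = dotZ g r / 8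
      rw [dotZ_eq]
    rw [e]
    exact h2

/-- Check that the rows are orthogonal of norm 64: the rows after a given one. -/
def orthZ : List (List ℤ) → Bool
  | [] => true
  | r :: t => decide (dotZ r r = 64) && (t.all fun s => decide (dotZ r s = 0)) && orthZ t

theorem orthZ_spec : ∀ {R : List (List ℤ)}, orthZ R = true → ∀ i j, i < R.length → j < R.length →
    dotL (R.getD i []) (R.getD j []) = if i = j then 64 else 0
  | [], _, i, _, hi, _ => absurd hi (by simp)
  | r :: t, h, i, j, hi, hj => by
    unfold orthZ at h
    rw [Bool.and_eq_true, Bool.and_eq_true] at h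
    obtain ⟨⟨h1, h2⟩, h3⟩ := h
    have h1' : dotL r r = 64 := by rw [← dotZ_eq]; exact of_decide_eq_true h1
    have h2' : ∀ s ∈ t, dotL r s = 0 := fun s hs => by
      rw [← dotZ_eq]; exact of_decide_eq_true (List.all_eq_true.mp h2 s hs)
    have hcomm : ∀ a b : List ℤ, dotL a b = dotL b a := by
      intro a
      induction a with
      | nil => intro b; rw [dotL_nil_left, dotL_nil_right]
      | cons x a ih =>
        intro b
        cases b with
        | nil => rw [dotL_nil_left, dotL_nil_right]
        | cons y b => rw [dotL_cons, dotL_cons, ih, mul_comm]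
    cases i with
    | zero =>
      cases j with
      | zero => simpa using h1'
      | succ j =>
        simp only [List.getD_cons_zero, List.getD_cons_succ]
        rw [if_neg (by omega)]
        exact h2' _ (getD_mem_of_lt t [] (by simpa using hj))
    | succ i =>
      cases j with
      | zero =>
        simp only [List.getD_cons_zero, List.getD_cons_succ]
        rw [if_neg (by omega), hcomm]
        exact h2' _ (getD_mem_of_lt t [] (by simpa using hi))
      | succ j =>
        simp only [List.getD_cons_succ]
        rw [orthZ_spec h3 i j (by simpa using hi) (by simpa using hj)]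
        by_cases hij : i = j
        · rw [if_pos hij, if_pos (by omega)]
        · rw [if_neg hij, if_neg (by omega)]

/-- Columns of a matrix. -/
def eqM : List (List ℤ) → List (List ℤ) → Bool
  | [], [] => true
  | a :: s, b :: t => eqR a b && eqM s t
  | _, _ => false
where
  /-- equality of rows -/
  eqR : List ℤ → List ℤ → Bool
  | [], [] => true
  | a :: s, b :: t => decide (a = b) && eqR s t
  | _, _ => false

/-- heads -/
def hd (R : List (List ℤ)) : List ℤ := R.map fun r => r.headD 0

/-- tails -/
def tl (R : List (List ℤ)) : List (List ℤ) := R.map List.tail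

theorem eqR_eq : ∀ {s t : List ℤ}, eqM.eqR s t = true → s = t
  | [], [], _ => rfl
  | a :: s, b :: t, h => by
    rw [eqM.eqR, Bool.and_eq_true] at h
    rw [of_decide_eq_true h.1, eqR_eq h.2]
  | [], _ :: _, h => by simp [eqM.eqR] at h
  | _ :: _, [], h => by simp [eqM.eqR] at h

/-- `C` lists the columns of `R`. -/
def trZ : List (List ℤ) → List (List ℤ) → Bool
  | _, [] => true
  | R, c :: C => eqM.eqR (hd R) c && trZ (tl R) C

theorem getD_tail (r : List ℤ) (j : ℕ) : r.tail.getD j 0 = r.getD (j + 1) 0 := by
  cases r with
  | nil => rfl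
  | cons a t => rfl

theorem trZ_spec : ∀ {C R : List (List ℤ)}, trZ R C = true → ∀ i j, i < R.length → j < C.length →
    (R.getD i []).getD j 0 = (C.getD j []).getD i 0
  | [], R, _, i, j, _, hj => absurd hj (by simp)
  | c :: C, R, h, i, j, hi, hj => by
    unfold trZ at h
    rw [Bool.and_eq_true] at h
    have h1 := eqR_eq h.1
    cases j with
    | zero =>
      rw [List.getD_cons_zero, ← h1, hd]
      have e2 : (R.map fun r => r.headD 0).getD i 0 = (R[i]).headD 0 := by
        rw [List.getD_eq_getElem _ _ (by simpa using hi), List.getElem_map]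
      rw [e2, List.getD_eq_getElem R _ hi]
      cases R[i] with
      | nil => rfl
      | cons a t => rfl
    | succ j =>
      rw [List.getD_cons_succ]
      rw [← trZ_spec h.2 i j (by simpa [tl] using hi) (by simpa using hj)]
      rw [List.getD_eq_getElem R _ hi, List.getD_eq_getElem (tl R) _ (by simpa [tl] using hi)]
      simp only [tl, List.getElem_map]
      rw [getD_tail]

/-- All checks. -/
def okZ (R C : List (List ℤ)) : Bool :=
  Nat.beq R.length 24 && Nat.beq C.length 24 && (R.all fun r => Nat.beq r.length 24) &&
    (C.all fun r => Nat.beq r.length 24) && trZ R C && orthZ R && orthZ C && presZ R && presZ C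

/-- All checks for a matrix and `ε` times itself as transpose. -/
theorem ok_of_okZ {R C : List (List ℤ)} (h : okZ R C = true) : Ok R C := by
  simp only [okZ, Bool.and_eq_true] at h
  obtain ⟨⟨⟨⟨⟨⟨⟨⟨h1, h2⟩, h3⟩, h4⟩, h5⟩, h6⟩, h7⟩, h8⟩, h9⟩ := h
  have hR := Nat.eq_of_beq_eq_true h1
  have hC := Nat.eq_of_beq_eq_true h2
  have ble : ∀ {M : List (List ℤ)}, (M.all fun r => Nat.beq r.length 24) = true →
      (M.all fun r => Nat.ble r.length 24) = true := by
    intro M hM
    rw [List.all_eq_true] at hM ⊢
    intro r hr
    exact Nat.ble_eq_true_of_le (Nat.eq_of_beq_eq_true (hM r hr)).le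
  have orth : ∀ {M : List (List ℤ)}, M.length = 24 → orthZ M = true → orthB M = true := by
    intro M hM ho
    unfold orthB
    rw [List.all_eq_true]
    intro i hi
    rw [List.all_eq_true]
    intro j hj
    exact decide_eq_true (orthZ_spec ho i j (by rw [hM]; exact List.mem_range.mp hi)
      (by rw [hM]; exact List.mem_range.mp hj))
  refine ⟨hR, hC, ble h3, ble h4, ?_, orth hR h6, orth hC h7, presB_of_presZ h8, presB_of_presZ h9⟩
  unfold trB
  rw [List.all_eq_true]
  intro i hi
  rw [List.all_eq_true]
  intro j hj
  exact decide_eq_true (trZ_spec h5 i j (by rw [hR]; exact List.mem_range.mp hi)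
    (by rw [hC]; exact List.mem_range.mp hj))

end Cfsg.Agent.CoOneType.CoFast
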