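import Mathlib
import Cfsg.Agent.LargeExtra.Lift

/-!
# Coordinates of `2₊^(1+8)` adapted to a hyperbolic pair

`q₀, q₁` involutions with `[q₁, q₀] = z`, and `q_(i+1) = e_i e_(i+1)` (`i = 1, …, 6`) in the even part of the
Clifford algebra on seven letters `e₁, …, e₇`, `e_i² = -1 = z`.
-/

set_option autoImplicit false

namespace Cfsg.Agent.CoOneType.Coords

open Cfsg.Agent.LargeExtra.Model Cfsg.Agent.LargeExtra.Pres Cfsg.Agent.LargeExtra.AutBound
open Cfsg.Agent.LargeExtra.Models Cfsg.Agent.LargeExtra.Lift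
open Cfsg.Agent.Transfer.ExtraspecialTwo
open scoped commutatorElement

/-- The even Clifford group on seven letters. -/
abbrev rC6 : ℕ → ℕ := rows [1, 3, 6, 12, 24, 48]
/-- A hyperbolic pair and the even Clifford group on seven letters. -/
abbrev rC8 : ℕ → ℕ := rows [0, 1, 4, 12, 24, 48, 96, 192]

/-- The model. -/
abbrev X : Type := XG rC8 8

theorem nd_C6 : Nondeg rC6 6 := by decide +kernel
theorem nd_C8 : Nondeg rC8 8 := by decide +kernel
theorem tri_C6 : Tri rC6 6 := by decide +kernel
theorem tri_C8 : Tri rC8 8 := by decide +kernel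

theorem sq_C6 : sqOne (XG rC6 6) = 72 := by
  rw [sqOne_eq_fintype]; decide +kernel

theorem ct_C6 : CentralTwo (XG rC6 6) := centralTwo nd_C6
theorem ct_C8 : CentralTwo (XG rC8 8) := centralTwo nd_C8

theorem tb_zero : ∀ i : Fin 6, (rC8 (i.1 + 2)).testBit 0 = false := by decide
theorem tb_one : ∀ i : Fin 6, (rC8 (i.1 + 2)).testBit 1 = false := by decide
theorem tb_comm : ∀ i j : Fin 6, j < i → q rC6 6 i * q rC6 6 j =
    zp zz ((rC8 (i.1 + 2)).testBit (j.1 + 2)) * (q rC6 6 j * q rC6 6 i) := by decide +kernel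

/-- Adapted coordinates. -/
theorem exists_coords {Q : Type*} [Group Q] [Finite Q] (hQ : CentralTwo Q)
    (hc : Nat.card Q = 2 ^ (2 * 4 + 1)) (hs : sqOne Q = 272) {a b : Q} (hab : ⁅a, b⁆ ≠ 1)
    (ha : a ^ 2 = 1) (hb : b ^ 2 = 1) :
    ∃ φ : X ≃* Q, φ (q rC8 8 0) = a ∧ φ (q rC8 8 1) = b := by
  set K := Subgroup.centralizer ({a, b} : Set Q) with hK
  have hKc : Nat.card K = 2 ^ (2 * 3 + 1) := card_centralizer (n := 3) hQ hc hab
  have hKs : sqOne K = 72 := by
    have h1 := sqOne_eq hQ hab ha hb
    rw [hs, ← hK, hKc] at h1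
    omega
  have hKct : CentralTwo K := hQ.centralizer hab
  -- the centralizer
  obtain ⟨e⟩ : Nonempty (K ≃* XG rC6 6) :=
    iso_of_sqOne hKct ct_C6 ct_E6 hKc card_XG card_XG (by rw [sq_C6, sq_E6]; decide)
      (by rw [hKs, sq_C6])
  -- the central involution
  obtain ⟨z, hz⟩ : ∃ z : Q, z = ⁅a, b⁆ := ⟨_, rfl⟩
  have hz1 : z ≠ 1 := by rw [hz]; exact hab
  have hzc : z ∈ Subgroup.center Q := by rw [hz]; exact hQ.comm_mem a b
  have hzz : z * z = 1 := by rw [← sq]; exact hQ.sq_eq_one hzc
  have hzK : z ∈ K := Subgroup.center_le_centralizer _ hzc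
  have hez : (e.symm zz : K) = ⟨z, hzK⟩ := by
    have h1 : (e.symm zz : K) ∈ Subgroup.center K := by
      rw [Subgroup.mem_center_iff]
      intro g
      have h2 := zz_comm (e g)
      apply e.injective
      rw [map_mul, map_mul, MulEquiv.apply_symm_apply, h2]
    have h2 : (⟨z, hzK⟩ : K) ∈ Subgroup.center K := by
      rw [Subgroup.mem_center_iff]
      intro g
      exact Subtype.ext ((Subgroup.mem_center_iff.mp hzc) g)
    refine hKct.eq_of_ne_one h1 h2 ?_ ?_
    · intro h3
      rw [MulEquiv.symm_apply_eq, map_one] at h3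
      exact zz_ne h3
    · intro h3
      exact hz1 (congrArg Subtype.val h3)
  -- the generators
  let g : ℕ → Q := fun i =>
    if h : i < 2 then (if i = 0 then a else b) else
      if h' : i - 2 < 6 then (e.symm (q rC6 6 ⟨i - 2, h'⟩) : K) else 1
  have ha' : a * a = 1 := by rw [← sq]; exact ha
  have hb' : b * b = 1 := by rw [← sq]; exact hb
  have hba : b * a = z * (a * b) := by
    have h1 : ⁅a, b⁆ = a * b * a * b := by
      rw [commutatorElement_def, inv_eq_of_mul_eq_one_left ha', inv_eq_of_mul_eq_one_left hb']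
    have h2 : a * b * (z * z) = a * b := by rw [hzz, mul_one]
    have h3 : z * (a * b) = (a * b) * z := ((Subgroup.mem_center_iff.mp hzc) _).symm
    rw [h3, hz, h1]
    calc b * a = 1 * (b * a) := (one_mul _).symm
      _ = (a * (b * b) * a) * (b * a) := by rw [hb', mul_one, ha']
      _ = a * b * (b * a * b * a) := by simp only [mul_assoc]
      _ = a * b * (a * b * a * b) := by
        congr 1
        -- `(ba)^2 = (ab)^2` since `(ab)^2` is central of order two
        have h4 : a * b * a * b = z := by rw [← h1, hz]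
        have h5 : b * a * b * a = a⁻¹ * (a * b * a * b) * a := by group
        rw [h5, h4]
        rw [mul_assoc, ← (Subgroup.mem_center_iff.mp hzc) a, inv_mul_cancel_left]
  have hR : Rels rC8 8 z g := by
    have hg0 : g 0 = a := rfl
    have hg1 : g 1 = b := rfl
    have hgi : ∀ i : ℕ, ∀ h : i < 6, g (i + 2) = (e.symm (q rC6 6 ⟨i, h⟩) : K) := by
      intro i h
      simp only [g]
      rw [dif_neg (by omega)]
      have : i + 2 - 2 = i := by omega
      rw [dif_pos (by omega)]
      rfl
    have hgK : ∀ i : ℕ, i < 6 → g (i + 2) ∈ K := by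
      intro i h
      rw [hgi i h]
      exact Subtype.property _
    have hzp : ∀ c : Bool, ((e.symm (zp zz c) : K) : Q) = zp z c := by
      intro c
      cases c
      · show ((e.symm 1 : K) : Q) = 1
        rw [map_one]; rfl
      · show ((e.symm zz : K) : Q) = z
        rw [hez]
    have hca : ∀ k ∈ K, k * a = a * k := fun k hk =>
      ((Subgroup.mem_centralizer_iff.mp hk) a (by simp)).symm
    have hcb : ∀ k ∈ K, k * b = b * k := fun k hk =>
      ((Subgroup.mem_centralizer_iff.mp hk) b (by simp)).symm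
    refine ⟨hzz, fun i _ => (Subgroup.mem_center_iff.mp hzc) _, ?_, ?_⟩
    · intro i hi
      rcases i with _ | _ | i
      · exact ha'
      · exact hb'
      · have h6 : i < 6 := by omega
        rw [hgi i h6, ← Subgroup.coe_mul, ← map_mul, xg_sq ⟨i, h6⟩, hzp]
        congr 1
        interval_cases i <;> rfl
    · intro i hi j hj
      rcases i with _ | _ | i
      · omega
      · have : j = 0 := by omega
        subst this
        show b * a = zp z ((rC8 1).testBit 0) * (a * b)
        have : (rC8 1).testBit 0 = true := rfl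
        rw [this]
        exact hba
      · have h6 : i < 6 := by omega
        rcases j with _ | _ | j
        · have : (rC8 (i + 2)).testBit 0 = false := by
            exact tb_zero ⟨i, h6⟩
          rw [this]
          show _ = 1 * _
          rw [one_mul]
          exact hca _ (hgK i h6)
        · have : (rC8 (i + 2)).testBit 1 = false := by
            exact tb_one ⟨i, h6⟩
          rw [this]
          show _ = 1 * _
          rw [one_mul]
          exact hcb _ (hgK i h6)
        · have hj6 : j < 6 := by omega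
          rw [hgi i h6, hgi j hj6, ← Subgroup.coe_mul, ← Subgroup.coe_mul, ← map_mul, ← map_mul]
          have h7 : q rC6 6 ⟨i, h6⟩ * q rC6 6 ⟨j, hj6⟩ =
              zp zz ((rC8 (i + 2)).testBit (j + 2)) * (q rC6 6 ⟨j, hj6⟩ * q rC6 6 ⟨i, h6⟩) :=
            tb_comm ⟨i, h6⟩ ⟨j, hj6⟩ (by rw [Fin.lt_def]; show j < i; omega)
          rw [h7, map_mul, Subgroup.coe_mul, hzp]
  have hinj := lift_injective hR tri_C8 nd_C8 hz1
  have hcard : Nat.card X = Nat.card Q := by rw [card_XG, hc]
  have hbij : Function.Bijective (lift hR tri_C8) := by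
    have hf : Fintype Q := Fintype.ofFinite Q
    rw [Fintype.bijective_iff_injective_and_card]
    refine ⟨hinj, ?_⟩
    rw [← Nat.card_eq_fintype_card, ← Nat.card_eq_fintype_card, hcard]
  refine ⟨MulEquiv.ofBijective (lift hR tri_C8) hbij, ?_, ?_⟩
  · exact lift_q hR tri_C8 0
  · exact lift_q hR tri_C8 1

end Cfsg.Agent.CoOneType.Coords
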