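import Cfsg.Agent.SporadicRecognition.CosetCert

set_option autoImplicit false
set_option maxRecDepth 100000

namespace Cfsg.Agent.CoOneType.DEightData

open Cfsg.Agent.SporadicRecognition.CosetCert

noncomputable def tree : Tr := (.L 0xffb5a0e3ff5abe07fee84a07fd8e730ff9494c3ff18a147fe640887fc8622f)

noncomputable def wtree : WT := (.L 0 [1,0,1,0,1,0,1])

noncomputable def stree : ST := (.L 2 [] [])

noncomputable def C : Cert where
  data := tree
  lm := 15
  rb := 31
  fb := 9
  mask := 511
  B := 16
  k := 2
  N := 8
  inv := fun x => x
  words := wtree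
  subs := stree

def rels : List (List Nat) := [[0,1,0,1,0,1,0,1]]

def subw : List (List Nat) := []

end Cfsg.Agent.CoOneType.DEightData
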