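import Mathlib
import Cfsg.Agent.LargeExtra.GPin

/-!
# Co1 type: the adapted model of `2₊^(1+8)`, with a fast evaluator

`q 0 = s`, `q 1 = t` are involutions generating a dihedral group of order eight, `q 2, …, q 7` are
`c₁, …, c₆`: pairwise anticommuting elements of order four commuting with `s`, `t`; `c₇ = (c₁ ⋯ c₆)⁻¹`.
`enc x = 2 v + s` encodes the elements as natural numbers; `mN`, `aN` compute products and images.
-/

set_option autoImplicit false

namespace Cfsg.Agent.CoOneType.Fast

open Cfsg.Agent.LargeExtra Cfsg.Agent.LargeExtra.Model Cfsg.Agent.LargeExtra.Pres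
open Cfsg.Agent.LargeExtra.Models Cfsg.Agent.LargeExtra.GPin

/-- The adapted model of `2₊^(1+8)`. -/
abbrev rC : ℕ → ℕ := rows [0, 1, 4, 12, 28, 60, 124, 252]

theorem tri_C : Tri rC 8 := by decide +kernel
theorem nd_C : Nondeg rC 8 := by decide +kernel
theorem sq_C : AutBound.sqOne (XG rC 8) = 272 := by
  rw [sqOne_eq_fintype]; decide +kernel

/-- Parities of the numbers below 256. -/
def PAR : ℕ := 47758914269546354982683078068829456704164423862093743397580034411621752859030

/-- Table of `lin rC 8`. -/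
def LINT : ℕ := 21417935423414914870398959935702108193871630842673068082248701189354391102081442342518975390614405899431464542791042802487029582923585480975028152424404831286493888754444573269877589951854744015490330851877538798983433585562821677941607219957970972094917078388650462024132143524894754585285371877368084250608989310371352494930498165471259844404488716391252998137810366337945533890719230154462414749788810654757079014064715524395410818540314686418573508320815838705231403885852516045368606792223997258949277489067890382484280854241824425702033516186335446197924847178271985795369338736992381439202418963286872941461504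

/-- Product of codes. -/
def mN (x y : ℕ) : ℕ := x ^^^ y ^^^ ((PAR >>> ((LINT >>> (8 * (x >>> 1))) &&& (y >>> 1))) &&& 1)

/-- Image of a code under the endomorphism with images `I`. -/
def aN (I : ℕ → ℕ) (x : ℕ) : ℕ → ℕ
  | 0 => x &&& 1
  | k + 1 => mN (aN I x k) (I k * ((x >>> (k + 1)) &&& 1))

/-- The code of an element. -/
def enc (x : XG rC 8) : ℕ := 2 * x.v.1 + x.s.toNat

theorem enc_lt (x : XG rC 8) : enc x < 512 := by
  have h1 := x.v.2
  have h2 := Bool.toNat_lt x.s
  unfold enc
  omega

theorem enc_div (x : XG rC 8) : enc x >>> 1 = x.v.1 := by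
  rw [Nat.shiftRight_eq_div_pow]
  have h2 := Bool.toNat_lt x.s
  unfold enc
  omega

theorem enc_inj {x y : XG rC 8} (h : enc x = enc y) : x = y := by
  apply XG.ext'
  · rw [← enc_div, ← enc_div, h]
  · unfold enc at h
    have h1 := Bool.toNat_lt x.s
    have h2 := Bool.toNat_lt y.s
    have h3 : x.s.toNat = y.s.toNat := by omega
    revert h3
    cases x.s <;> cases y.s <;> simp

theorem par_spec : ∀ m : Fin 256, xs (fun j => m.1.testBit j) 8 = ((PAR >>> m.1) &&& 1 == 1) := by
  decide +kernel

theorem lin_spec : ∀ m w : Fin 256, (LINT >>> (8 * m.1)) &&& w.1 = lin rC 8 m.1 &&& w.1 := by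
  have h : ∀ m : Fin 256, (LINT >>> (8 * m.1)) &&& 255 = lin rC 8 m.1 := by decide +kernel
  intro m w
  have h2 : (255 &&& w.1) = w.1 := by
    have h3 : (255 : ℕ) = 2 ^ 8 - 1 := by norm_num
    rw [Nat.and_comm, h3, Nat.and_two_pow_sub_one_eq_mod, Nat.mod_eq_of_lt w.2]
  rw [← h m, Nat.and_assoc, h2]

theorem bf_spec (v w : ℕ) (hv : v < 256) (hw : w < 256) :
    (bf rC 8 v w).toNat = (PAR >>> ((LINT >>> (8 * v)) &&& w)) &&& 1 := by
  have h1 := lin_spec ⟨v, hv⟩ ⟨w, hw⟩
  simp only at h1
  rw [h1]
  have hlt : (lin rC 8 v &&& w) < 256 := lt_of_le_of_lt Nat.and_le_right hw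
  have h2 := par_spec ⟨lin rC 8 v &&& w, hlt⟩
  simp only at h2
  have h3 : bf rC 8 v w = xs (fun j => (lin rC 8 v &&& w).testBit j) 8 := by
    unfold bf
    apply xs_congr
    intro i _
    rw [Nat.testBit_and]
  rw [h3, h2]
  have h4 : (PAR >>> (lin rC 8 v &&& w)) &&& 1 = (PAR >>> (lin rC 8 v &&& w)) % 2 := Nat.and_one_is_mod _
  rw [h4]
  rcases Nat.mod_two_eq_zero_or_one (PAR >>> (lin rC 8 v &&& w)) with h5 | h5 <;> rw [h5] <;> rfl

theorem enc_mul (x y : XG rC 8) : enc (x * y) = mN (enc x) (enc y) := by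
  unfold mN
  rw [enc_div, enc_div, ← bf_spec _ _ x.v.2 y.v.2]
  apply Nat.eq_of_testBit_eq
  intro i
  unfold enc
  rw [mul_v, mul_s]
  have e : ∀ (a : ℕ) (b : Bool), (2 * a + b.toNat).testBit i =
      if i = 0 then b else a.testBit (i - 1) := by
    intro a b
    cases i with
    | zero => cases b <;> simp [Nat.testBit_zero, Nat.add_mod]
    | succ i =>
      rw [Nat.testBit_succ]
      have : (2 * a + b.toNat) / 2 = a := by have := Bool.toNat_lt b; omega
      rw [this]; simp
  rw [Nat.testBit_xor, Nat.testBit_xor, e, e, e]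
  cases i with
  | zero =>
    simp only [if_true]
    have : (bf rC 8 x.v.1 y.v.1).toNat.testBit 0 = bf rC 8 x.v.1 y.v.1 := by
      cases bf rC 8 x.v.1 y.v.1 <;> rfl
    rw [this]
  | succ i =>
    have : (bf rC 8 x.v.1 y.v.1).toNat.testBit (i + 1) = false :=
      Nat.testBit_lt_two_pow (lt_of_le_of_lt (Nat.lt_succ_iff.mp (Bool.toNat_lt _))
        (Nat.one_lt_two_pow (Nat.succ_ne_zero i)))
    rw [this]
    simp

theorem enc_one : enc 1 = 0 := rfl
theorem enc_zz : enc zz = 1 := rfl

theorem mN_zero (x : ℕ) : mN x 0 = x := by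
  unfold mN
  have : (0 : ℕ) >>> 1 = 0 := rfl
  rw [this, Nat.and_zero]
  have h2 : (PAR >>> 0) &&& 1 = 0 := by decide +kernel
  rw [h2]; simp

/-- Images from a list of codes. -/
def dec (c : ℕ) : XG rC 8 := ⟨⟨(c >>> 1) % 256, Nat.mod_lt _ (by norm_num)⟩, c &&& 1 == 1⟩

theorem enc_dec {c : ℕ} (h : c < 512) : enc (dec c) = c := by
  unfold enc dec
  simp only
  rw [Nat.shiftRight_eq_div_pow, Nat.and_one_is_mod]
  have h1 : c / 2 ^ 1 % 256 = c / 2 := by omega
  rw [h1]
  rcases Nat.mod_two_eq_zero_or_one c with h2 | h2 <;> rw [h2] <;> simp <;> omega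

theorem dec_enc (x : XG rC 8) : dec (enc x) = x := enc_inj (enc_dec (enc_lt x))

theorem enc_app (I : ℕ → XG rC 8) (x : XG rC 8) :
    enc (app I x) = aN (fun k => enc (I k)) (enc x) 8 := by
  have h : ∀ k, enc (zp zz x.s * prd I k x.v.1) = aN (fun k => enc (I k)) (enc x) k := by
    intro k
    induction k with
    | zero =>
      show enc (zp zz x.s * 1) = enc x &&& 1
      rw [mul_one, Nat.and_one_is_mod]
      have h2 : enc x % 2 = x.s.toNat := by
        have := Bool.toNat_lt x.s
        unfold enc; omega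
      rw [h2]
      cases x.s
      · rfl
      · rfl
    | succ k ih =>
      show enc (zp zz x.s * (prd I k x.v.1 * zp (I k) (x.v.1.testBit k))) =
        mN (aN _ _ k) (enc (I k) * ((enc x >>> (k + 1)) &&& 1))
      rw [← mul_assoc, enc_mul, ih]
      congr 1
      have h3 : enc x >>> (k + 1) = x.v.1 >>> k := by
        rw [Nat.add_comm, Nat.shiftRight_add, enc_div]
      have h4 : (x.v.1 >>> k) &&& 1 = (x.v.1.testBit k).toNat := by
        rw [Nat.testBit_eq_decide_div_mod_eq, Nat.and_one_is_mod, Nat.shiftRight_eq_div_pow]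
        rcases Nat.mod_two_eq_zero_or_one (x.v.1 / 2 ^ k) with h5 | h5 <;> rw [h5] <;> simp
      rw [h3, h4]
      cases x.v.1.testBit k
      · show enc 1 = enc (I k) * 0
        rw [mul_zero]; rfl
      · show enc (I k) = enc (I k) * 1
        rw [mul_one]
  exact h 8

/-! ### Automorphisms from lists of codes -/

/-- The model group. -/
abbrev X : Type := XG rC 8

/-- The generators. -/
abbrev g (i : Fin 8) : X := Pres.q rC 8 i

theorem enc_g (i : Fin 8) : enc (g i) = 2 ^ (i.1 + 1) := by
  show 2 * 2 ^ i.1 + 0 = _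
  rw [pow_succ]; omega

/-- Evaluate the endomorphism with code list `l`. -/
def ev (l : List ℕ) (c : ℕ) : ℕ := aN (fun k => l.getD k 0) c 8

/-- Check that the list of codes gives an automorphism. -/
def ok (l : List ℕ) : Bool :=
  (List.range 8).all fun i => decide (l.getD i 0 < 512) &&
    (mN (l.getD i 0) (l.getD i 0) == ((rC i) >>> i) &&& 1) &&
    (List.range i).all fun j =>
      mN (l.getD i 0) (l.getD j 0) == mN (((rC i) >>> j) &&& 1) (mN (l.getD j 0) (l.getD i 0))

theorem enc_zp (b : Bool) : enc (zp zz b) = b.toNat := by cases b <;> rfl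

theorem testBit_toNat (a k : ℕ) : (a.testBit k).toNat = (a >>> k) &&& 1 := by
  rw [Nat.testBit_eq_decide_div_mod_eq, Nat.and_one_is_mod, Nat.shiftRight_eq_div_pow]
  rcases Nat.mod_two_eq_zero_or_one (a / 2 ^ k) with h5 | h5 <;> rw [h5] <;> simp

theorem ok_lt {l : List ℕ} (h : ok l = true) (i : ℕ) (hi : i < 8) : l.getD i 0 < 512 := by
  have h1 := (List.all_eq_true.mp h) i (List.mem_range.mpr hi)
  simp only [Bool.and_eq_true, decide_eq_true_eq] at h1
  exact h1.1.1

theorem ok_good {l : List ℕ} (h : ok l = true) : Good rC 8 (fun k => dec (l.getD k 0)) := by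
  have h1 : ∀ i < 8, _ := fun i hi => (List.all_eq_true.mp h) i (List.mem_range.mpr hi)
  constructor
  · intro i hi
    have h2 := h1 i hi
    simp only [Bool.and_eq_true, beq_iff_eq] at h2
    apply enc_inj
    rw [enc_mul, enc_dec (ok_lt h i hi), h2.1.2, enc_zp, testBit_toNat]
  · intro i hi j hj
    have h2 := h1 i hi
    simp only [Bool.and_eq_true, beq_iff_eq] at h2
    have h3 := (List.all_eq_true.mp h2.2) j (List.mem_range.mpr hj)
    simp only [beq_iff_eq] at h3
    apply enc_inj
    rw [enc_mul, enc_mul, enc_mul, enc_dec (ok_lt h i hi), enc_dec (ok_lt h j (by omega)), h3, enc_zp,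
      testBit_toNat]

/-- The automorphism with images `l`. -/
noncomputable def au (l : List ℕ) (h : ok l = true) : MulAut X := autOf tri_C nd_C _ (ok_good h)

theorem aN_congr {I J : ℕ → ℕ} (x k : ℕ) (h : ∀ i < k, I i = J i) : aN I x k = aN J x k := by
  induction k with
  | zero => rfl
  | succ k ih =>
    show mN _ _ = mN _ _
    rw [ih (fun i hi => h i (by omega)), h k (by omega)]

theorem enc_au {l : List ℕ} (h : ok l = true) (x : X) : enc (au l h x) = ev l (enc x) := by
  show enc (app _ x) = _
  rw [enc_app]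
  exact aN_congr _ _ (fun i hi => enc_dec (ok_lt h i hi))

theorem aext {α β : MulAut X} (h : ∀ i : Fin 8, enc (α (g i)) = enc (β (g i))) : α = β :=
  aut_ext nd_C fun i => enc_inj (h i)

/-- The code of `x y x⁻¹`. -/
def cj (x y : ℕ) : ℕ := y ^^^ (mN x y ^^^ mN y x)

theorem enc_conj (x y : X) : enc (x * y * x⁻¹) = cj (enc x) (enc y) := by
  have key : ∀ u : X, enc (zz * u) = enc u ^^^ 1 := by
    intro u
    rw [← zz_comm, enc_mul, enc_zz]
    unfold mN
    have : (1 : ℕ) >>> 1 = 0 := rfl
    rw [this, Nat.and_zero]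
    have h2 : (PAR >>> 0) &&& 1 = 0 := by decide +kernel
    rw [h2]; simp
  unfold cj
  rw [← enc_mul, ← enc_mul]
  rcases comm_or x y with h | h
  · rw [h, Nat.xor_self, Nat.xor_zero, mul_inv_cancel_right]
  · rw [h, key, Nat.xor_comm (enc (y * x)), Nat.xor_assoc, Nat.xor_self, Nat.xor_zero,
      ← mul_assoc, mul_inv_cancel_right, key]

theorem enc_conj' (x y : X) : enc (MulAut.conj x y) = cj (enc x) (enc y) := enc_conj x y

theorem comm_iff' (x y : X) : x * y = y * x ↔ mN (enc x) (enc y) = mN (enc y) (enc x) := by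
  rw [← enc_mul, ← enc_mul]
  exact ⟨fun h => by rw [h], fun h => enc_inj h⟩

/-- Quantification over codes. -/
theorem all_of {p : X → Prop} (f : ℕ → Bool) (hf : ∀ c : Fin 512, f c.1 = true)
    (h : ∀ x, f (enc x) = true → p x) (x : X) : p x := h x (hf ⟨enc x, enc_lt x⟩)

end Cfsg.Agent.CoOneType.Fast
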