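import Mathlib

/-!
# helper957's presentation of `2 × Co₁`

`x ^ g = g⁻¹ x g`; `D₈ = ⟨s, t⟩`, `z = (s t)²`, `M = ⟨s, t, x, y⟩ = L₃(2)`,
`w = y₃`, `d = y₄`, `e = y₅`, `f = y₆`, `g = y₇`, `h = y₇'` with `y_i = (1 2)(i i+1)`.
-/

set_option autoImplicit false

namespace Cfsg.Agent.CoOneType

/-- The relations of `M = ⟨s, t, x, y⟩ ≅ L₃(2)`. -/
structure PresM {G : Type*} [Group G] (s t x y : G) : Prop where
  s2 : s * s = 1
  t2 : t * t = 1
  st4 : (s * t) ^ 4 = 1
  x3 : x ^ 3 = 1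
  y3 : y ^ 3 = 1
  zx : x⁻¹ * (s * t) ^ 2 * x = s
  sx : x⁻¹ * s * x = (s * t) ^ 2 * s
  zy : y⁻¹ * (s * t) ^ 2 * y = t
  ty : y⁻¹ * t * y = (s * t) ^ 2 * t
  /-- `z t` inverts `x` -/
  xi : (s * t) ^ 2 * t * x * ((s * t) ^ 2 * t) = x⁻¹
  /-- `z s` inverts `y` -/
  yi : (s * t) ^ 2 * s * y * ((s * t) ^ 2 * s) = y⁻¹
  xY : (x * y⁻¹) ^ 7 = 1
  xy : (x * y) ^ 4 = 1

/-- The presentation P957 of `2 × Co₁` (order of the letters: `s t x y w d e f g h`). -/
structure P957 {G : Type*} [Group G] (s t x y w d e f g h : G) : Prop extends PresM s t x y where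
  w2 : w * w = 1
  d2 : d * d = 1
  e2 : e * e = 1
  f2 : f * f = 1
  g2 : g * g = 1
  h2 : h * h = 1
  wd : (w * d) ^ 3 = 1
  de : (d * e) ^ 3 = 1
  ef : (e * f) ^ 3 = 1
  fg : (f * g) ^ 3 = 1
  fh : (f * h) ^ 3 = 1
  we : Commute w e
  wf : Commute w f
  wg : Commute w g
  wh : Commute w h
  df : Commute d f
  dg : Commute d g
  dh : Commute d h
  eg : Commute e g
  eh : Commute e h
  ws : Commute w s
  wt : Commute w t
  wx : Commute w x
  wy : Commute w y
  ds : Commute d s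
  dt : Commute d t
  dx : Commute d x
  dy : Commute d y
  es : Commute e s
  et : Commute e t
  ex : Commute e x
  ey : Commute e y
  fs : Commute f s
  ft : Commute f t
  fx : Commute f x
  fy : Commute f y
  gs : Commute g s
  gt : Commute g t
  gx : Commute g x
  hs : Commute h s
  ht : Commute h t
  hy : Commute h y
  /-- `q = g h`, `q² = z` -/
  q2 : (g * h) ^ 2 = (s * t) ^ 2
  /-- `q q^x q^(x⁻¹) = 1` -/
  qx3 : g * h * (x⁻¹ * (g * h) * x) * (x * (g * h) * x⁻¹) = 1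
  qx : Commute (g * h) (x⁻¹ * (g * h) * x)
  qy3 : g * h * (y⁻¹ * (g * h) * y) * (y * (g * h) * y⁻¹) = 1
  qy : Commute (g * h) (y⁻¹ * (g * h) * y)
  r5 : (x * y * f * g) ^ 7 = 1

/-- The relations of `P957` without `w`: a presentation of `K = 3·Suz:2`. -/
structure RelK {G : Type*} [Group G] (s t x y d e f g h : G) : Prop extends PresM s t x y where
  d2 : d * d = 1
  e2 : e * e = 1
  f2 : f * f = 1
  g2 : g * g = 1
  h2 : h * h = 1
  de : (d * e) ^ 3 = 1
  ef : (e * f) ^ 3 = 1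
  fg : (f * g) ^ 3 = 1
  fh : (f * h) ^ 3 = 1
  df : Commute d f
  dg : Commute d g
  dh : Commute d h
  eg : Commute e g
  eh : Commute e h
  ds : Commute d s
  dt : Commute d t
  dx : Commute d x
  dy : Commute d y
  es : Commute e s
  et : Commute e t
  ex : Commute e x
  ey : Commute e y
  fs : Commute f s
  ft : Commute f t
  fx : Commute f x
  fy : Commute f y
  gs : Commute g s
  gt : Commute g t
  gx : Commute g x
  hs : Commute h s
  ht : Commute h t
  hy : Commute h y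
  /-- `q = g h`, `q² = z` -/
  q2 : (g * h) ^ 2 = (s * t) ^ 2
  /-- `q q^x q^(x⁻¹) = 1` -/
  qx3 : g * h * (x⁻¹ * (g * h) * x) * (x * (g * h) * x⁻¹) = 1
  qx : Commute (g * h) (x⁻¹ * (g * h) * x)
  qy3 : g * h * (y⁻¹ * (g * h) * y) * (y * (g * h) * y⁻¹) = 1
  qy : Commute (g * h) (y⁻¹ * (g * h) * y)
  r5 : (x * y * f * g) ^ 7 = 1

theorem P957.relK {G : Type*} [Group G] {s t x y w d e f g h : G} (H : P957 s t x y w d e f g h) :
    RelK s t x y d e f g h :=
  { H.toPresM with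
    d2 := H.d2
    e2 := H.e2
    f2 := H.f2
    g2 := H.g2
    h2 := H.h2
    de := H.de
    ef := H.ef
    fg := H.fg
    fh := H.fh
    df := H.df
    dg := H.dg
    dh := H.dh
    eg := H.eg
    eh := H.eh
    ds := H.ds
    dt := H.dt
    dx := H.dx
    dy := H.dy
    es := H.es
    et := H.et
    ex := H.ex
    ey := H.ey
    fs := H.fs
    ft := H.ft
    fx := H.fx
    fy := H.fy
    gs := H.gs
    gt := H.gt
    gx := H.gx
    hs := H.hs
    ht := H.ht
    hy := H.hy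
    q2 := H.q2
    qx3 := H.qx3
    qx := H.qx
    qy3 := H.qy3
    qy := H.qy
    r5 := H.r5 }

end Cfsg.Agent.CoOneType
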