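import Mathlib
import Cfsg.Agent.CoOneType.Pres

/-!
# The local relations of a group of type `Co₁`

`Pre957` is `P957` without the relations `(x y⁻¹)⁷`, `(x y)⁴` and `r5`.
-/

set_option autoImplicit false

namespace Cfsg.Agent.CoOneType

/-- `PresM` without the last two relations. -/
structure PreM {G : Type*} [Group G] (s t x y : G) : Prop where
  s2 : s * s = 1
  t2 : t * t = 1
  st4 : (s * t) ^ 4 = 1
  x3 : x ^ 3 = 1
  y3 : y ^ 3 = 1
  zx : x⁻¹ * (s * t) ^ 2 * x = s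
  sx : x⁻¹ * s * x = (s * t) ^ 2 * s
  zy : y⁻¹ * (s * t) ^ 2 * y = t
  ty : y⁻¹ * t * y = (s * t) ^ 2 * t
  xi : (s * t) ^ 2 * t * x * ((s * t) ^ 2 * t) = x⁻¹
  yi : (s * t) ^ 2 * s * y * ((s * t) ^ 2 * s) = y⁻¹

/-- `P957` without the relations `xY`, `xy`, `r5`. -/
structure Pre957 {G : Type*} [Group G] (s t x y w d e f g h : G) : Prop extends PreM s t x y where
  w2 : w * w = 1
  d2 : d * d = 1
  e2 : e * e = 1
  f2 : f * f = 1
  g2 : g * g = 1
  h2 : h * h = 1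
  wd : (w * d) ^ 3 = 1
  de : (d * e) ^ 3 = 1
  ef : (e * f) ^ 3 = 1
  fg : (f * g) ^ 3 = 1
  fh : (f * h) ^ 3 = 1
  we : Commute w e
  wf : Commute w f
  wg : Commute w g
  wh : Commute w h
  df : Commute d f
  dg : Commute d g
  dh : Commute d h
  eg : Commute e g
  eh : Commute e h
  ws : Commute w s
  wt : Commute w t
  wx : Commute w x
  wy : Commute w y
  ds : Commute d s
  dt : Commute d t
  dx : Commute d x
  dy : Commute d y
  es : Commute e s
  et : Commute e t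
  ex : Commute e x
  ey : Commute e y
  fs : Commute f s
  ft : Commute f t
  fx : Commute f x
  fy : Commute f y
  gs : Commute g s
  gt : Commute g t
  gx : Commute g x
  hs : Commute h s
  ht : Commute h t
  hy : Commute h y
  q2 : (g * h) ^ 2 = (s * t) ^ 2
  qx3 : g * h * (x⁻¹ * (g * h) * x) * (x * (g * h) * x⁻¹) = 1
  qx : Commute (g * h) (x⁻¹ * (g * h) * x)
  qy3 : g * h * (y⁻¹ * (g * h) * y) * (y * (g * h) * y⁻¹) = 1
  qy : Commute (g * h) (y⁻¹ * (g * h) * y)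

theorem PreM.presM {G : Type*} [Group G] {s t x y : G} (H : PreM s t x y)
    (xY : (x * y⁻¹) ^ 7 = 1) (xy : (x * y) ^ 4 = 1) : PresM s t x y where
  s2 := H.s2
  t2 := H.t2
  st4 := H.st4
  x3 := H.x3
  y3 := H.y3
  zx := H.zx
  sx := H.sx
  zy := H.zy
  ty := H.ty
  xi := H.xi
  yi := H.yi
  xY := xY
  xy := xy

theorem Pre957.p957 {G : Type*} [Group G] {s t x y w d e f g h : G}
    (H : Pre957 s t x y w d e f g h) (xY : (x * y⁻¹) ^ 7 = 1) (xy : (x * y) ^ 4 = 1)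
    (r5 : (x * y * f * g) ^ 7 = 1) : P957 s t x y w d e f g h where
  toPresM := H.toPreM.presM xY xy
  w2 := H.w2
  d2 := H.d2
  e2 := H.e2
  f2 := H.f2
  g2 := H.g2
  h2 := H.h2
  wd := H.wd
  de := H.de
  ef := H.ef
  fg := H.fg
  fh := H.fh
  we := H.we
  wf := H.wf
  wg := H.wg
  wh := H.wh
  df := H.df
  dg := H.dg
  dh := H.dh
  eg := H.eg
  eh := H.eh
  ws := H.ws
  wt := H.wt
  wx := H.wx
  wy := H.wy
  ds := H.ds
  dt := H.dt
  dx := H.dx
  dy := H.dy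
  es := H.es
  et := H.et
  ex := H.ex
  ey := H.ey
  fs := H.fs
  ft := H.ft
  fx := H.fx
  fy := H.fy
  gs := H.gs
  gt := H.gt
  gx := H.gx
  hs := H.hs
  ht := H.ht
  hy := H.hy
  q2 := H.q2
  qx3 := H.qx3
  qx := H.qx
  qy3 := H.qy3
  qy := H.qy
  r5 := r5

end Cfsg.Agent.CoOneType
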