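import Mathlib
import Cfsg.Agent.CoOneType.Interface

/-!
# The local set-up of a group of type `Co₁`

`Setup Q z s t f H κ c` collects the local facts (from `CoHyp.four`, `Canon`, `HSwap`); from it the relations
`Pre957` are derived.
-/

set_option autoImplicit false

namespace Cfsg.Agent.CoOneType

open Equiv

/-- The transposition `(6 7)`. -/
abbrev tau67 : Equiv.Perm (Fin 8) := Equiv.swap 5 6

/-- The local set-up. -/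
structure Setup {G : Type*} [Group G] (Q : Subgroup G) (z s t f H : G)
    (κ : alternatingGroup (Fin 8) →* G) (c : Fin 8 → G) : Prop where
  zz : z * z = 1
  z1 : z ≠ 1
  cen : ∀ q ∈ Q, q * z = z * q
  norm : ∀ u, u * z = z * u → ∀ q ∈ Q, u * q * u⁻¹ ∈ Q
  cm : ∀ p ∈ Q, ∀ q ∈ Q, p * q * p⁻¹ = q ∨ p * q * p⁻¹ = z * q
  ss : s * s = 1
  tt : t * t = 1
  st : s * t * (s * t) = z
  zQ : z ∈ Q
  sQ : s ∈ Q
  tQ : t ∈ Q
  cQ : ∀ i, c i ∈ Q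
  c7 : c 7 = 1
  cs : ∀ i, c i * s = s * c i
  ct : ∀ i, c i * t = t * c i
  cc : ∀ i, i ≠ 7 → c i * c i = z
  cij : ∀ i j, i ≠ 7 → j ≠ 7 → i ≠ j → c i * c j = z * (c j * c i)
  prod : c 0 * c 1 * c 2 * c 3 * c 4 * c 5 * c 6 = 1
  kz : ∀ σ, κ σ * z = z * κ σ
  ks : ∀ σ, κ σ * s = s * κ σ
  kt : ∀ σ, κ σ * t = t * κ σ
  kf : ∀ σ, κ σ * f = f * κ σ
  kc : ∀ (σ : alternatingGroup (Fin 8)) (i : Fin 8),
    κ σ * c i * (κ σ)⁻¹ = c ((σ : Equiv.Perm (Fin 8)) i) * (c ((σ : Equiv.Perm (Fin 8)) 7))⁻¹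
  kQ : ∀ σ, κ σ ∈ Q → σ = 1
  Hz : H * z = z * H
  Hs : H * s * H⁻¹ = t
  Ht : H * t * H⁻¹ = s
  Hc : ∀ i, H * c i * H⁻¹ = (c (tau67 i))⁻¹
  rig : ∀ u, u * z = z * u → u * s = s * u → u * t = t * u → (∀ i, u * c i = c i * u) → u = 1 ∨ u = z
  fff : f ^ 3 = 1
  fz : f * z * f⁻¹ = s
  fs : f * s * f⁻¹ = z * s
  ft : z * t * f * (z * t) = f⁻¹
  T : ∀ r ∈ Q, r * s = s * r → r * (f * r * f⁻¹) * (f⁻¹ * r * f) = 1
  cent : ∀ u, u * z = z * u → u * s = s * u → u * t = t * u →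
    ∃ p ∈ Q, p * s = s * p ∧ p * t = t * p ∧ ∃ σ, u = p * κ σ

end Cfsg.Agent.CoOneType
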