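import Cfsg.Agent.CoOneType.Goursat
import Cfsg.Agent.CoOneType.Chain
import Cfsg.Agent.CoOneType.Setup
import Cfsg.Agent.SporRec.Co3.FiveHom

/-!
# Identification of the group generated by the ten letters
-/

set_option autoImplicit false

namespace Cfsg.Agent.CoOneType.Ident

open Cfsg.Agent.CoOneType

/-- The set of the ten letters. -/
def letters {G : Type*} (s t x y w d e f g h : G) : Set G := {s, t, x, y, w, d, e, f, g, h}

section Lower

variable {G : Type*} [Group G] {s t x y w d e f g h : G}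

theorem braid_of {a b : G} (ha : a * a = 1) (hb : b * b = 1) (h : (a * b) ^ 3 = 1) :
    a * b * a = b * a * b := by
  have hai : a⁻¹ = a := inv_eq_of_mul_eq_one_left ha
  have hbi : b⁻¹ = b := inv_eq_of_mul_eq_one_left hb
  have h1 : (a * b * a) * (b * a * b) = 1 := by
    rw [← h, pow_succ, pow_two]; simp only [mul_assoc]
  have h2 := eq_inv_of_mul_eq_one_left h1
  rw [h2]
  simp only [mul_inv_rev, hai, hbi, mul_assoc]

theorem eq_of_braid_comm {a b : G} (ha : a * a = 1) (hb : b * b = 1) (h : (a * b) ^ 3 = 1)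
    (hc : a * b = b * a) : a = b := by
  have h1 := braid_of ha hb h
  rw [hc, mul_assoc, ha, mul_one, mul_assoc, hc, ← mul_assoc, hb, one_mul] at h1
  exact h1.symm

theorem w_ne_e (P : P957 s t x y w d e f g h) (hz : (s * t) ^ 2 ≠ 1) : w * e ≠ 1 := by
  intro hwe
  have h1 : w = e := by
    have h2 := congrArg (fun u => u * e) hwe
    simp only [one_mul] at h2
    rw [mul_assoc, P.e2, mul_one] at h2
    exact h2
  subst h1
  have h3 : w = f := eq_of_braid_comm P.w2 P.f2 P.ef P.wf
  subst h3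
  have h4 : w = g := eq_of_braid_comm P.w2 P.g2 P.fg P.wg
  have h5 : w = h := eq_of_braid_comm P.w2 P.h2 P.fh P.wh
  apply hz
  rw [← P.q2, ← h4, ← h5, P.w2, one_pow]

/-- the order of `⟨s, t⟩` is divisible by eight -/
theorem eight_dvd (P : P957 s t x y w d e f g h) (hz : (s * t) ^ 2 ≠ 1)
    (M : Subgroup G) [Finite M] (hs : s ∈ M) (ht : t ∈ M) : 8 ∣ Nat.card M := by
  have hD : Subgroup.closure ({s, t} : Set G) ≤ M := by
    rw [Subgroup.closure_le]
    rintro a (rfl | rfl)
    · exact hs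
    · exact ht
  obtain ⟨hfin, hle⟩ := Chain.card_d8 P.relK
  have h4 : orderOf (s * t) = 2 ^ 2 := orderOf_eq_prime_pow (by simpa using hz) (by
    simpa using P.st4)
  have hst : s * t ∈ Subgroup.closure ({s, t} : Set G) :=
    Subgroup.mul_mem _ (Subgroup.subset_closure (by simp)) (Subgroup.subset_closure (by simp))
  have h5 : Subgroup.zpowers (s * t) ≤ Subgroup.closure ({s, t} : Set G) := by
    rw [Subgroup.zpowers_le]; exact hst
  have h6 : Nat.card (Subgroup.zpowers (s * t)) = 4 := by rw [Nat.card_zpowers, h4]; norm_num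
  have h7 : 4 ∣ Nat.card (Subgroup.closure ({s, t} : Set G)) := by
    rw [← h6]; exact Subgroup.card_dvd_of_le h5
  have h8 : Nat.card (Subgroup.closure ({s, t} : Set G)) ≠ 4 := by
    intro h9
    have h10 := Subgroup.eq_of_le_of_card_ge h5 (by rw [h6, h9])
    have h11 : s ∈ Subgroup.zpowers (s * t) := by
      rw [h10]; exact Subgroup.subset_closure (by simp)
    have h12 : t ∈ Subgroup.zpowers (s * t) := by
      rw [h10]; exact Subgroup.subset_closure (by simp)
    have h13 : s * t = t * s := by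
      obtain ⟨a, ha⟩ := h11
      obtain ⟨b, hb⟩ := h12
      simp only at ha hb
      have hc := (Commute.refl (s * t)).zpow_zpow a b
      rw [ha, hb] at hc
      exact hc.eq
    apply hz
    rw [pow_two, h13, mul_assoc, ← mul_assoc s t s, h13, mul_assoc t s s, P.s2, mul_one, P.t2]
  have hpos : 0 < Nat.card (Subgroup.closure ({s, t} : Set G)) := Nat.card_pos
  have h9 : Nat.card (Subgroup.closure ({s, t} : Set G)) = 8 := by omega
  rw [← h9]
  exact Subgroup.card_dvd_of_le hD

/-- the order of `M` is at least `168` -/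
theorem card_M (P : P957 s t x y w d e f g h) (hz : (s * t) ^ 2 ≠ 1) :
    Finite (Subgroup.closure ({s, t, x, y} : Set G)) ∧
      168 ≤ Nat.card (Subgroup.closure ({s, t, x, y} : Set G)) := by
  obtain ⟨hfin, _⟩ := Chain.card_l32 P.relK
  refine ⟨hfin, ?_⟩
  have h8 := eight_dvd P hz (Subgroup.closure ({s, t, x, y} : Set G))
    (Subgroup.subset_closure (by simp)) (Subgroup.subset_closure (by simp))
  have hx1 : x ≠ 1 := by
    intro hx
    have h1 := P.zx
    have h2 := P.sx
    rw [hx] at h1 h2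
    simp only [inv_one, one_mul, mul_one] at h1 h2
    rw [h1, P.s2] at h2
    apply hz
    rw [h1, h2]
  have hxo : orderOf x = 3 := orderOf_eq_prime P.x3 hx1
  have h3 : 3 ∣ Nat.card (Subgroup.closure ({s, t, x, y} : Set G)) := by
    rw [← hxo, ← Nat.card_zpowers]
    apply Subgroup.card_dvd_of_le
    rw [Subgroup.zpowers_le]
    exact Subgroup.subset_closure (by simp)
  have hxy1 : x * y⁻¹ ≠ 1 := by
    intro hxy
    rw [mul_inv_eq_one] at hxy
    have h1 := P.zx
    rw [hxy, P.zy] at h1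
    apply hz
    rw [h1, P.s2, one_pow]
  have : Fact (Nat.Prime 7) := ⟨by norm_num⟩
  have hxyo : orderOf (x * y⁻¹) = 7 := orderOf_eq_prime P.xY hxy1
  have h7 : 7 ∣ Nat.card (Subgroup.closure ({s, t, x, y} : Set G)) := by
    rw [← hxyo, ← Nat.card_zpowers]
    apply Subgroup.card_dvd_of_le
    rw [Subgroup.zpowers_le]
    exact Subgroup.mul_mem _ (Subgroup.subset_closure (by simp))
      (Subgroup.inv_mem _ (Subgroup.subset_closure (by simp)))
  have h24 : 8 * 3 ∣ Nat.card (Subgroup.closure ({s, t, x, y} : Set G)) :=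
    Nat.Coprime.mul_dvd_of_dvd_of_dvd (by norm_num) h8 h3
  have h168 : 8 * 3 * 7 ∣ Nat.card (Subgroup.closure ({s, t, x, y} : Set G)) :=
    Nat.Coprime.mul_dvd_of_dvd_of_dvd (by norm_num) h24 h7
  exact Nat.le_of_dvd Nat.card_pos h168

open Cfsg.Agent.SporRec.Co3 in
/-- the group generated by the ten letters has order at least `20160` -/
theorem card_ge (P : P957 s t x y w d e f g h) (hz : (s * t) ^ 2 ≠ 1) (G0 : Subgroup G) [Finite G0]
    (h0 : ({s, t, x, y, w, d, e, f, g, h} : Set G) ⊆ G0) : 20160 ≤ Nat.card G0 := by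
  have hs : s ∈ G0 := h0 (by simp)
  have ht : t ∈ G0 := h0 (by simp)
  have hx : x ∈ G0 := h0 (by simp)
  have hy : y ∈ G0 := h0 (by simp)
  have hw : w ∈ G0 := h0 (by simp)
  have hd : d ∈ G0 := h0 (by simp)
  have he : e ∈ G0 := h0 (by simp)
  have hf : f ∈ G0 := h0 (by simp)
  set M := Subgroup.closure ({s, t, x, y} : Set G) with hM
  have hM0 : M ≤ G0 := by
    rw [hM, Subgroup.closure_le]
    rintro a (rfl | rfl | rfl | rfl) <;> assumption
  obtain ⟨hfin, h168⟩ := card_M P hz
  let r : Fin 4 → G := ![w, d, e, f]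
  obtain ⟨ρ, hρ, hrange⟩ := FiveHom.exists_hom r
    (by
      intro i
      fin_cases i
      · exact P.w2
      · exact P.d2
      · exact P.e2
      · exact P.f2)
    (by
      intro i j hij
      fin_cases i <;> fin_cases j <;> simp at hij
      · exact P.we.eq
      · exact P.wf.eq
      · exact P.df.eq)
    (by
      intro i j hij
      fin_cases i <;> fin_cases j <;> simp at hij
      · exact braid_of P.w2 P.d2 P.wd
      · exact braid_of P.d2 P.e2 P.de
      · exact braid_of P.e2 P.f2 P.ef)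
  have hinj : Function.Injective ρ := by
    apply FiveHom.injective_of
    rw [← FiveHom.tp_dbl, map_mul, hρ, hρ]
    exact w_ne_e P hz
  have hr0 : ρ.range ≤ G0 := by
    rw [hrange, Subgroup.closure_le]
    rintro _ ⟨i, rfl⟩
    fin_cases i
    · exact hw
    · exact hd
    · exact he
    · exact hf
  have hcomm : ∀ m ∈ M, ∀ σ, m * ρ σ = ρ σ * m := by
    have h1 : M ≤ Subgroup.centralizer (ρ.range : Set G) := by
      rw [hM, Subgroup.closure_le]
      intro a ha
      show a ∈ Subgroup.centralizer (ρ.range : Set G)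
      rw [Subgroup.mem_centralizer_iff]
      have h2 : ρ.range ≤ Subgroup.centralizer ({a} : Set G) := by
        rw [hrange, Subgroup.closure_le]
        rintro _ ⟨i, rfl⟩
        show r i ∈ Subgroup.centralizer ({a} : Set G)
        rw [Subgroup.mem_centralizer_singleton_iff]
        rcases ha with rfl | rfl | rfl | rfl
        · fin_cases i
          · exact P.ws.eq
          · exact P.ds.eq
          · exact P.es.eq
          · exact P.fs.eq
        · fin_cases i
          · exact P.wt.eq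
          · exact P.dt.eq
          · exact P.et.eq
          · exact P.ft.eq
        · fin_cases i
          · exact P.wx.eq
          · exact P.dx.eq
          · exact P.ex.eq
          · exact P.fx.eq
        · fin_cases i
          · exact P.wy.eq
          · exact P.dy.eq
          · exact P.ey.eq
          · exact P.fy.eq
      intro b hb
      exact Subgroup.mem_centralizer_singleton_iff.mp (h2 hb)
    intro m hm σ
    exact (Subgroup.mem_centralizer_iff.mp (h1 hm) (ρ σ) ⟨σ, rfl⟩).symm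
  have hle : Nat.card (M × P5) ≤ Nat.card G0 := by
    refine Nat.card_le_card_of_injective
      (fun p : M × P5 => (⟨p.1.1 * ρ p.2, G0.mul_mem (hM0 p.1.2) (hr0 ⟨_, rfl⟩)⟩ : G0)) ?_
    rintro ⟨⟨a, ha⟩, σ⟩ ⟨⟨b, hb⟩, τ⟩ hh
    have h1 : a * ρ σ = b * ρ τ := congrArg Subtype.val hh
    have h2 : ρ (τ * σ⁻¹) = b⁻¹ * a := by
      rw [map_mul, map_inv]
      calc ρ τ * (ρ σ)⁻¹ = b⁻¹ * (b * ρ τ) * (ρ σ)⁻¹ := by group
        _ = b⁻¹ * a := by rw [← h1]; group
    have h3 : b⁻¹ * a ∈ M := M.mul_mem (M.inv_mem hb) ha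
    have h4 : τ * σ⁻¹ = 1 := by
      apply central_eq_one
      intro υ
      apply hinj
      rw [map_mul ρ υ, map_mul ρ (τ * σ⁻¹) υ, h2]
      exact (hcomm _ h3 υ).symm
    have h5 : τ = σ := mul_inv_eq_one.mp h4
    subst h5
    have h6 : a = b := mul_right_cancel h1
    subst h6
    rfl
  rw [Nat.card_prod] at hle
  have h120 : Nat.card P5 = 120 := by
    rw [Nat.card_eq_fintype_card, Fintype.card_perm, Fintype.card_fin]
    decide
  rw [h120] at hle
  calc 20160 = 168 * 120 := by norm_num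
    _ ≤ Nat.card M * 120 := Nat.mul_le_mul_right _ h168
    _ ≤ _ := hle

end Lower


section Main

variable {G K : Type*} [Group G] [Group K] {s t x y w d e f g h : G}
  {s' t' x' y' w' d' e' f' g' h' : K}

/-- **Identification.** -/
theorem exists_hom [Finite G] [Finite K] [IsSimpleGroup K] {Q : Subgroup G}
    (P : P957 s t x y w d e f g h) (hz : (s * t) ^ 2 ≠ 1)
    (cen : ∀ q ∈ Q, q * (s * t) ^ 2 = (s * t) ^ 2 * q)
    (norm : ∀ u, u * (s * t) ^ 2 = (s * t) ^ 2 * u → ∀ q ∈ Q, u * q * u⁻¹ ∈ Q)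
    (cm : ∀ p ∈ Q, ∀ q ∈ Q, p * q * p⁻¹ = q ∨ p * q * p⁻¹ = (s * t) ^ 2 * q)
    (self : ∀ u, u * (s * t) ^ 2 = (s * t) ^ 2 * u → (∀ q ∈ Q, u * q = q * u) →
      u = 1 ∨ u = (s * t) ^ 2)
    (hz' : (s' * t') ^ 2 ≠ 1)
    (hgen : Subgroup.closure ({s', t', x', y', w', d', e', f', g', h'} : Set K) = ⊤)
    (hC : Nat.card (Subgroup.centralizer ({(s * t) ^ 2} : Set G)) ≤
      Nat.card (Subgroup.centralizer ({(s' * t') ^ 2} : Set K)))
    (hub : Nat.card (Subgroup.closure ({(s, s'), (t, t'), (x, x'), (y, y'), (w, w'), (d, d'), (e, e'),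
      (f, f'), (g, g'), (h, h')} : Set (G × K))) < 20160 * Nat.card K) :
    ∃ φ : K →* G, Function.Injective φ ∧ φ ((s' * t') ^ 2) = (s * t) ^ 2 ∧
      Subgroup.centralizer ({(s * t) ^ 2} : Set G) ≤ φ.range := by
  set Γ := Subgroup.closure ({(s, s'), (t, t'), (x, x'), (y, y'), (w, w'), (d, d'), (e, e'),
      (f, f'), (g, g'), (h, h')} : Set (G × K)) with hΓ
  have himg1 : (MonoidHom.fst G K) '' ({(s, s'), (t, t'), (x, x'), (y, y'), (w, w'), (d, d'), (e, e'),
      (f, f'), (g, g'), (h, h')} : Set (G × K)) = {s, t, x, y, w, d, e, f, g, h} := by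
    simp only [Set.image_insert_eq, Set.image_singleton]
    rfl
  have himg2 : (MonoidHom.snd G K) '' ({(s, s'), (t, t'), (x, x'), (y, y'), (w, w'), (d, d'), (e, e'),
      (f, f'), (g, g'), (h, h')} : Set (G × K)) = {s', t', x', y', w', d', e', f', g', h'} := by
    simp only [Set.image_insert_eq, Set.image_singleton]
    rfl
  have hmap1 : Γ.map (MonoidHom.fst G K) =
      Subgroup.closure ({s, t, x, y, w, d, e, f, g, h} : Set G) := by
    rw [hΓ, MonoidHom.map_closure, himg1]
  have hmap2 : Γ.map (MonoidHom.snd G K) = ⊤ := by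
    rw [hΓ, MonoidHom.map_closure, himg2, hgen]
  have hG0 : ({s, t, x, y, w, d, e, f, g, h} : Set G) ⊆ Γ.map (MonoidHom.fst G K) := by
    rw [hmap1]; exact Subgroup.subset_closure
  have h20 : 20160 ≤ Nat.card (Γ.map (MonoidHom.fst G K)) := card_ge P hz _ hG0
  have h1 := Goursat.eq_one_of_card Γ hmap2 (lt_of_lt_of_le hub (Nat.mul_le_mul_right _ h20))
  obtain ⟨ψ, hψ⟩ := Goursat.exists_psi Γ h1
  have hψs : Function.Surjective ψ := by
    intro k
    have hk : k ∈ Γ.map (MonoidHom.snd G K) := by rw [hmap2]; trivial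
    obtain ⟨p, hp, rfl⟩ := hk
    exact ⟨⟨p.1, ⟨p, hp, rfl⟩⟩, hψ p hp _⟩
  have hΓs : (s, s') ∈ Γ := Subgroup.subset_closure (by simp)
  have hΓt : (t, t') ∈ Γ := Subgroup.subset_closure (by simp)
  have hΓz : ((s * t) ^ 2, (s' * t') ^ 2) ∈ Γ := Γ.pow_mem (Γ.mul_mem hΓs hΓt) 2
  have hz0 : (s * t) ^ 2 ∈ Γ.map (MonoidHom.fst G K) := ⟨_, hΓz, rfl⟩
  have hψz : ψ ⟨(s * t) ^ 2, hz0⟩ = (s' * t') ^ 2 := hψ _ hΓz _
  have hCG : Subgroup.centralizer ({(s * t) ^ 2} : Set G) ≤ Γ.map (MonoidHom.fst G K) :=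
    Goursat.centralizer_le _ ψ hψs hz0 (by rw [hψz]; exact hC)
  have hz2 : (s * t) ^ 2 * (s * t) ^ 2 = 1 := by rw [← pow_add]; exact P.st4
  have hψi : Function.Injective ψ := by
    rw [injective_iff_map_eq_one]
    intro n hn
    exact Goursat.ker_eq_one _ ψ hz0 (by rw [hψz]; exact hz') (hG0 (by simp : x ∈ _)) hz2 hCG
      cen norm cm self P.zx P.sx hn
  let E : Γ.map (MonoidHom.fst G K) ≃* K := MulEquiv.ofBijective ψ ⟨hψi, hψs⟩
  refine ⟨(Subgroup.subtype _).comp E.symm.toMonoidHom, ?_, ?_, ?_⟩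
  · exact (Subgroup.subtype_injective _).comp E.symm.injective
  · show ((E.symm ((s' * t') ^ 2) : Γ.map (MonoidHom.fst G K)) : G) = (s * t) ^ 2
    have h2 : E.symm ((s' * t') ^ 2) = ⟨(s * t) ^ 2, hz0⟩ := by
      rw [MulEquiv.symm_apply_eq]
      exact hψz.symm
    rw [h2]
  · intro a ha
    refine ⟨E ⟨a, hCG ha⟩, ?_⟩
    show ((E.symm (E ⟨a, hCG ha⟩) : Γ.map (MonoidHom.fst G K)) : G) = a
    rw [MulEquiv.symm_apply_apply]

/-- The facts about `Q` from the local set-up. -/
theorem self_of_setup {Q : Subgroup G} {z a b c₀ c₁ : G} {κ : alternatingGroup (Fin 8) →* G}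
    {c : Fin 8 → G} (S : Setup Q z a b c₀ c₁ κ c) (u : G) (hu : u * z = z * u)
    (hc : ∀ q ∈ Q, u * q = q * u) : u = 1 ∨ u = z :=
  S.rig u hu (hc a S.sQ) (hc b S.tQ) fun i => hc (c i) (S.cQ i)

end Main

end Cfsg.Agent.CoOneType.Ident
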