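import Cfsg.Agent.CoOneType.TopNodes

/-!
# The order of a group satisfying P957

Ten elements satisfying the presentation `P957` generate a finite group of order at most
`31 * |K| * |C|`, `|K| ≤ 2690072985600`, `|C| ≤ 503193600`.
-/

set_option autoImplicit false

namespace Cfsg.Agent.CoOneType.TopStep

open Cfsg.Agent.SporadicRecognition.CosetCert
open Cfsg.Agent.CoOneType.Chain Cfsg.Agent.CoOneType.TopRules Cfsg.Agent.CoOneType.TopClose
open Cfsg.Agent.CoOneType.TopNodes

variable {G : Type*} [Group G] {s t x y w d e f g h : G}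

theorem wc (H : P957 s t x y w d e f g h) : ∀ n, n < 10 →
    lt s t x y g h f e d n * w = w * lt s t x y g h f e d n
  | 0, _ => H.ws.symm.eq
  | 1, _ => H.wt.symm.eq
  | 2, _ => H.wx.symm.eq
  | 3, _ => H.wx.symm.inv_left.eq
  | 4, _ => H.wy.symm.eq
  | 5, _ => H.wy.symm.inv_left.eq
  | 6, _ => H.wg.symm.eq
  | 7, _ => H.wh.symm.eq
  | 8, _ => H.wf.symm.eq
  | 9, _ => H.we.symm.eq
  | (n + 10), hn => absurd hn (by omega)

theorem topRel (H : P957 s t x y w d e f g h) : TopRel (lt s t x y g h f e d) w where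
  toLet := let_of H.relK
  ww := H.w2
  wd := by
    have := H.wd
    simpa only [pow_succ, pow_zero, one_mul, mul_assoc, lt] using this
  wc := wc H

/-- Main theorem: ten elements satisfying `P957` generate a finite group of order at most
`31 |3·Suz:2| |G₂(4):2|` (it is the union of eight double cosets of `K = 3·Suz:2`, covered by 31 sets `K a C`). -/
theorem card_le (H : P957 s t x y w d e f g h) :
    Finite (Subgroup.closure ({s, t, x, y, w, d, e, f, g, h} : Set G)) ∧
      Nat.card (Subgroup.closure ({s, t, x, y, w, d, e, f, g, h} : Set G)) ≤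
        31 * (2690072985600 * 503193600) := by
  obtain ⟨hK1, hK2⟩ := suz_le (let_of H.relK)
  obtain ⟨hC1, hC2⟩ := g24_le (let_of H.relK)
  have hK : Finite (K (lt s t x y g h f e d)) := hK1
  have hC : Finite (C (lt s t x y g h f e d)) := hC1
  obtain ⟨h1, h2⟩ := card_top (topRel H) (X := X (lt s t x y g h f e d) w) (n := 8) (by norm_num) rfl
    TopNodes.e (nodes (topRel H))
  have hle : Subgroup.closure ({s, t, x, y, w, d, e, f, g, h} : Set G) ≤ TopClose.Top (lt s t x y g h f e d) w := by
    rw [Subgroup.closure_le]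
    intro a ha
    simp only [Set.mem_insert_iff, Set.mem_singleton_iff] at ha
    unfold TopClose.Top
    rcases ha with rfl | rfl | rfl | rfl | rfl | rfl | rfl | rfl | rfl | rfl
    · exact Subgroup.subset_closure (Or.inl ⟨0, by simp, rfl⟩)
    · exact Subgroup.subset_closure (Or.inl ⟨1, by simp, rfl⟩)
    · exact Subgroup.subset_closure (Or.inl ⟨2, by simp, rfl⟩)
    · exact Subgroup.subset_closure (Or.inl ⟨4, by simp, rfl⟩)
    · exact Subgroup.subset_closure (Or.inr rfl)
    · exact Subgroup.subset_closure (Or.inl ⟨10, by simp, rfl⟩)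
    · exact Subgroup.subset_closure (Or.inl ⟨9, by simp, rfl⟩)
    · exact Subgroup.subset_closure (Or.inl ⟨8, by simp, rfl⟩)
    · exact Subgroup.subset_closure (Or.inl ⟨6, by simp, rfl⟩)
    · exact Subgroup.subset_closure (Or.inl ⟨7, by simp, rfl⟩)
  have hinj := Subgroup.inclusion_injective hle
  refine ⟨Finite.of_injective _ hinj, (Nat.card_le_card_of_injective _ hinj).trans (h2.trans ?_)⟩
  rw [sum_e]
  exact Nat.mul_le_mul_left _ (Nat.mul_le_mul hK2 hC2)

end Cfsg.Agent.CoOneType.TopStep
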