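import Cfsg.Agent.CoOneType.Identify
import Cfsg.Agent.CoOneType.Ident
import Cfsg.Agent.CoOneType.CentOctad
import Cfsg.Agent.CoOneType.TopStep
import Cfsg.Agent.CoOneType.ClosingCo1
import Cfsg.Agent.LargeExtra.CoFour

/-!
# Assembly of the recognition of `Co1` (helper249)

`iso_of` : everything after the local part, the model, the order bound and the order of the
centraliser of an octad involution of `Co1`.
-/

set_option autoImplicit false
open Cfsg

namespace Cfsg.Agent.CoOneType.Final

open Cfsg.Agent.SporadicA.Co0Mono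
open Cfsg.Agent.SporadicA.Co1Simple
open Cfsg.Agent.CoOneType.SignFacts
open Cfsg.Agent.CoOneType.ClosingFacts
open Cfsg.Agent.CoOneType.Thirteen
open Cfsg.Agent.CoOneType.Identify
open Cfsg.Agent.LargeExtra

universe u

/-- The upper bound given by the presentation, as a statement. -/
def UpperBound : Prop :=
  ∀ {Γ : Type u} [Group Γ] {s t x y w d e f g h : Γ}, P957 s t x y w d e f g h →
    Finite (Subgroup.closure {s, t, x, y, w, d, e, f, g, h}) ∧
      Nat.card (Subgroup.closure {s, t, x, y, w, d, e, f, g, h}) ≤ 8315553613086720000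

/-- The model, as a statement. -/
def ModelExists : Prop :=
  ∃ s t x y w d e f g h : Spor.Co1, P957 s t x y w d e f g h ∧
    Subgroup.closure {s, t, x, y, w, d, e, f, g, h} = ⊤

/-- The order of the centraliser of an octad involution, as a statement. -/
def CentOctadCard : Prop :=
  ∀ o : golayCode, wt o = 8 →
    89181388800 ≤ Nat.card (Subgroup.centralizer ({mk (signCo0 o)} : Set Spor.Co1))

theorem centOctadCard : CentOctadCard := fun _ ho => CentOctad.card_centralizer ho

theorem card_centralizer_conj {K : Type*} [Group K] [Finite K] {a b : K} (h : IsConj a b) :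
    Nat.card (Subgroup.centralizer ({a} : Set K)) =
      Nat.card (Subgroup.centralizer ({b} : Set K)) := by
  obtain ⟨m, hm⟩ := isConj_iff.1 h
  apply Nat.dvd_antisymm
  · refine Cfsg.Agent.SporRec.Closing249.card_centralizer_dvd (MonoidHom.id K)
      Function.injective_id _ _ m⁻¹ ?_
    rw [← hm, MonoidHom.id_apply]; group
  · refine Cfsg.Agent.SporRec.Closing249.card_centralizer_dvd (MonoidHom.id K)
      Function.injective_id _ _ m ?_
    rw [hm]; rfl

theorem iso_of (hU : UpperBound.{u}) (hM : ModelExists) (hO : CentOctadCard)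
    {G : Type u} [Group G] [Finite G] {Q : Subgroup G} {z : G} (H : CoHyp Q z)
    (hP : ∃ s t x y w d e f g h : G, P957 s t x y w d e f g h ∧ (s * t) ^ 2 = z) :
    Spor.IsoCo1 G := by
  obtain ⟨s, t, x, y, w, d, e, f, g, h, hP, rfl⟩ := hP
  obtain ⟨s', t', x', y', w', d', e', f', g', h', hP', hgen⟩ := hM
  have hz1 : (s * t) ^ 2 ≠ 1 := H.z_ne
  have hPP := p957_prod hP (p957_prod hP' p957_sign)
  obtain ⟨hfin, hub⟩ := hU hPP
  obtain ⟨φ, hφ, hφz⟩ := exists_embedding hz1 hgen hfin hub
  have hzz2 : (s' * t') ^ 2 * (s' * t') ^ 2 = 1 := by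
    rw [← pow_add]; exact hP'.st4
  have hzz1 : (s' * t') ^ 2 ≠ 1 := by
    intro h1
    apply hz1
    rw [← hφz, h1, map_one]
  have hcard := H.card
  rw [← hφz] at hcard
  have h11 : ¬ 11 ∣ Nat.card (Subgroup.centralizer ({φ ((s' * t') ^ 2)} : Set G)) := by
    rw [hcard]; norm_num
  have h13 : ¬ 13 ∣ Nat.card (Subgroup.centralizer ({φ ((s' * t') ^ 2)} : Set G)) := by
    rw [hcard]; norm_num
  have hdvd := Cfsg.Agent.SporRec.Closing249.card_centralizer_dvd φ hφ ((s' * t') ^ 2)
    (φ ((s' * t') ^ 2)) 1 (by group)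
  -- the class of the model involution
  obtain ⟨o, ho⟩ := ClosingCo1.exists_octad
  obtain ⟨dd, hdd⟩ := ClosingCo1.exists_dodecad
  have hclass : IsConj (mk (signCo0 o)) ((s' * t') ^ 2) := by
    rcases co1_cases o dd ClosingCo1.a1 ClosingCo1.a1' ho hdd _ hzz2 hzz1 with h1 | h1 | ⟨a, ha, h1⟩
    · exact h1
    · exact absurd ((isConj_dvd h1 (eleven_dvd dd hdd)).trans hdvd) h11
    · have h2 := thirteen_dvd_of_conj a h1
      have h3 : ((a : Co0) : Spor.Co1) = (s' * t') ^ 2 := ha
      rw [h3] at h2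
      exact absurd (h2.trans hdvd) h13
  have hcardz : 89181388800 ≤
      Nat.card (Subgroup.centralizer ({(s' * t') ^ 2} : Set Spor.Co1)) := by
    rw [← card_centralizer_conj hclass]
    exact hO o ho
  have hC : ∀ g : G, g * φ ((s' * t') ^ 2) * g⁻¹ = φ ((s' * t') ^ 2) → g ∈ φ.range :=
    ClosingCo1.mem_range_of_card φ hφ _ (by rw [hcard]; exact hcardz)
  have hsurj := ClosingCo1.closing' φ hφ _ hzz2 hzz1 hC h11 h13
  exact ⟨(MulEquiv.ofBijective φ ⟨hφ, hsurj⟩).symm⟩

/-- The weak upper bound given by the presentation, as a statement. -/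
def WeakUpperBound : Prop :=
  ∀ {Γ : Type u} [Group Γ] {s t x y w d e f g h : Γ}, P957 s t x y w d e f g h →
    Finite (Subgroup.closure {s, t, x, y, w, d, e, f, g, h}) ∧
      Nat.card (Subgroup.closure {s, t, x, y, w, d, e, f, g, h}) ≤
        31 * (2690072985600 * 503193600)

/-- The model with `(s t)²` of octad type, as a statement. -/
def ModelExists' : Prop :=
  ∃ s t x y w d e f g h : Spor.Co1, P957 s t x y w d e f g h ∧
    Subgroup.closure {s, t, x, y, w, d, e, f, g, h} = ⊤ ∧
    ∃ o : golayCode, wt o = 8 ∧ IsConj (mk (signCo0 o)) ((s * t) ^ 2)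

theorem iso_of' (hU : WeakUpperBound.{u}) (hM : ModelExists') (hO : CentOctadCard)
    {G : Type u} [Group G] [Finite G] {Q : Subgroup G} {z : G} (H : CoHyp Q z)
    (hP : ∃ s t x y w d e f g h : G, P957 s t x y w d e f g h ∧ (s * t) ^ 2 = z) :
    Spor.IsoCo1 G := by
  obtain ⟨s, t, x, y, w, d, e, f, g, h, hP, rfl⟩ := hP
  obtain ⟨s', t', x', y', w', d', e', f', g', h', hP', hgen, o, ho, hclass⟩ := hM
  have hz1 : (s * t) ^ 2 ≠ 1 := H.z_ne
  have D := H.data
  have hzz2 : (s' * t') ^ 2 * (s' * t') ^ 2 = 1 := by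
    rw [← pow_add]; exact hP'.st4
  have hzz1 : (s' * t') ^ 2 ≠ 1 := by
    intro h1
    rw [h1, isConj_one_left, mk_eq_one] at hclass
    have h2 : CoOneE.pr (signCo0 o) = 1 := by
      rw [← map_one CoOneE.pr, eq_comm, CoOneE.pr_eq_iff, one_mul]
      exact hclass
    rw [CoOneE.pr_sign_eq_one_iff] at h2
    omega
  have hcardz : 89181388800 ≤
      Nat.card (Subgroup.centralizer ({(s' * t') ^ 2} : Set Spor.Co1)) := by
    rw [← card_centralizer_conj hclass]
    exact hO o ho
  have hub := (hU (p957_prod hP hP')).2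
  have hlt : 31 * (2690072985600 * 503193600) < 20160 * Nat.card Spor.Co1 := by
    rw [Identify.card_co1]; norm_num
  have : IsSimpleGroup Spor.Co1 := Cfsg.Agent.S0399.result.1
  obtain ⟨φ, hφ, hφz, hC⟩ := Ident.exists_hom (Q := Q) hP hz1 (fun q hq => D.com q hq)
    (fun u hu q hq => D.norm u hu q hq) (fun p hp q hq => D.comm p hp q hq)
    (fun u hu hq => H.center (D.cent u fun q hq' => by
        rw [← hq q hq', mul_inv_cancel_right])
      (fun q hq' => by rw [← hq q hq', mul_inv_cancel_right])) hzz1 hgen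
    (by rw [H.card]; exact hcardz) (lt_of_le_of_lt hub hlt)
  have hcard := H.card
  rw [← hφz] at hcard
  have h11 : ¬ 11 ∣ Nat.card (Subgroup.centralizer ({φ ((s' * t') ^ 2)} : Set G)) := by
    rw [hcard]; norm_num
  have h13 : ¬ 13 ∣ Nat.card (Subgroup.centralizer ({φ ((s' * t') ^ 2)} : Set G)) := by
    rw [hcard]; norm_num
  have hsurj := ClosingCo1.closing' φ hφ _ hzz2 hzz1 (fun a ha => hC (by
    rw [Subgroup.mem_centralizer_singleton_iff]
    rw [hφz, mul_inv_eq_iff_eq_mul] at ha
    exact ha)) h11 h13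
  exact ⟨(MulEquiv.ofBijective φ ⟨hφ, hsurj⟩).symm⟩

theorem weakUpperBound : WeakUpperBound.{u} := fun H => TopStep.card_le H

end Cfsg.Agent.CoOneType.Final
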