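import Cfsg.Agent.SporadicA.Co1Simple
import Cfsg.Agent.S0397
import Cfsg.Agent.S1571

/-!
The stabiliser `N` of the standard cross has odd index in `Co0`; hence every 2-subgroup of `Co0` is
conjugate to a subgroup of `N`, i.e. every 2-element of `Co0` is conjugate to a monomial element.
-/

set_option autoImplicit false
open Cfsg
open scoped Pointwise

namespace Cfsg.Agent.CoOneType.FrameFix

open Cfsg.Agent.SporadicA.Co0Mono Cfsg.Agent.SporadicA.Co1Simple

theorem card_N : Nat.card N = 4096 * 244823040 := by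
  rw [← Cfsg.Agent.S1571.result.2]
  exact Nat.card_congr (Equiv.subtypeEquivRight fun g => mem_N_iff g)

theorem finite_co0 : Finite Co0 := by
  apply Nat.finite_of_card_ne_zero
  rw [Cfsg.Agent.S0397.result]
  norm_num

theorem index_N : N.index = 8292375 := by
  have h := N.card_mul_index
  rw [card_N, Cfsg.Agent.S0397.result] at h
  omega

/-- Every 2-subgroup of `Co0` is conjugate into the stabiliser of the standard cross. -/
theorem exists_conj_le (P : Subgroup Co0) (hP : IsPGroup 2 P) :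
    ∃ g : Co0, ∀ x ∈ P, g * x * g⁻¹ ∈ N := by
  have := finite_co0
  have hfin : Finite (Co0 ⧸ N) := inferInstance
  have hcard : ¬ 2 ∣ Nat.card (Co0 ⧸ N) := by
    have h : Nat.card (Co0 ⧸ N) = 8292375 := index_N
    rw [h]
    norm_num
  obtain ⟨y, hy⟩ := hP.nonempty_fixed_point_of_prime_not_dvd_card (Co0 ⧸ N) hcard
  obtain ⟨g, rfl⟩ := QuotientGroup.mk_surjective y
  refine ⟨g⁻¹, fun x hx => ?_⟩
  have h1 := hy ⟨x, hx⟩
  have h2 : ((x * g : Co0) : Co0 ⧸ N) = (g : Co0 ⧸ N) := h1
  rw [QuotientGroup.eq] at h2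
  have h3 := N.inv_mem h2
  rw [mul_inv_rev, inv_inv, ← mul_assoc] at h3
  rwa [inv_inv]

/-- Every 2-element of `Co0` is conjugate into the stabiliser of the standard cross. -/
theorem exists_conj_mem {t : Co0} {n : ℕ} (ht : t ^ 2 ^ n = 1) : ∃ g : Co0, g * t * g⁻¹ ∈ N := by
  have hP : IsPGroup 2 (Subgroup.zpowers t) := by
    obtain ⟨k, -, hk⟩ := (Nat.dvd_prime_pow Nat.prime_two).1 (orderOf_dvd_of_pow_eq_one ht)
    apply IsPGroup.of_card (n := k)
    rw [Nat.card_zpowers, hk]
  obtain ⟨g, hg⟩ := exists_conj_le _ hP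
  exact ⟨g, hg t (Subgroup.mem_zpowers t)⟩

/-- Every 2-element of `Co0` is conjugate to a monomial element. -/
theorem exists_conj_sign_perm {t : Co0} {n : ℕ} (ht : t ^ 2 ^ n = 1) :
    ∃ (g : Co0) (c : golayCode) (σ : M24), g * t * g⁻¹ = signCo0 c * permCo0 σ := by
  obtain ⟨g, hg⟩ := exists_conj_mem ht
  obtain ⟨c, σ, h⟩ := exists_sign_perm hg
  exact ⟨g, c, σ, h⟩

end Cfsg.Agent.CoOneType.FrameFix
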