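import Cfsg.Agent.CoOneType.MonoWord
import Cfsg.Agent.SporadicA.Co1Simple
import Cfsg.Agent.S0374
import Cfsg.Agent.S1572

/-!
A criterion for a subgroup of `Co0` to be everything: it contains `-1`, one sign change on a certain octad, the
three generators of `M24` up to sign changes, and an element moving the standard cross.
-/

set_option autoImplicit false

namespace Cfsg.Agent.CoOneType.GenCrit

open Cfsg Cfsg.Agent.SporadicA Cfsg.Agent.SporadicA.Co0Mono Cfsg.Agent.SporadicA.Co1Simple
  Cfsg.Agent.CoOneType.MonoWord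
open Cfsg.Agent.SporadicStructure.Co0Base (e8 e8_coe)

/-- The mask of the octad. -/
def m0 : ℕ := 5279

theorem m0_code : GolayBase.isCode m0 = true := by decide +kernel

/-- The octad as a code word. -/
def c0 : golayCode := cw m0 m0_code

/-- The inversion `x ↦ -1/x` as an element of `M24`. -/
noncomputable def inv24 : M24 := ⟨projInv, by
  rw [← Cfsg.Agent.S0374.result]
  exact Subgroup.subset_closure (by simp)⟩

/-- The third generator as an element of `M24`. -/
noncomputable def cub24 : M24 := ⟨cubeTwist, by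
  rw [← Cfsg.Agent.S0374.result]
  exact Subgroup.subset_closure (by simp)⟩

theorem permPart_eq_top {K : Subgroup Co0} (h1 : shift ∈ permPart K) (h2 : inv24 ∈ permPart K)
    (h3 : cub24 ∈ permPart K) : permPart K = ⊤ := by
  rw [eq_top_iff]
  rintro ⟨σ, hσ⟩ -
  have h : σ ∈ (permPart K).map M24.subtype := by
    have h4 : Subgroup.closure {Equiv.optionCongr (Equiv.addRight (1 : ZMod 23)), Cfsg.projInv,
        Cfsg.cubeTwist} ≤ (permPart K).map M24.subtype := by
      rw [Subgroup.closure_le]
      rintro x (rfl | rfl | hx)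
      · exact ⟨shift, h1, rfl⟩
      · exact ⟨inv24, h2, rfl⟩
      · rw [Set.mem_singleton_iff] at hx
        subst hx
        exact ⟨cub24, h3, rfl⟩
    rw [Cfsg.Agent.S0374.result] at h4
    exact h4 hσ
  obtain ⟨τ, hτ, hτσ⟩ := h
  have : τ = ⟨σ, hσ⟩ := Subtype.ext hτσ
  rwa [← this]

/-- The sign changes in a subgroup with full permutation part are permuted by `M24`. -/
theorem wordPerm_mem {K : Subgroup Co0} (htop : permPart K = ⊤) {c : golayCode} (hc : signCo0 c ∈ K)
    (σ : M24) : signCo0 (wordPerm σ c) ∈ K := by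
  have hσ : σ ∈ permPart K := by rw [htop]; exact Subgroup.mem_top _
  obtain ⟨d, hd⟩ := hσ
  have h := K.mul_mem (K.mul_mem hd hc) (K.inv_mem hd)
  have e : signCo0 d * permCo0 σ * signCo0 c * (signCo0 d * permCo0 σ)⁻¹ = signCo0 (wordPerm σ c) := by
    rw [mul_inv_rev, signCo0_inv]
    calc signCo0 d * permCo0 σ * signCo0 c * ((permCo0 σ)⁻¹ * signCo0 d) =
        signCo0 d * (permCo0 σ * signCo0 c * (permCo0 σ)⁻¹) * signCo0 d := by group
      _ = signCo0 d * signCo0 (wordPerm σ c) * signCo0 d := by rw [perm_mul_sign_mul_inv]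
      _ = signCo0 (d + wordPerm σ c + d) := by rw [signCo0_add, signCo0_add]
      _ = _ := by
        congr 1
        have := signCo0_add_self d
        calc d + wordPerm σ c + d = wordPerm σ c + (d + d) := by abel
          _ = _ := by rw [this, add_zero]
  rwa [e] at h

set_option maxRecDepth 100000 in
theorem q0_aux : ∀ i : GolayPt, GolayBase.word m0 i +
    GolayBase.word m0 (match i with | none => none | some a => some (a - 6)) = qrWord 0 i := by
  decide +kernel

theorem shift_pow_symm (n : ℕ) (i : GolayPt) : ((shift ^ n : M24) : Equiv.Perm GolayPt).symm i =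
    (match i with | none => none | some a => some (a - n)) := by
  rw [Equiv.symm_apply_eq]
  cases i with
  | none => exact (shift_pow_none n).symm
  | some a =>
    show some a = ((shift ^ n : M24) : Equiv.Perm GolayPt) (some (a - n))
    rw [shift_pow_some, sub_add_cancel]

theorem q0_eq : q 0 = c0 + wordPerm (shift ^ 6) c0 := by
  apply Subtype.ext
  funext i
  show qrWord 0 i = GolayBase.word m0 i + (wordPerm (shift ^ 6) c0 : GolayPt → ZMod 2) i
  rw [wordPerm_apply, shift_pow_symm]
  exact (q0_aux i).symm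

/-- The monomial group is contained in the subgroup. -/
theorem N_le {K : Subgroup Co0} (hneg : signCo0 allOne ∈ K) (h0 : signCo0 c0 ∈ K)
    (htop : permPart K = ⊤) : N ≤ K := by
  have hq0 : signCo0 (q 0) ∈ K := by
    rw [q0_eq, signCo0_add]
    exact K.mul_mem h0 (wordPerm_mem htop h0 _)
  have hq : ∀ t : ZMod 23, signCo0 (q t) ∈ K := by
    intro t
    have h := wordPerm_mem htop hq0 (shift ^ t.val)
    rwa [wordPerm_shift_pow, ZMod.natCast_zmod_val] at h
  have hall : ∀ (w : GolayPt → ZMod 2) (hw : w ∈ golayCode), signCo0 ⟨w, hw⟩ ∈ K := by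
    intro w hw
    refine Submodule.span_induction (p := fun w hw => signCo0 ⟨w, hw⟩ ∈ K) ?_ ?_ ?_ ?_ hw
    · rintro x (⟨t, rfl⟩ | hx)
      · exact hq t
      · have hx' : x = 1 := hx
        subst hx'
        exact hneg
    · have : signCo0 ⟨0, golayCode.zero_mem⟩ = 1 := signCo0_zero
      rw [this]; exact K.one_mem
    · intro x y hx hy hx' hy'
      have : signCo0 ⟨x + y, golayCode.add_mem hx hy⟩ = signCo0 ⟨x, hx⟩ * signCo0 ⟨y, hy⟩ :=
        signCo0_add ⟨x, hx⟩ ⟨y, hy⟩
      rw [this]; exact K.mul_mem hx' hy'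
    · intro a x hx hx'
      have key : ∀ a : ZMod 2, a = 0 ∨ a = 1 := by decide
      rcases key a with rfl | rfl
      · have : signCo0 ⟨(0 : ZMod 2) • x, golayCode.smul_mem 0 hx⟩ = 1 := by
          rw [← signCo0_zero]
          congr 1
          apply Subtype.ext
          show (0 : ZMod 2) • x = 0
          rw [zero_smul]
        rw [this]; exact K.one_mem
      · have : signCo0 ⟨(1 : ZMod 2) • x, golayCode.smul_mem 1 hx⟩ = signCo0 ⟨x, hx⟩ := by
          congr 1
          apply Subtype.ext
          show (1 : ZMod 2) • x = x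
          rw [one_smul]
        rw [this]; exact hx'
  intro g hg
  obtain ⟨c, σ, rfl⟩ := exists_sign_perm hg
  apply K.mul_mem (hall c c.2)
  have hσ : σ ∈ permPart K := by rw [htop]; exact Subgroup.mem_top _
  obtain ⟨d, hd⟩ := hσ
  exact (K.mul_mem_cancel_left (hall d d.2)).1 hd

theorem isCoatom_N : IsCoatom N := by
  apply Cfsg.Agent.S1572.result
  ext g
  exact mem_N_iff g

/-- The criterion. -/
theorem eq_top {K : Subgroup Co0} (hneg : signCo0 allOne ∈ K) (h0 : signCo0 c0 ∈ K)
    (h1 : shift ∈ permPart K) (h2 : inv24 ∈ permPart K) (h3 : cub24 ∈ permPart K) {g : Co0}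
    (hg : g ∈ K) (hgN : g ∉ N) : K = ⊤ := by
  have hN := N_le hneg h0 (permPart_eq_top h1 h2 h3)
  refine isCoatom_N.2 K (lt_of_le_of_ne hN ?_)
  rintro rfl
  exact hgN hg

end Cfsg.Agent.CoOneType.GenCrit
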