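import Mathlib

/-!
# Subdirect products with a simple group, and the kernel of the identification map

* `Goursat.eq_one_of_card` : a subgroup `Γ` of `G × K`, `K` simple, projecting onto `K`, of order less
  than `|π₁ Γ| |K|`, meets `1 × K` trivially.
* `Goursat.exists_psi` : then `Γ` is the graph of a homomorphism.
* `Goursat.centralizer_le` : if `ψ : G₀ → K` is surjective and `|C_G(z)| ≤ |C_K(ψ z)|` then `C_G(z) ≤ G₀`.
* `Goursat.ker_eq_one` : the kernel is trivial for groups with a large extraspecial `2`-subgroup.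
-/

set_option autoImplicit false

namespace Cfsg.Agent.CoOneType.Goursat

variable {G K : Type*} [Group G] [Group K]

theorem eq_one_of_card [Finite G] [Finite K] [IsSimpleGroup K]
    (Γ : Subgroup (G × K)) (hb : Γ.map (MonoidHom.snd G K) = ⊤)
    (hcard : Nat.card Γ < Nat.card (Γ.map (MonoidHom.fst G K)) * Nat.card K) :
    ∀ k : K, ((1 : G), k) ∈ Γ → k = 1 := by
  have hN : (Γ.comap (MonoidHom.inr G K)).Normal := by
    refine ⟨fun n hn k => ?_⟩
    have hk : k ∈ Γ.map (MonoidHom.snd G K) := by rw [hb]; trivial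
    obtain ⟨⟨g, k'⟩, hg, rfl⟩ := hk
    show ((1 : G), k' * n * k'⁻¹) ∈ Γ
    have h1 : ((1 : G), n) ∈ Γ := hn
    have h2 := Γ.mul_mem (Γ.mul_mem hg h1) (Γ.inv_mem hg)
    have h3 : ((g, k') * ((1 : G), n) * (g, k')⁻¹ : G × K) = ((1 : G), k' * n * k'⁻¹) := by
      ext <;> simp
    rwa [h3] at h2
  rcases hN.eq_bot_or_eq_top with h | h
  · intro k hk
    have : k ∈ Γ.comap (MonoidHom.inr G K) := hk
    rw [h] at this
    exact this
  · exfalso
    have hmem : ∀ g ∈ Γ.map (MonoidHom.fst G K), ∀ k : K, (g, k) ∈ Γ := by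
      rintro _ ⟨⟨g, k'⟩, hg, rfl⟩ k
      have h1 : k'⁻¹ * k ∈ Γ.comap (MonoidHom.inr G K) := by rw [h]; trivial
      have h2 : ((1 : G), k'⁻¹ * k) ∈ Γ := h1
      have h3 := Γ.mul_mem hg h2
      have h4 : ((g, k') * ((1 : G), k'⁻¹ * k) : G × K) = (g, k) := by ext <;> simp
      rwa [h4] at h3
    have hinj : Nat.card (Γ.map (MonoidHom.fst G K) × K) ≤ Nat.card Γ := by
      refine Nat.card_le_card_of_injective
        (fun p : Γ.map (MonoidHom.fst G K) × K => (⟨(p.1.1, p.2), hmem _ p.1.2 p.2⟩ : Γ)) ?_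
      rintro ⟨⟨a, ha⟩, b⟩ ⟨⟨c, hc⟩, d⟩ hh
      have := congrArg Subtype.val hh
      simp only [Prod.mk.injEq] at this
      exact Prod.ext (Subtype.ext this.1) this.2
    rw [Nat.card_prod] at hinj
    omega

theorem exists_psi (Γ : Subgroup (G × K)) (h1 : ∀ k : K, ((1 : G), k) ∈ Γ → k = 1) :
    ∃ ψ : (Γ.map (MonoidHom.fst G K)) →* K, ∀ (p : G × K) (_ : p ∈ Γ)
      (h : p.1 ∈ Γ.map (MonoidHom.fst G K)), ψ ⟨p.1, h⟩ = p.2 := by
  have hbij : Function.Bijective ((MonoidHom.fst G K).subgroupMap Γ) := by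
    refine ⟨?_, (MonoidHom.fst G K).subgroupMap_surjective Γ⟩
    rw [injective_iff_map_eq_one]
    rintro ⟨⟨g, k⟩, hp⟩ hh
    have hg : g = 1 := congrArg Subtype.val hh
    subst hg
    have hk := h1 k hp
    subst hk
    rfl
  refine ⟨((MonoidHom.snd G K).comp Γ.subtype).comp (MulEquiv.ofBijective _ hbij).symm.toMonoidHom, ?_⟩
  intro p hp h
  have h2 : (MulEquiv.ofBijective _ hbij).symm ⟨p.1, h⟩ = (⟨p, hp⟩ : Γ) := by
    rw [MulEquiv.symm_apply_eq]
    rfl
  show (((MulEquiv.ofBijective _ hbij).symm ⟨p.1, h⟩ : Γ) : G × K).2 = p.2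
  rw [h2]


/-- Order comparison of centralizers. -/
theorem card_centralizer_le [Finite G] [Finite K] (ψ : G →* K) (hψ : Function.Surjective ψ) (ζ : G) :
    Nat.card (Subgroup.centralizer ({ψ ζ} : Set K)) ≤ Nat.card (Subgroup.centralizer ({ζ} : Set G)) := by
  classical
  set C' := Subgroup.centralizer ({ψ ζ} : Set K) with hC'
  set C0 := Subgroup.centralizer ({ζ} : Set G) with hC0
  set P : Subgroup G := C'.comap ψ with hP
  -- the lower bound for `P`
  obtain ⟨σ, hσ⟩ := hψ.hasRightInverse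
  have h1 : Nat.card (ψ.ker × C') ≤ Nat.card P := by
    refine Nat.card_le_card_of_injective
      (fun p : ψ.ker × C' => (⟨p.1.1 * σ p.2.1, by
        show ψ (p.1.1 * σ p.2.1) ∈ C'
        rw [map_mul, p.1.2, one_mul, hσ]
        exact p.2.2⟩ : P)) ?_
    rintro ⟨⟨a, ha⟩, ⟨b, hb⟩⟩ ⟨⟨c, hc⟩, ⟨d, hd⟩⟩ hh
    have h2 : a * σ b = c * σ d := congrArg Subtype.val hh
    have h3 : b = d := by
      have h4 := congrArg ψ h2
      rw [map_mul, map_mul, ha, hc, hσ, hσ, one_mul, one_mul] at h4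
      exact h4
    subst h3
    have h5 : a = c := mul_right_cancel h2
    subst h5
    rfl
  -- the fibre
  have h2 : Nat.card {x : G // ψ x = ψ ζ} ≤ Nat.card ψ.ker := by
    refine Nat.card_le_card_of_injective
      (fun x : {x : G // ψ x = ψ ζ} => (⟨ζ⁻¹ * x.1, by
        rw [MonoidHom.mem_ker, map_mul, map_inv, x.2, inv_mul_cancel]⟩ : ψ.ker)) ?_
    rintro ⟨a, ha⟩ ⟨b, hb⟩ hh
    have h3 : ζ⁻¹ * a = ζ⁻¹ * b := congrArg Subtype.val hh
    exact Subtype.ext (mul_left_cancel h3)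
  -- the upper bound for `P`
  have hfib : ∀ g ∈ P, ψ (g * ζ * g⁻¹) = ψ ζ := by
    intro g hg
    have h3 : ψ g ∈ C' := hg
    rw [hC', Subgroup.mem_centralizer_singleton_iff] at h3
    rw [map_mul, map_mul, map_inv, h3, mul_inv_cancel_right]
  have h3 : Nat.card P ≤ Nat.card ({x : G // ψ x = ψ ζ} × C0) := by
    let r : G → G := fun x => if h : ∃ g : G, g * ζ * g⁻¹ = x then h.choose else 1
    have hr : ∀ g : G, r (g * ζ * g⁻¹) * ζ * (r (g * ζ * g⁻¹))⁻¹ = g * ζ * g⁻¹ := by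
      intro g
      have h : ∃ g' : G, g' * ζ * g'⁻¹ = g * ζ * g⁻¹ := ⟨g, rfl⟩
      have hrr : r (g * ζ * g⁻¹) = h.choose := dif_pos h
      rw [hrr]
      exact h.choose_spec
    have hmem : ∀ g : G, (r (g * ζ * g⁻¹))⁻¹ * g ∈ C0 := by
      intro g
      rw [hC0, Subgroup.mem_centralizer_singleton_iff]
      have h4 := hr g
      set a := r (g * ζ * g⁻¹)
      calc a⁻¹ * g * ζ = a⁻¹ * (g * ζ * g⁻¹) * g := by group
        _ = a⁻¹ * (a * ζ * a⁻¹) * g := by rw [h4]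
        _ = ζ * (a⁻¹ * g) := by group
    refine Nat.card_le_card_of_injective
      (fun g : P => ((⟨g.1 * ζ * g.1⁻¹, hfib g.1 g.2⟩ : {x : G // ψ x = ψ ζ}),
        (⟨(r (g.1 * ζ * g.1⁻¹))⁻¹ * g.1, hmem g.1⟩ : C0))) ?_
    rintro ⟨a, ha⟩ ⟨b, hb⟩ hh
    have h5 : a * ζ * a⁻¹ = b * ζ * b⁻¹ := congrArg (fun p => p.1.1) hh
    have h6 : (r (a * ζ * a⁻¹))⁻¹ * a = (r (b * ζ * b⁻¹))⁻¹ * b := congrArg (fun p => p.2.1) hh
    rw [h5] at h6
    exact Subtype.ext (mul_left_cancel h6)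
  rw [Nat.card_prod] at h1 h3
  have h4 : Nat.card ψ.ker * Nat.card C' ≤ Nat.card ψ.ker * Nat.card C0 :=
    h1.trans (h3.trans (Nat.mul_le_mul_right _ h2))
  exact Nat.le_of_mul_le_mul_left h4 Nat.card_pos

theorem centralizer_le [Finite G] [Finite K] (G0 : Subgroup G) (ψ : G0 →* K)
    (hψ : Function.Surjective ψ) {z : G} (hz : z ∈ G0)
    (hC : Nat.card (Subgroup.centralizer ({z} : Set G)) ≤
      Nat.card (Subgroup.centralizer ({ψ ⟨z, hz⟩} : Set K))) :
    Subgroup.centralizer ({z} : Set G) ≤ G0 := by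
  have h1 := card_centralizer_le ψ hψ ⟨z, hz⟩
  have h2 : (Subgroup.centralizer ({⟨z, hz⟩} : Set G0)).map G0.subtype ≤
      Subgroup.centralizer ({z} : Set G) := by
    rintro _ ⟨g, hg, rfl⟩
    rw [Subgroup.mem_centralizer_singleton_iff]
    have h3 := (Subgroup.mem_centralizer_singleton_iff.mp hg)
    exact congrArg Subtype.val h3
  have h3 : Nat.card ((Subgroup.centralizer ({⟨z, hz⟩} : Set G0)).map G0.subtype) =
      Nat.card (Subgroup.centralizer ({⟨z, hz⟩} : Set G0)) :=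
    Subgroup.card_map_of_injective G0.subtype_injective
  have h4 := Subgroup.eq_of_le_of_card_ge h2 (by rw [h3]; exact hC.trans h1)
  rw [← h4]
  rintro _ ⟨g, _, rfl⟩
  exact g.2

/-- The kernel is trivial. -/
theorem ker_eq_one [Finite G] (G0 : Subgroup G) (ψ : G0 →* K) {Q : Subgroup G} {z s x : G}
    (hz : z ∈ G0) (hzψ : ψ ⟨z, hz⟩ ≠ 1) (hx : x ∈ G0) (hz2 : z * z = 1)
    (hCG : Subgroup.centralizer ({z} : Set G) ≤ G0)
    (cen : ∀ q ∈ Q, q * z = z * q)
    (norm : ∀ u, u * z = z * u → ∀ q ∈ Q, u * q * u⁻¹ ∈ Q)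
    (cm : ∀ p ∈ Q, ∀ q ∈ Q, p * q * p⁻¹ = q ∨ p * q * p⁻¹ = z * q)
    (self : ∀ u, u * z = z * u → (∀ q ∈ Q, u * q = q * u) → u = 1 ∨ u = z)
    (hxz : x⁻¹ * z * x = s) (hxs : x⁻¹ * s * x = z * s)
    {n : G0} (hn : ψ n = 1) : n = 1 := by
  have hQ : Q ≤ G0 := by
    intro q hq
    apply hCG
    rw [Subgroup.mem_centralizer_singleton_iff]
    exact cen q hq
  -- elements of the kernel in `Q`
  have hA : ∀ n : G0, ψ n = 1 → (n : G) ∈ Q → n = 1 := by
    intro n hn hnQ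
    have h1 : ∀ q ∈ Q, (n : G) * q = q * n := by
      intro q hq
      rcases cm q hq n hnQ with h | h
      · rw [mul_inv_eq_iff_eq_mul] at h
        exact h.symm
      · exfalso
        apply hzψ
        have h2 : (⟨z, hz⟩ : G0) = ⟨q, hQ hq⟩ * n * ⟨q, hQ hq⟩⁻¹ * n⁻¹ := by
          apply Subtype.ext
          show z = q * n * q⁻¹ * (n : G)⁻¹
          rw [h]; group
        rw [h2, map_mul, map_mul, map_mul, map_inv, map_inv, hn]
        simp
    rcases self n (cen n hnQ) h1 with h | h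
    · exact Subtype.ext h
    · exfalso
      apply hzψ
      rw [← hn]
      congr 1
      exact Subtype.ext h.symm
  -- elements of the kernel commuting with `z`
  have hB : ∀ n : G0, ψ n = 1 → (n : G) * z = z * n → n = 1 := by
    intro n hn hnz
    have h1 : ∀ q ∈ Q, (n : G) * q = q * n := by
      intro q hq
      have h2 : n * ⟨q, hQ hq⟩ * n⁻¹ * ⟨q, hQ hq⟩⁻¹ = (1 : G0) := by
        apply hA
        · rw [map_mul, map_mul, map_mul, map_inv, map_inv, hn]
          simp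
        · show (n : G) * q * (n : G)⁻¹ * q⁻¹ ∈ Q
          exact Q.mul_mem (norm n hnz q hq) (Q.inv_mem hq)
      have h3 : (n : G) * q * (n : G)⁻¹ * q⁻¹ = 1 := congrArg Subtype.val h2
      rw [mul_inv_eq_one, mul_inv_eq_iff_eq_mul] at h3
      exact h3
    rcases self n hnz h1 with h | h
    · exact Subtype.ext h
    · exfalso
      apply hzψ
      rw [← hn]
      congr 1
      exact Subtype.ext h.symm
  have hzi : z⁻¹ = z := inv_eq_of_mul_eq_one_left hz2
  -- `z` inverts the kernel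
  have hinv : ∀ n : G0, ψ n = 1 → z * (n : G) * z⁻¹ = (n : G)⁻¹ := by
    set ζ : G0 := ⟨z, hz⟩ with hζ
    have hζ2 : ζ * ζ = 1 := Subtype.ext hz2
    have hζi : ζ⁻¹ = ζ := inv_eq_of_mul_eq_one_left hζ2
    set φ : ψ.ker →* ψ.ker := (MulAut.conjNormal (H := ψ.ker) ζ).toMonoidHom with hφ
    have hφa : ∀ m : ψ.ker, ((φ m : ψ.ker) : G0) = ζ * m * ζ⁻¹ := fun m =>
      MulAut.conjNormal_apply ζ m
    have hfpf : MonoidHom.FixedPointFree φ := by
      intro m hm
      have h1 : ζ * (m : G0) * ζ⁻¹ = m := by rw [← hφa, hm]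
      have h2 := hB m.1 m.2 (by
        have h3 := congrArg Subtype.val h1
        have h4 : z * (m : G0) * z⁻¹ = ((m : G0) : G) := h3
        rw [mul_inv_eq_iff_eq_mul] at h4
        exact h4.symm)
      exact Subtype.ext h2
    have hinvol : Function.Involutive φ := by
      intro m
      apply Subtype.ext
      rw [hφa, hφa, hζi]
      calc ζ * (ζ * (m : G0) * ζ) * ζ = (ζ * ζ) * m * (ζ * ζ) := by group
        _ = m := by rw [hζ2]; group
    have hcoe := hfpf.coe_eq_inv_of_involutive hinvol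
    intro n hn
    have h1 := congrFun hcoe ⟨n, hn⟩
    have h2 := congrArg (fun m : ψ.ker => ((m : G0) : G)) h1
    rw [hφa] at h2
    exact h2
  -- so do its conjugates
  have hinv' : ∀ (y : G) (_ : y ∈ G0) (a : G), (∀ n : G0, ψ n = 1 → a * (n : G) * a⁻¹ = (n : G)⁻¹) →
      ∀ n : G0, ψ n = 1 → (y⁻¹ * a * y) * (n : G) * (y⁻¹ * a * y)⁻¹ = (n : G)⁻¹ := by
    intro y hy a ha n hn
    have h1 := ha (⟨y, hy⟩ * n * ⟨y, hy⟩⁻¹) (by rw [map_mul, map_mul, map_inv, hn]; simp)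
    have h2 : a * (y * n * y⁻¹) * a⁻¹ = (y * (n : G) * y⁻¹)⁻¹ := h1
    calc (y⁻¹ * a * y) * (n : G) * (y⁻¹ * a * y)⁻¹ = y⁻¹ * (a * (y * n * y⁻¹) * a⁻¹) * y := by group
      _ = (n : G)⁻¹ := by rw [h2]; group
  have hs := hinv' x hx z hinv
  rw [hxz] at hs
  have hzs := hinv' x hx s hs
  rw [hxs] at hzs
  have h1 : (z * s) * (n : G) * (z * s)⁻¹ = n := by
    calc (z * s) * (n : G) * (z * s)⁻¹ = z * (s * n * s⁻¹) * z⁻¹ := by group
      _ = (z * (n : G) * z⁻¹)⁻¹ := by rw [hs n hn]; group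
      _ = n := by rw [hinv n hn, inv_inv]
  have h2 : (n : G)⁻¹ = n := by rw [← hzs n hn, h1]
  apply hB n hn
  have h3 := hinv n hn
  rw [h2, mul_inv_eq_iff_eq_mul] at h3
  exact h3.symm

end Cfsg.Agent.CoOneType.Goursat
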