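import Mathlib
import Cfsg.Agent.CoOneType.Fast
import Cfsg.Agent.CoOneType.Canon
import Cfsg.Agent.CoOneType.Setup

/-!
# Co1 type: the element `H` exchanging `s` and `t`

In the canonical coordinates an element `H` of `C(z)` exchanges `s` and `t` and maps `cᵢ` to the inverse of
`c_(τ i)`, `τ = (6 7)`.
-/

set_option autoImplicit false

namespace Cfsg.Agent.CoOneType.HElem

open Cfsg.Agent.LargeExtra Cfsg.Agent.LargeExtra.Model Cfsg.Agent.LargeExtra.Pres
open Cfsg.Agent.LargeExtra.GPin Cfsg.Agent.LargeExtra.Check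
open Cfsg.Agent.CoOneType Cfsg.Agent.CoOneType.Fast

/-- `s ↔ t`, `c₆ ↔ c₇⁻¹`, `cⱼ ↦ cⱼ⁻¹`. -/
abbrev lH : List ℕ := [4, 2, 9, 17, 33, 65, 129, 504]
/-- `s ↔ t`. -/
abbrev lR : List ℕ := [4, 2, 8, 16, 32, 64, 128, 256]
/-- An automorphism mapping `s t` to `c₆ c₇` up to the centre. -/
abbrev lB : List ℕ := [262, 511, 10, 18, 34, 66, 130, 253]

theorem okH : ok lH = true := by decide +kernel
theorem okR : ok lR = true := by decide +kernel
theorem okB : ok lB = true := by decide +kernel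

noncomputable def aH : MulAut Fast.X := au lH okH
noncomputable def aR : MulAut Fast.X := au lR okR
noncomputable def aB : MulAut Fast.X := au lB okB

theorem eH (x : Fast.X) : enc (aH x) = ev lH (enc x) := enc_au _ x
theorem eR (x : Fast.X) : enc (aR x) = ev lR (enc x) := enc_au _ x
theorem eB (x : Fast.X) : enc (aB x) = ev lB (enc x) := enc_au _ x

/-- The inner part of `aH`. -/
def xH : Fast.X := ⟨⟨127, by norm_num⟩, false⟩

theorem aH_eq : aH = aR * (aB * aR * aB⁻¹) * MulAut.conj xH := by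
  have h : aH * aB = aR * aB * aR * (aB⁻¹ * MulAut.conj xH * aB) := by
    have h1 : aB⁻¹ * MulAut.conj xH * aB = MulAut.conj (aB⁻¹ xH) := by
      apply MulEquiv.ext
      intro x
      show aB⁻¹ (xH * aB x * xH⁻¹) = aB⁻¹ xH * x * (aB⁻¹ xH)⁻¹
      rw [map_mul, map_mul, map_inv, MulAut.inv_apply_self]
    have h2 : aB⁻¹ xH = dec 510 := by
      rw [MulAut.inv_apply, MulEquiv.symm_apply_eq]
      apply enc_inj
      rw [eB, enc_dec (by norm_num)]
      decide +kernel
    rw [h1, h2]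
    apply aext
    intro i
    simp only [MulAut.mul_apply, eH, eR, eB, enc_conj', enc_g, enc_dec (show (510 : ℕ) < 512 by norm_num)]
    revert i
    decide +kernel
  rw [← mul_inv_eq_iff_eq_mul.mpr h.symm]
  group

variable {G : Type*} [Group G] {Q : Subgroup G} {z : G}

theorem exists_of_gpin {φ : XG rC 8 ≃* Q} (P : GPin Q z φ) :
    ∃ h : G, h * z = z * h ∧ Ind φ h aH := by
  have h1 : aH ∈ Rg P := by
    rw [aH_eq]
    exact mul_mem (mul_conj_mem P aR aB) ⟨_, phi_comm_z P xH, ind_inner xH⟩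
  exact h1

theorem tt_map : ∀ i : Fin 8, enc ((tt (tau67 i))⁻¹) = ev lH (enc (tt i)) := by decide +kernel

/-- The element `H`. -/
theorem exists_H {s t : G} {L : Subgroup G} {c : Fin 8 → G} {κ : alternatingGroup (Fin 8) →* G}
    (K : Canon Q z s t L c κ) (Pr : Pre Q z s t L) :
    ∃ h : G, h * z = z * h ∧ h * s * h⁻¹ = t ∧ h * t * h⁻¹ = s ∧
      ∀ i, h * c i * h⁻¹ = (c (tau67 i))⁻¹ := by
  obtain ⟨φ, P, h0, h1, hc⟩ := K.coords Pr
  obtain ⟨h, hz, hi⟩ := exists_of_gpin P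
  have e0 : aH (idim rC 8 0) = idim rC 8 1 := enc_inj (by rw [eH]; decide +kernel)
  have e1 : aH (idim rC 8 1) = idim rC 8 0 := enc_inj (by rw [eH]; decide +kernel)
  refine ⟨h, hz, ?_, ?_, ?_⟩
  · rw [← h0, hi, e0, h1]
  · rw [← h1, hi, e1, h0]
  · intro i
    rw [← hc, hi, ← hc, ← phi_inv, phi_inj]
    apply enc_inj
    rw [tt_map, eH]

end Cfsg.Agent.CoOneType.HElem
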