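import Cfsg.Agent.CoOneType.Interface
import Cfsg.Agent.CoOneType.CoOneE

/-!
# From the presentation to an embedding of `Co1` (helper249)

`exists_embedding` : ten elements of a group `G` satisfying P957 with `(s t)² ≠ 1`, ten generators
of `Co1` satisfying P957 and the upper bound `2 |Co1|` for the group generated by the triples
(letter of `G`, letter of `Co1`, sign) give an injective homomorphism `Co1 → G` mapping the model
`(s' t')²` to `(s t)²`.
-/

set_option autoImplicit false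
open Cfsg

namespace Cfsg.Agent.CoOneType.Identify

section Prod

variable {A B : Type*} [Group A] [Group B]

theorem presM_prod {s t x y : A} {s' t' x' y' : B} (hA : PresM s t x y) (hB : PresM s' t' x' y') :
    PresM (s, s') (t, t') (x, x') (y, y') where
  s2 := Prod.ext hA.s2 hB.s2
  t2 := Prod.ext hA.t2 hB.t2
  st4 := Prod.ext hA.st4 hB.st4
  x3 := Prod.ext hA.x3 hB.x3
  y3 := Prod.ext hA.y3 hB.y3
  zx := Prod.ext hA.zx hB.zx
  sx := Prod.ext hA.sx hB.sx
  zy := Prod.ext hA.zy hB.zy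
  ty := Prod.ext hA.ty hB.ty
  xi := Prod.ext hA.xi hB.xi
  yi := Prod.ext hA.yi hB.yi
  xY := Prod.ext hA.xY hB.xY
  xy := Prod.ext hA.xy hB.xy

theorem p957_prod {s t x y w d e f g h : A} {s' t' x' y' w' d' e' f' g' h' : B}
    (hA : P957 s t x y w d e f g h) (hB : P957 s' t' x' y' w' d' e' f' g' h') :
    P957 (s, s') (t, t') (x, x') (y, y') (w, w') (d, d') (e, e') (f, f') (g, g') (h, h') where
  toPresM := presM_prod hA.toPresM hB.toPresM
  w2 := Prod.ext hA.w2 hB.w2
  d2 := Prod.ext hA.d2 hB.d2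
  e2 := Prod.ext hA.e2 hB.e2
  f2 := Prod.ext hA.f2 hB.f2
  g2 := Prod.ext hA.g2 hB.g2
  h2 := Prod.ext hA.h2 hB.h2
  wd := Prod.ext hA.wd hB.wd
  de := Prod.ext hA.de hB.de
  ef := Prod.ext hA.ef hB.ef
  fg := Prod.ext hA.fg hB.fg
  fh := Prod.ext hA.fh hB.fh
  we := hA.we.prod hB.we
  wf := hA.wf.prod hB.wf
  wg := hA.wg.prod hB.wg
  wh := hA.wh.prod hB.wh
  df := hA.df.prod hB.df
  dg := hA.dg.prod hB.dg
  dh := hA.dh.prod hB.dh
  eg := hA.eg.prod hB.eg
  eh := hA.eh.prod hB.eh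
  ws := hA.ws.prod hB.ws
  wt := hA.wt.prod hB.wt
  wx := hA.wx.prod hB.wx
  wy := hA.wy.prod hB.wy
  ds := hA.ds.prod hB.ds
  dt := hA.dt.prod hB.dt
  dx := hA.dx.prod hB.dx
  dy := hA.dy.prod hB.dy
  es := hA.es.prod hB.es
  et := hA.et.prod hB.et
  ex := hA.ex.prod hB.ex
  ey := hA.ey.prod hB.ey
  fs := hA.fs.prod hB.fs
  ft := hA.ft.prod hB.ft
  fx := hA.fx.prod hB.fx
  fy := hA.fy.prod hB.fy
  gs := hA.gs.prod hB.gs
  gt := hA.gt.prod hB.gt
  gx := hA.gx.prod hB.gx
  hs := hA.hs.prod hB.hs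
  ht := hA.ht.prod hB.ht
  hy := hA.hy.prod hB.hy
  q2 := Prod.ext hA.q2 hB.q2
  qx3 := Prod.ext hA.qx3 hB.qx3
  qx := hA.qx.prod hB.qx
  qy3 := Prod.ext hA.qy3 hB.qy3
  qy := hA.qy.prod hB.qy
  r5 := Prod.ext hA.r5 hB.r5

/-- The sign character. -/
theorem p957_sign : P957 (1 : ℤˣ) 1 1 1 (-1) (-1) (-1) (-1) (-1) (-1) where
  s2 := by decide
  t2 := by decide
  st4 := by decide
  x3 := by decide
  y3 := by decide
  zx := by decide
  sx := by decide
  zy := by decide
  ty := by decide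
  xi := by decide
  yi := by decide
  xY := by decide
  xy := by decide
  w2 := by decide
  d2 := by decide
  e2 := by decide
  f2 := by decide
  g2 := by decide
  h2 := by decide
  wd := by decide
  de := by decide
  ef := by decide
  fg := by decide
  fh := by decide
  we := Commute.all _ _
  wf := Commute.all _ _
  wg := Commute.all _ _
  wh := Commute.all _ _
  df := Commute.all _ _
  dg := Commute.all _ _
  dh := Commute.all _ _
  eg := Commute.all _ _
  eh := Commute.all _ _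
  ws := Commute.all _ _
  wt := Commute.all _ _
  wx := Commute.all _ _
  wy := Commute.all _ _
  ds := Commute.all _ _
  dt := Commute.all _ _
  dx := Commute.all _ _
  dy := Commute.all _ _
  es := Commute.all _ _
  et := Commute.all _ _
  ex := Commute.all _ _
  ey := Commute.all _ _
  fs := Commute.all _ _
  ft := Commute.all _ _
  fx := Commute.all _ _
  fy := Commute.all _ _
  gs := Commute.all _ _
  gt := Commute.all _ _
  gx := Commute.all _ _
  hs := Commute.all _ _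
  ht := Commute.all _ _
  hy := Commute.all _ _
  q2 := by decide
  qx3 := by decide
  qx := Commute.all _ _
  qy3 := by decide
  qy := Commute.all _ _
  r5 := by decide

end Prod

theorem card_co1 : Nat.card Spor.Co1 = 4157776806543360000 := Cfsg.Agent.S0399.result.2

instance : Finite Spor.Co1 :=
  Nat.finite_of_card_ne_zero (by rw [card_co1]; norm_num)

open Cfsg.Agent.SporadicA.Co0Mono Cfsg.Agent.SporadicA.Co1Simple Cfsg.Agent.CoOneType.CoOneE in
theorem exists_sq_ne_one : ∃ c : Spor.Co1, c * c ≠ 1 := by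
  refine ⟨pr x23, ?_⟩
  intro h
  rw [← map_mul] at h
  have h1 : pr 1 = pr (x23 * x23) := by rw [h, map_one]
  rw [pr_eq_iff] at h1
  have h2 : (x23 * x23) * (x23 * x23) = 1 := by
    rcases h1 with h1 | h1
    · rw [h1, one_mul]
    · rw [h1, one_mul, signCo0_mul_self]
  have h3 : x23 ^ 4 = 1 := by
    rw [← h2, pow_succ, pow_succ, pow_two, mul_assoc (x23 * x23)]
  have h4 := orderOf_dvd_of_pow_eq_one h3
  rw [orderOf_x23] at h4
  norm_num at h4

/-- A subgroup of `Co1 × {±1}` projecting onto `Co1` and containing an element of sign `-1` is the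
whole group. -/
theorem eq_top_of_proj (I : Subgroup (Spor.Co1 × ℤˣ)) (h1 : ∀ c : Spor.Co1, ∃ u : ℤˣ, (c, u) ∈ I)
    (h2 : ∃ c : Spor.Co1, (c, (-1 : ℤˣ)) ∈ I) : I = ⊤ := by
  let J : Subgroup Spor.Co1 := I.comap (MonoidHom.inl Spor.Co1 ℤˣ)
  have hJ : ∀ c, c ∈ J ↔ (c, (1 : ℤˣ)) ∈ I := fun c => Iff.rfl
  have hsq : ∀ c : Spor.Co1, c * c ∈ J := by
    intro c
    obtain ⟨u, hu⟩ := h1 c
    have h3 := I.mul_mem hu hu
    rw [hJ]
    have h4 : (c, u) * (c, u) = (c * c, (1 : ℤˣ)) := by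
      rw [Prod.mk_mul_mk, Int.units_mul_self]
    rwa [h4] at h3
  have hnorm : J.Normal := by
    refine ⟨fun c hc k => ?_⟩
    obtain ⟨u, hu⟩ := h1 k
    rw [hJ] at hc ⊢
    have h3 := I.mul_mem (I.mul_mem hu hc) (I.inv_mem hu)
    have h4 : (k, u) * (c, (1 : ℤˣ)) * (k, u)⁻¹ = (k * c * k⁻¹, (1 : ℤˣ)) := by
      rw [Prod.inv_mk, Prod.mk_mul_mk, Prod.mk_mul_mk, mul_one, mul_inv_cancel]
    rwa [h4] at h3
  have hJtop : J = ⊤ := by
    rcases Cfsg.Agent.S0399.result.1.eq_bot_or_eq_top_of_normal J hnorm with h | h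
    · exfalso
      obtain ⟨c, hc⟩ := exists_sq_ne_one
      have h3 := hsq c
      rw [h, Subgroup.mem_bot] at h3
      exact hc h3
    · exact h
  have hJ' : ∀ c : Spor.Co1, (c, (1 : ℤˣ)) ∈ I := by
    intro c
    rw [← hJ, hJtop]; trivial
  rw [eq_top_iff]
  rintro ⟨c, u⟩ -
  rcases Int.units_eq_one_or u with rfl | rfl
  · exact hJ' c
  · obtain ⟨k, hk⟩ := h2
    have h3 := I.mul_mem (hJ' (c * k⁻¹)) hk
    rwa [Prod.mk_mul_mk, inv_mul_cancel_right, one_mul] at h3

section Main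

variable {G : Type*} [Group G]

/-- The group generated by the triples. -/
def Gam (s t x y w d e f g h : G) (s' t' x' y' w' d' e' f' g' h' : Spor.Co1) :
    Subgroup (G × (Spor.Co1 × ℤˣ)) :=
  Subgroup.closure {(s, s', 1), (t, t', 1), (x, x', 1), (y, y', 1), (w, w', -1), (d, d', -1),
    (e, e', -1), (f, f', -1), (g, g', -1), (h, h', -1)}

theorem exists_embedding {s t x y w d e f g h : G} {s' t' x' y' w' d' e' f' g' h' : Spor.Co1}
    (hz : (s * t) ^ 2 ≠ 1)
    (hgen : Subgroup.closure {s', t', x', y', w', d', e', f', g', h'} = (⊤ : Subgroup Spor.Co1))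
    (hfin : Finite (Gam s t x y w d e f g h s' t' x' y' w' d' e' f' g' h'))
    (hub : Nat.card (Gam s t x y w d e f g h s' t' x' y' w' d' e' f' g' h') ≤
      8315553613086720000) :
    ∃ φ : Spor.Co1 →* G, Function.Injective φ ∧ φ ((s' * t') ^ 2) = (s * t) ^ 2 := by
  set Γ := Gam s t x y w d e f g h s' t' x' y' w' d' e' f' g' h' with hΓ
  let p : Γ →* Spor.Co1 × ℤˣ := (MonoidHom.snd G (Spor.Co1 × ℤˣ)).comp Γ.subtype
  have hmem : ∀ a ∈ ({(s, s', 1), (t, t', 1), (x, x', 1), (y, y', 1), (w, w', -1), (d, d', -1),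
      (e, e', -1), (f, f', -1), (g, g', -1), (h, h', -1)} : Set (G × (Spor.Co1 × ℤˣ))), a ∈ Γ :=
    fun a ha => Subgroup.subset_closure ha
  have hmapP : p.range = Γ.map (MonoidHom.snd G (Spor.Co1 × ℤˣ)) := by
    rw [MonoidHom.range_comp, Subgroup.range_subtype]
  have hproj : ∀ c : Spor.Co1, ∃ u : ℤˣ, (c, u) ∈ p.range := by
    have h1 : p.range.map (MonoidHom.fst Spor.Co1 ℤˣ) = ⊤ := by
      rw [eq_top_iff, ← hgen, Subgroup.closure_le]
      intro c hc
      simp only [Set.mem_insert_iff, Set.mem_singleton_iff] at hc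
      have key : ∀ (a : G) (b : Spor.Co1) (u : ℤˣ), (a, b, u) ∈ Γ →
          b ∈ p.range.map (MonoidHom.fst Spor.Co1 ℤˣ) := by
        intro a b u hab
        exact ⟨(b, u), ⟨⟨(a, b, u), hab⟩, rfl⟩, rfl⟩
      rcases hc with rfl | rfl | rfl | rfl | rfl | rfl | rfl | rfl | rfl | rfl
      · exact key s _ 1 (hmem _ (by simp))
      · exact key t _ 1 (hmem _ (by simp))
      · exact key x _ 1 (hmem _ (by simp))
      · exact key y _ 1 (hmem _ (by simp))
      · exact key w _ (-1) (hmem _ (by simp))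
      · exact key d _ (-1) (hmem _ (by simp))
      · exact key e _ (-1) (hmem _ (by simp))
      · exact key f _ (-1) (hmem _ (by simp))
      · exact key g _ (-1) (hmem _ (by simp))
      · exact key h _ (-1) (hmem _ (by simp))
    intro c
    have h2 : c ∈ p.range.map (MonoidHom.fst Spor.Co1 ℤˣ) := by rw [h1]; trivial
    obtain ⟨⟨b, u⟩, hb, hbc⟩ := h2
    have h3 : b = c := hbc
    subst h3
    exact ⟨u, hb⟩
  have hsign : ∃ c : Spor.Co1, (c, (-1 : ℤˣ)) ∈ p.range :=
    ⟨w', ⟨⟨(w, w', -1), hmem _ (by simp)⟩, rfl⟩⟩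
  have hsurj : Function.Surjective p := by
    rw [← MonoidHom.range_eq_top]
    exact eq_top_of_proj _ hproj hsign
  have hcard : Nat.card Γ ≤ Nat.card (Spor.Co1 × ℤˣ) := by
    rw [Nat.card_prod, card_co1]
    have h1 : Nat.card ℤˣ = 2 := by
      rw [Nat.card_eq_fintype_card]; rfl
    rw [h1]
    exact hub
  have hbij : Function.Bijective p := hsurj.bijective_of_nat_card_le hcard
  let E' : Γ ≃* Spor.Co1 × ℤˣ := MulEquiv.ofBijective p hbij
  let φ : Spor.Co1 →* G := ((MonoidHom.fst G (Spor.Co1 × ℤˣ)).comp Γ.subtype).comp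
    (E'.symm.toMonoidHom.comp (MonoidHom.inl Spor.Co1 ℤˣ))
  have hφz : φ ((s' * t') ^ 2) = (s * t) ^ 2 := by
    let S : Γ := ⟨(s, s', 1), hmem _ (by simp)⟩
    let T : Γ := ⟨(t, t', 1), hmem _ (by simp)⟩
    have h1 : E' ((S * T) ^ 2) = ((s' * t') ^ 2, 1) := by
      show p ((S * T) ^ 2) = _
      rw [map_pow, map_mul]
      have hS : p S = (s', 1) := rfl
      have hT : p T = (t', 1) := rfl
      rw [hS, hT, Prod.mk_mul_mk, Prod.pow_mk, mul_one, one_pow]
    have h2 : E'.symm ((s' * t') ^ 2, 1) = (S * T) ^ 2 := by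
      rw [← h1, MulEquiv.symm_apply_apply]
    show ((E'.symm ((s' * t') ^ 2, 1) : Γ) : G × (Spor.Co1 × ℤˣ)).1 = _
    rw [h2]
    rfl
  refine ⟨φ, ?_, hφz⟩
  rw [← MonoidHom.ker_eq_bot_iff]
  rcases Cfsg.Agent.S0399.result.1.eq_bot_or_eq_top_of_normal φ.ker inferInstance with h1 | h1
  · exact h1
  · exfalso
    apply hz
    rw [← hφz]
    have h2 : (s' * t') ^ 2 ∈ φ.ker := by rw [h1]; trivial
    exact h2

end Main

end Cfsg.Agent.CoOneType.Identify
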