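import Cfsg.Agent.CoOneType.InvClasses

/-!
Kernel checks for the classes of elements of `Co0` of order 2.
-/

set_option autoImplicit false
open Cfsg

namespace Cfsg.Agent.CoOneType.InvCheck

open Cfsg.Agent.SporadicA.GolayBase Cfsg.Agent.SporadicA.GolayPerm
open Cfsg.Agent.SporadicStructure.M24El
open Cfsg.Agent.CoOneType.InvClasses
open Cfsg.Agent
open Cfsg.Agent.J4.M24InvolData (P1 P2)

/-- The sextets fixed by `P1` (colours packed in a number, tetrads), with a code word. -/
def frames1 : List (ℕ × List ℕ × ℕ) := [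
  (3296557396926493458497, [154, 5125, 525120, 1327136, 4294656, 10625024], 4845570),
  (3361085007091835384344, [325, 262312, 529920, 1064978, 2172928, 12746752], 13062145),
  (3287298276956609484426, [5440, 262194, 524805, 1065096, 6332416, 8587264], 13062145),
  (3276794743156731027781, [16426, 592384, 1310864, 2110464, 4227392, 8519685], 13062145),
  (3277227088860892366035, [16560, 67904, 1310730, 2105349, 4751872, 8524800], 13062145),
  (3277352912495317946896, [67589, 278552, 1048738, 2105664, 4232192, 9044480], 4845570),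
  (3277064681839756911884, [72704, 278658, 1048632, 2630144, 4227077, 8520000], 13938692)]

/-- The sextet fixed by `P2`. -/
def frames2 : List (ℕ × List ℕ × ℕ) := [
  (3299004463658510057987, [54, 10504, 115712, 786945, 4325568, 11538432], 4845570)]

/-- The linear map inverting `1 + P2` on the invariant words. -/
def lin2 (i : ℕ) : ℕ :=
  ((i >>> 5) % 2 * 18) ^^^ ((i >>> 7) % 2 * 64) ^^^ ((i >>> 8) % 2 * 12) ^^^ ((i >>> 9) % 2 * 7) ^^^
  ((i >>> 10) % 2 * 6) ^^^ ((i >>> 11) % 2 * 4)

theorem check1 : allR 12 0 (fun i => !(Nat.beq (pimg P1 (enc i)) (enc i)) ||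
    frames1.any fun r => chk r.2.1 P1 (enc i) || chk r.2.1 P1 (enc i ^^^ (r.2.2 ^^^ pimg P1 r.2.2))) =
    true := by decide +kernel

theorem check2 : allR 12 0 (fun i => !(Nat.beq (pimg P2 (enc i)) (enc i)) ||
    Nat.beq (enc (lin2 i) ^^^ pimg P2 (enc (lin2 i))) (enc i)) = true := by decide +kernel

theorem isFrame_of {P Q : ℕ} {L : List ℕ} (h1 : ∀ k, (SporadicA.Xi.fib (Tq Q) k).card = 4)
    (h2 : ∀ k l : Fin 6, k ≠ l →
      isCode (maskOf (SporadicA.Xi.fib (Tq Q) k ∪ SporadicA.Xi.fib (Tq Q) l)) = true)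
    (h3 : L.length = 6)
    (h4 : ∀ k : Fin 6, ∀ p, (L.getD k 0).testBit (idx p) = decide (Tq Q p = k))
    (h5 : ∀ p, Tq Q (pt (papp P (idx p))) = Tq Q p) : IsFrame P Q L :=
  ⟨isSextet_of h1 h2, h3, h4, h5⟩

theorem frames1_ok : ∀ r ∈ frames1, IsFrame P1 r.1 r.2.1 ∧ isCode r.2.2 = true := by
  unfold frames1
  simp only [List.mem_cons, List.not_mem_nil, or_false]
  rintro r (rfl | rfl | rfl | rfl | rfl | rfl | rfl)
  all_goals exact ⟨isFrame_of (by decide +kernel) (by decide +kernel) rfl (by decide +kernel)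
    (by decide +kernel), by decide +kernel⟩

theorem frames2_ok : ∀ r ∈ frames2, IsFrame P2 r.1 r.2.1 ∧ isCode r.2.2 = true := by
  unfold frames2
  simp only [List.mem_cons, List.not_mem_nil, or_false]
  rintro r rfl
  exact ⟨isFrame_of (by decide +kernel) (by decide +kernel) rfl (by decide +kernel)
    (by decide +kernel), by decide +kernel⟩

end Cfsg.Agent.CoOneType.InvCheck
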