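import Cfsg.Agent.CoOneType.KOracle

/-!
# The orders of the eight stabilisers `S_i ≤ K = 3·Suz:2` and the counting of the double cosets

`T i` are the generators of `S_i` (the stabiliser facts of the node lines of
data/co1_type/h957/facts.txt). Their orders as permutation groups on 5346 points are bounded from
below by orbit lengths; in every group with the relations the indices are bounded accordingly.
-/

set_option autoImplicit false
set_option maxRecDepth 100000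
set_option exponentiation.threshold 10000

namespace Cfsg.Agent.CoOneType.KIndex

open Cfsg.Agent.SporadicRecognition.CosetCert Cfsg.Agent.CoOneType.Chain Cfsg.Agent.CoOneType.SuzPerm
open Cfsg.Agent.CoOneType.KOracle
open Cfsg.Agent.SporadicB.PermNet Cfsg.Agent.SporadicB.NetSimple Cfsg.Agent.SporadicB.NetGroup
  Cfsg.Agent.SporadicB.GraphRefine

/-- a factor: the word number `k / 2` of the list, inverted for odd `k` -/
noncomputable def pick (L : List (List ℕ)) (k : ℕ) : List ℕ :=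
  cond (Nat.beq (Nat.mod k 2) 0) (L.getD (Nat.div k 2) []) (invW (L.getD (Nat.div k 2) []))

/-- product of factors -/
noncomputable def expand (L : List (List ℕ)) (e : List ℕ) : List ℕ := (e.map (pick L)).flatten

theorem rho_getD_mem (L : List (List ℕ)) (j : ℕ) : rho (L.getD j []) ∈ gp L := by
  by_cases h : j < L.length
  · rw [List.getD_eq_getElem _ _ h]
    exact rho_mem_gp (List.getElem_mem h)
  · rw [List.getD_eq_default _ _ (by omega), rho_nil]
    exact one_mem _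

theorem rho_pick_mem (L : List (List ℕ)) (k : ℕ) : rho (pick L k) ∈ gp L := by
  unfold pick
  cases Nat.beq (Nat.mod k 2) 0
  · rw [cond_false, rho_invW]
    exact inv_mem (rho_getD_mem L _)
  · rw [cond_true]
    exact rho_getD_mem L _

theorem rho_expand_mem (L : List (List ℕ)) (e : List ℕ) : rho (expand L e) ∈ gp L := by
  unfold expand
  induction e with
  | nil => rw [List.map_nil, List.flatten_nil, rho_nil]; exact one_mem _
  | cons a e ih =>
    rw [List.map_cons, List.flatten_cons, rho_append]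
    exact mul_mem (rho_pick_mem L a) ih

/-- kernel test: the words `U` are the products `E` of the words `L` -/
noncomputable def memT (L : List (List ℕ)) (U : List (List ℕ)) : List (List ℕ) → Bool :=
  @List.rec (List ℕ) (fun _ => List (List ℕ) → Bool) (fun _ => true)
    (fun u _ ih E => and (chk u (expand L (E.headD []))) (ih E.tail)) U

theorem memT_spec {L U E : List (List ℕ)} (h : memT L U E = true) : ∀ u ∈ U, rho u ∈ gp L := by
  induction U generalizing E with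
  | nil => intro u hu; simp at hu
  | cons a U ih =>
    have h1 : and (chk a (expand L (E.headD []))) (memT L U E.tail) = true := h
    rw [Bool.and_eq_true] at h1
    intro u hu
    rcases List.mem_cons.1 hu with rfl | hu
    · rw [chk_spec hub h1.1]
      exact rho_expand_mem _ _
    · exact ih h1.2 u hu

/-- kernel test: the words reach at least `n` points from `b` in `r` sweeps -/
noncomputable def orbU (L : List (List ℕ)) (r b n : ℕ) : Bool :=
  Nat.ble n (pop 13 (Nat.land (roundsW L r (Nat.shiftLeft 1 b)) (Nat.sub (Nat.pow 2 (Nat.pow 2 13)) 1)))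

theorem orbU_spec {L : List (List ℕ)} {r b n : ℕ} (h : orbU L r b n = true)
    (H : Subgroup (Equiv.Perm ℕ)) [Finite H] (hH : gp L ≤ H) : n ≤ (MulAction.orbit H b).ncard := by
  have h1 : n ≤ pop 13 ((roundsW L r (Nat.shiftLeft 1 b)) &&& (2 ^ 2 ^ 13 - 1)) :=
    Nat.le_of_ble_eq_true h
  set X := roundsW L r (Nat.shiftLeft 1 b) with hX
  have hlt : X &&& (2 ^ 2 ^ 13 - 1) < 2 ^ 2 ^ 13 := by
    rw [Nat.and_two_pow_sub_one_eq_mod]
    exact Nat.mod_lt _ (Nat.two_pow_pos _)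
  rw [← ncard_bitSet 13 _ hlt] at h1
  refine h1.trans (Set.ncard_le_ncard ?_ (Set.finite_range _))
  intro i hi
  rw [mem_bitSet, Nat.testBit_and, Bool.and_eq_true] at hi
  refine roundsW_spec (S := L) (O := MulAction.orbit H b) ?_ r (x := Nat.shiftLeft 1 b) ?_ i hi.1
  · intro w hw j hj
    have h2 : rho w ∈ H := hH (rho_mem_gp hw)
    have h3 : (rho w)⁻¹ ∈ H := inv_mem h2
    have h4 : (⟨(rho w)⁻¹, h3⟩ : H) • (rho w j) ∈ MulAction.orbit H b := by
      rw [MulAction.mem_orbit_iff] at hj ⊢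
      obtain ⟨g, hg⟩ := hj
      exact ⟨⟨(rho w)⁻¹, h3⟩ * g, by rw [mul_smul, hg]⟩
    have h5 : (⟨(rho w)⁻¹, h3⟩ : H) • (rho w j) = j := by
      show (rho w)⁻¹ (rho w j) = j
      rw [← Equiv.Perm.mul_apply, inv_mul_cancel, Equiv.Perm.one_apply]
    rw [h5] at h4
    exact h4
  · intro j hj
    have h2 : (1 <<< b : ℕ).testBit j = true := hj
    rw [testBit_one_shiftLeft] at h2
    have h3 : j = b := by simpa using h2
    rw [h3]
    exact MulAction.mem_orbit_self b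

/-- one level of a stabiliser chain: `n` points in the orbit of `b`, generators `U` of the stabiliser -/
noncomputable def levT (L U E : List (List ℕ)) (b n r : ℕ) : Bool :=
  and (orbU L r b n) (and (fixT U b) (memT L U E))

theorem lev_spec {L U E : List (List ℕ)} {b n r m : ℕ} (h : levT L U E b n r = true)
    (hm : m ≤ Nat.card (gp U)) : n * m ≤ Nat.card (gp L) := by
  unfold levT at h
  simp only [Bool.and_eq_true] at h
  obtain ⟨h1, h2, h3⟩ := h
  exact chain_lower (gp_le fun w hw => ⟨memT_spec h3 w hw, fixT_spec h2 w hw⟩) (orbU_spec h1 _ le_rfl) hm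

theorem orb_le {L : List (List ℕ)} {b n r : ℕ} (h : orbU L r b n = true) : n ≤ Nat.card (gp L) := by
  have := chain_lower (H := gp L) (H' := ⊥) (b := b) (m := 1) bot_le (orbU_spec h _ le_rfl) (by simp)
  simpa using this

/-- generators of the stabiliser `S_0` -/
def T0 : List (List ℕ) := [[0], [1], [2], [4], [10], [9], [8], [6]]

def U0a : List (List ℕ) := [[3, 5, 6, 5, 9, 8], [0, 3, 1, 8, 10]]

def U0b : List (List ℕ) := [[1, 4, 8, 6, 4, 7, 2, 9], [4, 8, 6, 4, 2, 9]]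

def U0c : List (List ℕ) := [[2, 4, 6, 5, 3, 7, 2, 6, 5, 2, 7, 8, 6, 7, 8, 9, 8], [7, 2, 0, 8, 6, 7, 3]]

theorem lev0a : levT T0 U0a [[5, 7, 10, 14, 12, 7], [2, 8, 4, 12, 0]] 1455 5346 8 = true := by decide +kernel

theorem lev0b : levT U0a U0b [[2, 0, 2, 0, 2], [1]] 0 4095 21 = true := by decide +kernel

theorem lev0c : levT U0b U0c [[1, 3, 3, 1, 1, 1, 2, 0, 2, 1, 1, 1, 3, 3, 1], [0, 3, 1, 2]] 5117 2048 11 = true := by decide +kernel

theorem lev0d : orbU U0c 5 21 60 = true := by decide +kernel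

theorem card_T0 : 2690072985600 ≤ Nat.card (gp T0) :=
  le_trans (by norm_num) (lev_spec lev0a (lev_spec lev0b (lev_spec lev0c (orb_le lev0d))))

/-- generators of the stabiliser `S_1` -/
def T1 : List (List ℕ) := [[0], [1], [2], [4], [9], [8], [6]]

def U1a : List (List ℕ) := [[7, 1, 4, 2, 6, 4, 9], [0, 4, 2, 9, 8, 6, 5]]

def U1b : List (List ℕ) := [[4, 1, 6, 8, 6, 4, 6, 8, 9, 8, 6, 4], [4, 2, 7, 3, 5, 8]]

theorem lev1a : levT T1 U1a [[0, 8, 12, 6, 5, 12, 0, 6, 5], [0, 6, 5, 8, 5, 10, 12, 7]] 2615 4095 5 = true := by decide +kernel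

theorem lev1b : levT U1a U1b [[2, 0, 3, 1, 1, 3], [1, 2, 2, 0, 3, 3, 3, 0, 0, 2, 2, 0]] 66 2048 13 = true := by decide +kernel

theorem lev1c : orbU U1b 5 20 60 = true := by decide +kernel

theorem card_T1 : 503193600 ≤ Nat.card (gp T1) :=
  le_trans (by norm_num) (lev_spec lev1a (lev_spec lev1b (orb_le lev1c)))

/-- generators of the stabiliser `S_2` -/
def T2 : List (List ℕ) := [[1, 6, 5, 2, 8, 6, 8, 7, 8, 6, 9, 8, 6, 7, 3, 4, 8, 9, 6], [7, 8, 6, 5, 1, 6, 8, 7, 9, 8, 6, 4, 6, 8, 9], [2, 4, 3, 8, 6, 7, 2, 4, 8, 7, 2, 6, 8, 9, 8, 6, 7, 2, 4, 8, 9, 6, 8, 7, 3], [0, 3, 6, 5, 6, 8, 7, 3, 4, 7, 8, 6, 9, 8, 6, 4, 7, 2, 8, 9, 7, 8, 6, 5, 2], [4, 6, 7, 8, 6, 5], [5, 1, 8, 6, 7, 8, 6, 9, 8, 6, 4, 7, 8], [0, 4, 7, 8, 6, 5, 7, 3, 7, 9, 8, 6, 7, 2, 4, 8, 9, 10, 9, 8, 6, 4, 2, 6, 8, 9, 10, 7, 8, 9, 6, 4, 8, 7, 3, 4, 7, 8, 9, 10, 6, 8, 9, 7, 3, 5, 8, 6, 7, 8, 9, 10]]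

def U2a : List (List ℕ) := [[1, 3, 6, 7, 8, 6, 7, 2, 4, 8, 6, 9, 8, 6, 7, 10, 9, 8, 6, 4, 2, 6, 8, 7, 9, 8, 6, 4, 10, 9, 8, 7, 3, 4, 7, 8, 6, 9, 8, 7, 3, 5, 10, 9, 8, 6, 7, 8, 9, 10], [4, 6, 7, 8, 6, 5]]

def U2b : List (List ℕ) := [[3, 7, 8, 6, 7, 2], [0, 4, 6, 5, 3, 8, 6, 9, 8, 6, 7, 2, 8]]

theorem lev2a : levT T2 U2a [[6, 13, 6], [8]] 57 4095 3 = true := by decide +kernel

theorem lev2b : levT U2a U2b [[1, 2, 0], [3, 0, 0, 3, 1, 1, 3, 0, 0, 3, 0, 0]] 1527 2048 12 = true := by decide +kernel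

theorem lev2c : orbU U2b 5 11 60 = true := by decide +kernel

theorem card_T2 : 503193600 ≤ Nat.card (gp T2) :=
  le_trans (by norm_num) (lev_spec lev2a (lev_spec lev2b (orb_le lev2c)))

/-- generators of the stabiliser `S_3` -/
def T3 : List (List ℕ) := [[4, 2, 7, 3, 5, 6], [4, 8, 7, 6, 5, 8, 7, 9], [0, 6, 5, 2, 7, 3, 5, 7, 6, 8, 7], [4, 3, 0, 6, 5, 9, 8, 6, 5], [0, 5, 8, 7, 8, 6, 5, 2, 8, 7, 3, 9, 8, 6, 7, 2, 8, 10, 9, 8, 6, 7, 3, 5, 8, 9, 10, 6, 8, 9, 7, 3, 8, 6, 4, 6, 8, 9, 10]]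

def U3a : List (List ℕ) := [[8, 9], [2, 4, 6, 5, 3, 4, 3, 6, 4, 2, 8, 6, 4, 7, 2, 8, 9, 8, 6, 4, 3, 6, 5, 8, 10, 9, 8, 6, 7, 3, 5, 8, 6, 9, 8, 7, 3, 10, 9, 8, 6, 4, 6, 8, 9, 10]]

theorem lev3a : levT T3 U3a [[7, 3, 4, 6, 1, 7, 4, 2, 6], [2, 6, 3, 1, 9, 0]] 3245 3150 4 = true := by decide +kernel

theorem lev3b : orbU U3a 8 240 384 = true := by decide +kernel

theorem card_T3 : 1209600 ≤ Nat.card (gp T3) :=
  le_trans (by norm_num) (lev_spec lev3a (orb_le lev3b))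

/-- generators of the stabiliser `S_4` -/
def T4 : List (List ℕ) := [[0], [1], [9], [8], [7], [5, 6, 4], [1, 3, 7, 2, 6], [9, 10, 9]]

def U4a : List (List ℕ) := [[7, 3, 7, 2, 5, 0, 8, 9, 8, 6, 5], [8, 9]]

def U4b : List (List ℕ) := [[9, 8], [8, 9]]

theorem lev4a : levT T4 U4a [[4, 12, 6, 10, 4, 0], [6, 4]] 408 3456 5 = true := by decide +kernel

theorem lev4b : levT U4a U4b [[3], [2]] 153 640 11 = true := by decide +kernel

theorem lev4c : orbU U4b 1 1 3 = true := by decide +kernel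

theorem card_T4 : 6635520 ≤ Nat.card (gp T4) :=
  le_trans (by norm_num) (lev_spec lev4a (lev_spec lev4b (orb_le lev4c)))

/-- generators of the stabiliser `S_5` -/
def T5 : List (List ℕ) := [[0, 5, 6, 5, 7], [1, 7, 8, 6, 5, 6, 8, 7, 9, 8, 6, 4, 6, 8, 9], [5, 6, 5, 8, 7, 2, 6, 4, 8, 6, 9, 8, 6, 4, 6, 8, 9], [4, 2, 4, 8, 7, 2, 4, 8, 6, 7, 3, 9, 8, 6, 4, 2, 6, 5, 8, 9, 6, 4, 8, 7, 3, 5], [4, 6, 5, 8, 6, 5, 8, 7, 9, 8, 6, 4, 6, 8], [5, 1, 6, 5, 8, 6, 4, 9, 8, 6, 4], [0, 4, 2, 8, 7, 3, 6, 4], [6, 5, 1, 2, 8, 7, 6, 8, 10, 9, 8, 6, 7, 2, 4, 8, 9, 10, 6]]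

def U5a : List (List ℕ) := [[6, 5, 0, 3, 8, 6, 5, 9, 8, 6, 4, 7, 2, 4, 8, 7, 9, 8, 6], [2, 4, 6, 5, 2, 1, 5, 6, 5, 2, 8]]

def U5b : List (List ℕ) := [[4, 2, 4, 8, 6, 5, 9, 8, 6, 7, 3, 5, 8, 9], [7, 2, 4, 6, 5, 3, 7, 0, 2, 4, 3, 8, 7, 3, 4, 9, 8]]

def U5c : List (List ℕ) := [[2, 4, 6, 5, 3, 0, 4, 3, 0, 7, 8, 7, 3, 4], [7, 1, 2, 5, 6, 4, 2]]

theorem lev5a : levT T5 U5a [[14, 12, 2, 0, 9, 12, 5, 2, 14], [13]] 0 5346 4 = true := by decide +kernel

theorem lev5b : levT U5a U5b [[2, 2, 1, 2, 0, 0, 0, 0, 3, 0], [2, 1, 1, 3, 0, 3, 3, 0, 2]] 153 4095 11 = true := by decide +kernel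

theorem lev5c : levT U5b U5c [[3, 3, 3, 3, 0, 2, 0, 0, 3, 1], [1, 2, 1, 1, 3, 0]] 286 2048 10 = true := by decide +kernel

theorem lev5d : orbU U5c 5 50 60 = true := by decide +kernel

theorem card_T5 : 2690072985600 ≤ Nat.card (gp T5) :=
  le_trans (by norm_num) (lev_spec lev5a (lev_spec lev5b (lev_spec lev5c (orb_le lev5d))))

/-- generators of the stabiliser `S_6` -/
def T6 : List (List ℕ) := [[4, 8, 6, 7, 8, 6, 4, 7, 9, 8, 6, 4, 6, 8, 9], [6, 5, 1, 8, 6, 4, 8], [6, 5, 1, 8, 6, 7, 8, 9, 8, 6, 4, 7, 8], [1, 8, 6, 8, 7, 8, 6, 9, 8, 6, 7, 8, 9], [4, 8, 6, 5, 8, 7, 8, 6], [6, 5, 1, 8, 6, 4, 9, 8, 6], [0, 7, 3, 1, 8, 6, 9, 8, 7, 3], [8, 6, 5, 2, 6, 7, 3, 5, 8, 7, 2, 5, 9, 8, 6, 7, 3, 4, 8, 9, 10, 9, 8, 6, 4, 2, 6, 4, 8, 9, 7, 8, 6, 4, 3], [1, 5, 3, 6, 4, 2, 8, 6, 4, 2, 8, 6, 9, 8, 6, 7, 3, 5, 8, 6, 10, 9, 8, 6, 4, 2, 6, 8, 9, 10, 7, 8, 9, 6, 8, 7, 3, 5, 2, 7, 8, 9, 6, 8, 7, 3]]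

def U6a : List (List ℕ) := [[2, 4, 6, 5, 3, 7, 2, 7, 8, 6, 4, 6], [1, 6, 4, 6, 8, 6, 5]]

def U6b : List (List ℕ) := [[6, 8], [8, 6]]

theorem lev6a : levT T6 U6a [[4, 2, 12], [4, 10, 2, 4]] 1 3456 3 = true := by decide +kernel

theorem lev6b : levT U6a U6b [[0, 2, 1], [0, 3, 1]] 356 640 10 = true := by decide +kernel

theorem lev6c : orbU U6b 1 2 3 = true := by decide +kernel

theorem card_T6 : 6635520 ≤ Nat.card (gp T6) :=
  le_trans (by norm_num) (lev_spec lev6a (lev_spec lev6b (orb_le lev6c)))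

/-- generators of the stabiliser `S_7` -/
def T7 : List (List ℕ) := [[1, 7, 8, 6, 5, 2, 5, 8, 7, 8], [1, 4, 8, 7, 2, 6, 9, 8, 6, 4, 7, 8], [4, 3, 5, 6, 7, 3, 8, 6, 4, 2, 7, 6], [3, 0, 6, 4, 6, 8, 7, 2, 5, 7, 3, 9, 8, 6, 4, 2, 6], [0, 8, 7, 2, 4, 3, 8, 6, 5, 8, 7, 9, 10, 9, 8]]

def U7a : List (List ℕ) := [[2, 4, 6, 5, 3, 7, 2, 7, 3, 5, 6, 8, 6, 4, 2], [5, 1, 3, 8, 6, 7, 2, 9, 8, 6, 4, 7, 2, 4, 8, 7, 3, 9, 8]]

def U7b : List (List ℕ) := [[7, 1, 6, 4, 8, 6, 4, 7, 9, 8, 6, 4, 7, 8], [7, 0, 1, 5, 6, 8, 6, 4, 2, 6, 8, 7, 3, 9, 8, 6, 7]]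

theorem lev7a : levT T7 U7a [[0], [9, 0, 5, 6, 3, 5, 8]] 0 4860 5 = true := by decide +kernel

theorem lev7b : levT U7a U7b [[0, 3, 3, 0, 3, 0, 2, 1], [3, 1, 2, 1, 3, 1]] 57 2016 12 = true := by decide +kernel

theorem lev7c : orbU U7b 2 2 6 = true := by decide +kernel

theorem card_T7 : 58786560 ≤ Nat.card (gp T7) :=
  le_trans (by norm_num) (lev_spec lev7a (lev_spec lev7b (orb_le lev7c)))

/-! ### indices in a group with the relations -/

theorem card_LK : Nat.card (gp LK) = 2690072985600 := le_antisymm hub card_K_ge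

theorem gp_le_LK (T : List (List ℕ)) : gp T ≤ gp LK := gp_le fun w _ => rho_mem w

theorem relIndex_rho {T : List (List ℕ)} {n m : ℕ} (h : n ≤ Nat.card (gp T)) (hn : 0 < n)
    (hnm : n * m = 2690072985600) : (gp T).relIndex (gp LK) ≤ m := by
  have h1 : Nat.card (gp T) * (gp T).relIndex (gp LK) = 2690072985600 := by
    rw [← card_LK, ← Subgroup.relIndex_bot_left (gp T), ← Subgroup.relIndex_bot_left (gp LK)]
    exact Subgroup.relIndex_mul_relIndex ⊥ (gp T) (gp LK) bot_le (gp_le_LK T)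
  have h2 : n * (gp T).relIndex (gp LK) ≤ n * m := by
    rw [hnm, ← h1]
    exact Nat.mul_le_mul_right _ h
  exact Nat.le_of_mul_le_mul_left h2 hn

section general

variable {G : Type*} [Group G] {L : ℕ → G}

theorem exists_wd (g : gp LK) : ∃ w : List ℕ, okW w = true ∧ rho w = g := by
  obtain ⟨w, hw, e⟩ := exists_word (L := LK) (P := fun w => okW w = true) (by
    intro w hw
    unfold LK at hw
    simp only [List.mem_cons, List.not_mem_nil, or_false] at hw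
    rcases hw with rfl | rfl | rfl | rfl | rfl | rfl | rfl | rfl | rfl <;> rfl) rfl
    (fun u v hu hv => okW_append hu hv) (fun u hu => okW_invW hu) g.2
  exact ⟨w, hw, e⟩

/-- The group `K` of permutations maps onto the group generated by the letters. -/
noncomputable def hom (H : Let L) : gp LK →* G where
  toFun g := ev L (exists_wd g).choose
  map_one' := by
    have h := (exists_wd 1).choose_spec
    exact ev_eq_one H h.1 h.2
  map_mul' a b := by
    have ha := (exists_wd a).choose_spec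
    have hb := (exists_wd b).choose_spec
    have hab := (exists_wd (a * b)).choose_spec
    show ev L (exists_wd (a * b)).choose = ev L (exists_wd a).choose * ev L (exists_wd b).choose
    rw [← ev_append]
    apply ev_eq H hab.1 (okW_append ha.1 hb.1)
    rw [hab.2, rho_append, ha.2, hb.2]
    rfl

theorem hom_rho (H : Let L) {w : List ℕ} (hw : okW w = true) (h : rho w ∈ gp LK) :
    hom H ⟨rho w, h⟩ = ev L w := by
  have hs := (exists_wd ⟨rho w, h⟩).choose_spec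
  exact ev_eq H hs.1 hw hs.2

theorem hom_mem (H : Let L) (g : gp LK) : hom H g ∈ Subgroup.closure (L '' {x | x < 11}) :=
  ev_mem (okW_iff.1 (exists_wd g).choose_spec.1)

/-- The index of a group of words can only drop. -/
theorem relIndex_ev (H : Let L) {T : List (List ℕ)} (hT : okWs T = true) {m : ℕ}
    (h : (gp T).relIndex (gp LK) ≤ m) :
    (Subgroup.closure (ev L '' {w | w ∈ T})).relIndex (Subgroup.closure (L '' {x | x < 11})) ≤ m := by
  refine le_trans ?_ h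
  set K := Subgroup.closure (L '' {x | x < 11}) with hK
  let f : gp LK →* K := (hom H).codRestrict K (hom_mem H)
  have hsurj : Function.Surjective f := by
    rintro ⟨k, hk⟩
    obtain ⟨w, hw, rfl⟩ := exists_ev H le_rfl (fun n hn => SuzPerm.invL_lt hn) hk
    exact ⟨⟨rho w, rho_mem w⟩, Subtype.ext (hom_rho H (okW_iff.2 hw) (rho_mem w))⟩
  have hle : ((gp T).subgroupOf (gp LK)).map f ≤ (Subgroup.closure (ev L '' {w | w ∈ T})).subgroupOf K := by
    rintro _ ⟨⟨g, hg⟩, hgT, rfl⟩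
    have hgT' : g ∈ gp T := hgT
    obtain ⟨w, hw, rfl, hw2⟩ := gp_sub H (okWs_spec hT) hgT'
    rw [Subgroup.mem_subgroupOf]
    have : ((f ⟨rho w, hg⟩ : K) : G) = ev L w := hom_rho H hw hg
    rw [this]
    exact hw2
  have h1 : ((Subgroup.closure (ev L '' {w | w ∈ T})).subgroupOf K).index ∣ ((gp T).subgroupOf (gp LK)).index :=
    (Subgroup.index_dvd_of_le hle).trans (Subgroup.index_map_dvd _ hsurj)
  exact Nat.le_of_dvd (Nat.pos_of_ne_zero (Subgroup.index_ne_zero_of_finite)) h1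

/-! ### counting double cosets -/

/-- The double coset `K x K` has at most `|K| [K : S]` elements if `x S x⁻¹ ≤ K`. -/
theorem dcoset_le (K S : Subgroup G) [Finite K] (x : G) (hx : ∀ a ∈ S, x * a * x⁻¹ ∈ K) :
    {g : G | ∃ k ∈ K, ∃ k' ∈ K, g = k * x * k'}.Finite ∧
      {g : G | ∃ k ∈ K, ∃ k' ∈ K, g = k * x * k'}.ncard ≤ Nat.card K * S.relIndex K := by
  let S' := S.subgroupOf K
  let F : K × (K ⧸ S') → G := fun p => (p.1 : G) * x * ((Quotient.out p.2 : K) : G)⁻¹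
  have hsub : {g : G | ∃ k ∈ K, ∃ k' ∈ K, g = k * x * k'} ⊆ Set.range F := by
    rintro g ⟨k, hk, k', hk', rfl⟩
    obtain ⟨h, e⟩ := QuotientGroup.mk_out_eq_mul S' (⟨k', hk'⟩⁻¹ : K)
    have hS : ((h : K) : G) ∈ S := h.2
    refine ⟨(⟨k, hk⟩ * ⟨x * ((h : K) : G) * x⁻¹, hx _ hS⟩, ((⟨k', hk'⟩⁻¹ : K) : K ⧸ S')), ?_⟩
    show (k * (x * ((h : K) : G) * x⁻¹)) * x * ((Quotient.out ((⟨k', hk'⟩⁻¹ : K) : K ⧸ S') : K) : G)⁻¹ = k * x * k'
    rw [e]
    show (k * (x * ((h : K) : G) * x⁻¹)) * x * (k'⁻¹ * ((h : K) : G))⁻¹ = k * x * k'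
    group
  have hfin : (Set.range F).Finite := Set.finite_range F
  refine ⟨hfin.subset hsub, (Set.ncard_le_ncard hsub hfin).trans ?_⟩
  have h1 : (Set.range F).ncard ≤ Nat.card (K × (K ⧸ S')) := by
    rw [← Set.image_univ, ← Set.ncard_univ]
    exact Set.ncard_image_le Set.finite_univ
  rw [Nat.card_prod] at h1
  exact h1

/-- The lists of generators of the eight stabilisers. -/
def T : ℕ → List (List ℕ)
  | 0 => T0
  | 1 => T1
  | 2 => T2
  | 3 => T3
  | 4 => T4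
  | 5 => T5
  | 6 => T6
  | _ => T7

/-- The eight indices. -/
def m : ℕ → ℕ
  | 0 => 1
  | 1 => 5346
  | 2 => 5346
  | 3 => 2223936
  | 4 => 405405
  | 5 => 1
  | 6 => 405405
  | _ => 45760

theorem relIndex_le (H : Let L) (i : ℕ) (hi : i < 8) :
    (Subgroup.closure (ev L '' {w | w ∈ T i})).relIndex (Subgroup.closure (L '' {x | x < 11})) ≤ m i := by
  interval_cases i
  · exact relIndex_ev H (by decide +kernel) (relIndex_rho card_T0 (by norm_num) (by norm_num [m]))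
  · exact relIndex_ev H (by decide +kernel) (relIndex_rho card_T1 (by norm_num) (by norm_num [m]))
  · exact relIndex_ev H (by decide +kernel) (relIndex_rho card_T2 (by norm_num) (by norm_num [m]))
  · exact relIndex_ev H (by decide +kernel) (relIndex_rho card_T3 (by norm_num) (by norm_num [m]))
  · exact relIndex_ev H (by decide +kernel) (relIndex_rho card_T4 (by norm_num) (by norm_num [m]))
  · exact relIndex_ev H (by decide +kernel) (relIndex_rho card_T5 (by norm_num) (by norm_num [m]))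
  · exact relIndex_ev H (by decide +kernel) (relIndex_rho card_T6 (by norm_num) (by norm_num [m]))
  · exact relIndex_ev H (by decide +kernel) (relIndex_rho card_T7 (by norm_num) (by norm_num [m]))

/-- **The strong bound**: a group which is the union of the eight double cosets has order at most `2 |Co₁|`. -/
theorem card_le (H : Let L) (x : ℕ → G)
    (hx : ∀ i < 8, ∀ a ∈ Subgroup.closure (ev L '' {w | w ∈ T i}),
      x i * a * (x i)⁻¹ ∈ Subgroup.closure (L '' {x | x < 11})) (G0 : Subgroup G)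
    (hG : ∀ g ∈ G0, ∃ i < 8, ∃ k ∈ Subgroup.closure (L '' {x | x < 11}),
      ∃ k' ∈ Subgroup.closure (L '' {x | x < 11}), g = k * x i * k') :
    Finite G0 ∧ Nat.card G0 ≤ 8315553613086720000 := by
  obtain ⟨hfin, hcard⟩ := suz_le H
  set K := Subgroup.closure (L '' {x | x < 11}) with hK
  set D : ℕ → Set G := fun i => {g : G | ∃ k ∈ K, ∃ k' ∈ K, g = k * x i * k'} with hD
  have hb : ∀ i < 8, (D i).Finite ∧ (D i).ncard ≤ 2690072985600 * m i := fun i hi => by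
    obtain ⟨h1, h2⟩ := dcoset_le K _ (x i) (hx i hi)
    exact ⟨h1, h2.trans (Nat.mul_le_mul hcard (relIndex_le H i hi))⟩
  have hsub : (G0 : Set G) ⊆ ⋃ i ∈ Finset.range 8, D i := by
    intro g hg
    obtain ⟨i, hi, h⟩ := hG g hg
    exact Set.mem_biUnion (Finset.mem_coe.2 (Finset.mem_range.2 hi)) h
  have hUfin : (⋃ i ∈ Finset.range 8, D i).Finite := by
    apply Set.Finite.biUnion (Finset.finite_toSet _)
    intro i hi
    exact (hb i (Finset.mem_range.1 (Finset.mem_coe.1 hi))).1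
  have hcardU : (⋃ i ∈ Finset.range 8, D i).ncard ≤ ∑ i ∈ Finset.range 8, 2690072985600 * m i :=
    (Finset.set_ncard_biUnion_le _ _).trans (Finset.sum_le_sum fun i hi => (hb i (Finset.mem_range.1 hi)).2)
  refine ⟨(hUfin.subset hsub).to_subtype, ?_⟩
  have h1 : Nat.card G0 = (G0 : Set G).ncard := rfl
  rw [h1]
  refine (Set.ncard_le_ncard hsub hUfin).trans (hcardU.trans ?_)
  simp only [Finset.sum_range_succ, Finset.sum_range_zero, m]
  norm_num

end general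

end Cfsg.Agent.CoOneType.KIndex
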