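import Cfsg.Agent.SporadicB.NetSimple
import Cfsg.Agent.CoOneType.SuzNets

/-!
# `3.Suz:2` on 5346 points: words, faithfulness of five base points

Letters `s t x x⁻¹ y y⁻¹ g h f e d = 0..10`, `rho : words → Perm ℕ` multiplicative.
-/

set_option autoImplicit false
set_option maxRecDepth 100000
set_option exponentiation.threshold 10000

namespace Cfsg.Agent.CoOneType.SuzPerm

open Cfsg.Agent.SporadicB.PermNet Cfsg.Agent.SporadicB.NetGroup
  Cfsg.Agent.SporadicB.GraphRefine Cfsg.Agent.SporadicB.NetSimple Cfsg.Agent.CoOneType.SuzNets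

/-- the net of a letter -/
noncomputable def netOf (k : ℕ) : Net := NL.getD k []

/-- kernel test of all nets -/
noncomputable def okAll (l : List Net) : Bool :=
  @List.rec Net (fun _ => Bool) true (fun n _ ih => and (okNet (2 ^ 13) n) ih) l

theorem okAll_spec {l : List Net} (h : okAll l = true) : ∀ n ∈ l, okNet (2 ^ 13) n = true := by
  induction l with
  | nil => intro n hn; simp at hn
  | cons a l ih =>
    have h1 : and (okNet (2 ^ 13) a) (okAll l) = true := h
    rw [Bool.and_eq_true] at h1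
    intro n hn
    rcases List.mem_cons.1 hn with rfl | hn
    · exact h1.1
    · exact ih h1.2 n hn

theorem ok_NL : okAll NL = true := by decide +kernel

theorem okOf (k : ℕ) : okNet (2 ^ 13) (netOf k) = true := by
  unfold netOf
  by_cases h : k < NL.length
  · rw [List.getD_eq_getElem _ _ h]
    exact okAll_spec ok_NL _ (List.getElem_mem h)
  · rw [List.getD_eq_default _ _ (by omega)]
    rfl

theorem validOf (k : ℕ) : Valid (netOf k) := (okNet_spec (okOf k)).1

/-- the permutation of a word -/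
noncomputable def rho (w : List ℕ) : Equiv.Perm ℕ := (w.map fun k => netPerm (netOf k)).prod

theorem rho_nil : rho [] = 1 := rfl

theorem rho_cons (k : ℕ) (w : List ℕ) : rho (k :: w) = netPerm (netOf k) * rho w := by
  unfold rho
  rw [List.map_cons, List.prod_cons]

theorem rho_append (u v : List ℕ) : rho (u ++ v) = rho u * rho v := by
  unfold rho
  rw [List.map_append, List.prod_append]

theorem rho_single (k : ℕ) : rho [k] = netPerm (netOf k) := by rw [rho_cons, rho_nil, mul_one]

/-- image of the set `x` under the right action of the word `w` -/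
noncomputable def runW (w : List ℕ) (x : ℕ) : ℕ := runs (w.map netOf) x

theorem runW_testBit (w : List ℕ) (x i : ℕ) : (runW w x).testBit i = x.testBit (rho w i) := by
  unfold runW rho
  rw [runs_testBit, List.map_map]
  · rfl
  · intro l hl
    rw [List.mem_map] at hl
    obtain ⟨k, _, rfl⟩ := hl
    exact validOf k

/-- inverse letter -/
def invL (k : ℕ) : ℕ := if k = 2 then 3 else if k = 3 then 2 else if k = 4 then 5 else if k = 5 then 4 else k

/-- inverse word -/
def invW (w : List ℕ) : List ℕ := (w.map invL).reverse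

/-! ### relator checks -/

/-- kernel test `rho w = 1` -/
noncomputable def relT (w : List ℕ) : Bool := eqWord 13 (w.map netOf) [] 13

theorem relT_spec {w : List ℕ} (h : relT w = true) : rho w = 1 := by
  have h1 := prod_eq_of_eqWord (w := 13) (ws := w.map netOf) (ws' := []) (by
    intro l hl
    rw [List.mem_map] at hl
    obtain ⟨k, _, rfl⟩ := hl
    exact okOf k) (by intro l hl; simp at hl) h
  unfold rho
  rw [List.map_map] at h1
  exact h1

/-- kernel test of a list of relators -/
noncomputable def relsT (l : List (List ℕ)) : Bool :=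
  @List.rec (List ℕ) (fun _ => Bool) true (fun w _ ih => and (relT w) ih) l

theorem relsT_spec {l : List (List ℕ)} (h : relsT l = true) : ∀ w ∈ l, rho w = 1 := by
  induction l with
  | nil => intro n hn; simp at hn
  | cons a l ih =>
    have h1 : and (relT a) (relsT l) = true := h
    rw [Bool.and_eq_true] at h1
    intro n hn
    rcases List.mem_cons.1 hn with rfl | hn
    · exact relT_spec h1.1
    · exact ih h1.2 n hn

theorem inv_rels : relsT [[0, 0], [1, 1], [2, 3], [4, 5], [6, 6], [7, 7], [8, 8], [9, 9], [10, 10]] = true := by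
  decide +kernel

theorem rho_invL (k : ℕ) : rho [invL k] = (rho [k])⁻¹ := by
  have h := relsT_spec inv_rels
  have e : ∀ a b : ℕ, rho [a, b] = 1 → rho [b] = (rho [a])⁻¹ := by
    intro a b hab
    have : rho [a] * rho [b] = 1 := by rw [← rho_append]; exact hab
    exact (inv_eq_of_mul_eq_one_right this).symm
  have e' : ∀ a b : ℕ, rho [a, b] = 1 → rho [a] = (rho [b])⁻¹ := by
    intro a b hab
    rw [e a b hab, inv_inv]
  by_cases hk : k < 11
  · interval_cases k
    · exact e _ _ (h [0, 0] (by simp))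
    · exact e _ _ (h [1, 1] (by simp))
    · exact e _ _ (h [2, 3] (by simp))
    · exact e' _ _ (h [2, 3] (by simp))
    · exact e _ _ (h [4, 5] (by simp))
    · exact e' _ _ (h [4, 5] (by simp))
    · exact e _ _ (h [6, 6] (by simp))
    · exact e _ _ (h [7, 7] (by simp))
    · exact e _ _ (h [8, 8] (by simp))
    · exact e _ _ (h [9, 9] (by simp))
    · exact e _ _ (h [10, 10] (by simp))
  · have h1 : invL k = k := by
      unfold invL
      rw [if_neg (by omega), if_neg (by omega), if_neg (by omega), if_neg (by omega)]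
    have h2 : rho [k] = 1 := by
      rw [rho_single]
      unfold netOf
      rw [List.getD_eq_default _ _ (by have : NL.length = 11 := rfl; omega)]
      rfl
    rw [h1, h2, inv_one]

theorem rho_invW (w : List ℕ) : rho (invW w) = (rho w)⁻¹ := by
  unfold invW
  induction w with
  | nil => simp [rho_nil]
  | cons k w ih =>
    rw [List.map_cons, List.reverse_cons, rho_append, ih, rho_invL, rho_single, rho_cons k w, mul_inv_rev]

/-! ### the stabiliser chain -/

/-- the subgroup generated by words -/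
noncomputable def gp (L : List (List ℕ)) : Subgroup (Equiv.Perm ℕ) := Subgroup.closure {g | ∃ w ∈ L, g = rho w}

theorem rho_mem_gp {L : List (List ℕ)} {w : List ℕ} (h : w ∈ L) : rho w ∈ gp L :=
  Subgroup.subset_closure ⟨w, h, rfl⟩

theorem gp_le {L : List (List ℕ)} {H : Subgroup (Equiv.Perm ℕ)} (h : ∀ w ∈ L, rho w ∈ H) : gp L ≤ H := by
  unfold gp
  rw [Subgroup.closure_le]
  rintro _ ⟨w, hw, rfl⟩
  exact h w hw

/-- letters of `K` -/
def LK : List (List ℕ) := [[0], [1], [2], [4], [6], [7], [8], [9], [10]]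
/-- letters of `C = G₂(4):2` -/
def LC : List (List ℕ) := [[0], [1], [2], [4], [6], [7], [8], [9]]
/-- letters of `J₂:2` -/
def LJ : List (List ℕ) := [[0], [1], [2], [4], [6], [7], [8]]
/-- letters of `U₃(3):2` -/
def LU : List (List ℕ) := [[0], [1], [2], [4], [6], [7]]
/-- a group of order 6 -/
def LS : List (List ℕ) := [[7], [2, 4, 6, 5, 3]]

/-- net of a word -/
noncomputable def netW (w : List ℕ) : Net := (w.map netOf).flatten

theorem netPerm_netW (w : List ℕ) : netPerm (netW w) = rho w := by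
  unfold netW
  induction w with
  | nil => rfl
  | cons k w ih => rw [List.map_cons, List.flatten_cons, netPerm_append, ih, rho_cons]

theorem valid_netW (w : List ℕ) : Valid (netW w) := by
  unfold netW
  induction w with
  | nil => intro p hp; simp at hp
  | cons k w ih =>
    rw [List.map_cons, List.flatten_cons]
    exact (validOf k).append ih

/-- kernel test: the words reach at least `m` points from `b` in `r` rounds -/
noncomputable def orbT (L : List (List ℕ)) (r b m : ℕ) : Bool :=
  Nat.ble m (pop 13 (Nat.land (rounds (L.map netW) r (Nat.shiftLeft 1 b)) (Nat.sub (Nat.pow 2 (Nat.pow 2 13)) 1)))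

theorem orbT_spec {L : List (List ℕ)} {r b m : ℕ} (h : orbT L r b m = true)
    (H : Subgroup (Equiv.Perm ℕ)) [Finite H] (hH : gp L ≤ H) : m ≤ (MulAction.orbit H b).ncard := by
  have h1 : m ≤ pop 13 ((rounds (L.map netW) r (Nat.shiftLeft 1 b)) &&& (2 ^ 2 ^ 13 - 1)) :=
    Nat.le_of_ble_eq_true h
  set X := rounds (L.map netW) r (Nat.shiftLeft 1 b) with hX
  have hlt : X &&& (2 ^ 2 ^ 13 - 1) < 2 ^ 2 ^ 13 := by
    rw [Nat.and_two_pow_sub_one_eq_mod]
    exact Nat.mod_lt _ (Nat.two_pow_pos _)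
  rw [← ncard_bitSet 13 _ hlt] at h1
  refine h1.trans (Set.ncard_le_ncard ?_ (Set.finite_range _))
  intro i hi
  rw [mem_bitSet, Nat.testBit_and, Bool.and_eq_true] at hi
  refine mem_orbit_of_rounds (ns := L.map netW) ?_ (H := H) ?_ (r := r) (p := b) (X := X) ?_ hi.1
  · intro n hn
    rw [List.mem_map] at hn
    obtain ⟨w, _, rfl⟩ := hn
    exact valid_netW w
  · intro n hn
    rw [List.mem_map] at hn
    obtain ⟨w, hw, rfl⟩ := hn
    rw [netPerm_netW]
    exact hH (rho_mem_gp hw)
  · rw [← hX]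
    exact Nat.beq_refl X

theorem orb0 : orbT LK 12 0 5346 = true := by decide +kernel
theorem orb1 : orbT LC 12 1 416 = true := by decide +kernel
theorem orb2 : orbT LJ 12 2 100 = true := by decide +kernel
theorem orb3 : orbT LU 16 730 2016 = true := by decide +kernel
theorem orb4 : orbT LS 4 4 6 = true := by decide +kernel

/-- kernel test: the words fix the points -/
noncomputable def fixT (L : List (List ℕ)) (b : ℕ) : Bool :=
  @List.rec (List ℕ) (fun _ => Bool) true
    (fun w _ ih => and (Nat.beq (runW w (Nat.shiftLeft 1 b)) (Nat.shiftLeft 1 b)) ih) L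

theorem fixT_spec {L : List (List ℕ)} {b : ℕ} (h : fixT L b = true) : ∀ w ∈ L, rho w b = b := by
  induction L with
  | nil => intro n hn; simp at hn
  | cons a l ih =>
    have h1 : and (Nat.beq (runW a (Nat.shiftLeft 1 b)) (Nat.shiftLeft 1 b)) (fixT l b) = true := h
    rw [Bool.and_eq_true] at h1
    intro w hw
    rcases List.mem_cons.1 hw with rfl | hw
    · have h2 : runW w (1 <<< b) = 1 <<< b := Nat.eq_of_beq_eq_true h1.1
      have h3 := congrArg (fun z => Nat.testBit z b) h2
      simp only [runW_testBit, testBit_one_shiftLeft, decide_true, decide_eq_true_eq] at h3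
      exact h3
    · exact ih h1.2 w hw

theorem fix_C0 : fixT LC 0 = true := by decide +kernel
theorem fix_J1 : fixT LJ 1 = true := by decide +kernel
theorem fix_U2 : fixT LU 2 = true := by decide +kernel
theorem fix_S730 : fixT LS 730 = true := by decide +kernel

theorem gp_mono {L L' : List (List ℕ)} (h : ∀ w ∈ L, w ∈ L') : gp L ≤ gp L' :=
  gp_le fun w hw => rho_mem_gp (h w hw)

theorem rho_letter_mem {L : List (List ℕ)} {k : ℕ} (h : [k] ∈ L) : rho [k] ∈ gp L := rho_mem_gp h

theorem M1_le : gp LC ≤ fixPt (gp LK) 0 :=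
  gp_le fun w hw => ⟨rho_mem_gp (by unfold LC at hw; unfold LK; simp at hw ⊢; tauto), fixT_spec fix_C0 w hw⟩

theorem M2_le : gp LJ ≤ fixPt (gp LC) 1 :=
  gp_le fun w hw => ⟨rho_mem_gp (by unfold LJ at hw; unfold LC; simp at hw ⊢; tauto), fixT_spec fix_J1 w hw⟩

theorem M3_le : gp LU ≤ fixPt (gp LJ) 2 :=
  gp_le fun w hw => ⟨rho_mem_gp (by unfold LU at hw; unfold LJ; simp at hw ⊢; tauto), fixT_spec fix_U2 w hw⟩

theorem mem_gp_word {L : List (List ℕ)} : ∀ (w : List ℕ), (∀ k ∈ w, rho [k] ∈ gp L) → rho w ∈ gp L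
  | [], _ => by rw [rho_nil]; exact one_mem _
  | k :: w, h => by
    rw [rho_cons, ← rho_single]
    exact mul_mem (h k List.mem_cons_self) (mem_gp_word w fun j hj => h j (List.mem_cons_of_mem _ hj))

theorem X_mem {L : List (List ℕ)} (h : [2] ∈ L) : rho [3] ∈ gp L := by
  have := rho_invL 2
  rw [show invL 2 = 3 from rfl] at this
  rw [this]
  exact inv_mem (rho_mem_gp h)

theorem Y_mem {L : List (List ℕ)} (h : [4] ∈ L) : rho [5] ∈ gp L := by
  have := rho_invL 4
  rw [show invL 4 = 5 from rfl] at this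
  rw [this]
  exact inv_mem (rho_mem_gp h)

theorem M4_le : gp LS ≤ fixPt (gp LU) 730 := by
  refine gp_le fun w hw => ⟨?_, fixT_spec fix_S730 w hw⟩
  apply mem_gp_word
  intro k hk
  have hk' : k = 7 ∨ k = 2 ∨ k = 4 ∨ k = 6 ∨ k = 5 ∨ k = 3 := by
    unfold LS at hw
    simp only [List.mem_cons, List.not_mem_nil, or_false] at hw
    rcases hw with rfl | rfl <;> simp at hk <;> tauto
  rcases hk' with rfl | rfl | rfl | rfl | rfl | rfl
  · exact rho_mem_gp (by simp [LU])
  · exact rho_mem_gp (by simp [LU])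
  · exact rho_mem_gp (by simp [LU])
  · exact rho_mem_gp (by simp [LU])
  · exact Y_mem (by simp [LU])
  · exact X_mem (by simp [LU])

theorem finite_of_fix (H : Subgroup (Equiv.Perm ℕ)) (B : ℕ) (h : ∀ g ∈ H, ∀ i, B ≤ i → g i = i) : Finite H := by
  refine Finite.of_injective (β := Fin B → Fin B)
    (fun g i => ⟨(g : Equiv.Perm ℕ) i, lt_of_fix_ge (h g g.2) i.2⟩) ?_
  intro g g' hgg
  apply Subtype.ext
  ext i
  rcases lt_or_ge i B with hi | hi
  · have h1 := congrFun hgg ⟨i, hi⟩
    exact congrArg Fin.val h1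
  · rw [h g g.2 i hi, h g' g'.2 i hi]

theorem fix_ge (w : List ℕ) (i : ℕ) (hi : 2 ^ 13 ≤ i) : rho w i = i := by
  rw [← netPerm_netW]
  unfold netW
  induction w generalizing i with
  | nil => rfl
  | cons k w ih =>
    rw [List.map_cons, List.flatten_cons, netPerm_append, Equiv.Perm.mul_apply, ih i hi,
      netPerm_of_ge (okOf k) hi]

theorem gp_fix {L : List (List ℕ)} {g : Equiv.Perm ℕ} (hg : g ∈ gp L) (i : ℕ) (hi : 2 ^ 13 ≤ i) : g i = i := by
  unfold gp at hg
  induction hg using Subgroup.closure_induction with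
  | mem x hx => obtain ⟨w, _, rfl⟩ := hx; exact fix_ge w i hi
  | one => rfl
  | mul a b _ _ ha hb => rw [Equiv.Perm.mul_apply, hb, ha]
  | inv a _ ha => rw [Equiv.Perm.inv_eq_iff_eq, ha]

instance (L : List (List ℕ)) : Finite (gp L) := finite_of_fix _ _ fun _ hg i hi => gp_fix hg i hi

instance (L : List (List ℕ)) (b : ℕ) : Finite (fixPt (gp L) b) :=
  Finite.of_injective _ (Subgroup.inclusion_injective (fixPt_le (gp L) b))

theorem chain_lower {H H' : Subgroup (Equiv.Perm ℕ)} [Finite H] {b n m : ℕ} (hle : H' ≤ fixPt H b)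
    (ho : n ≤ (MulAction.orbit H b).ncard) (hm : m ≤ Nat.card H') : n * m ≤ Nat.card H := by
  have hf : Finite (fixPt H b) := Finite.of_injective _ (Subgroup.inclusion_injective (fixPt_le H b))
  rw [card_eq_orbit_mul H b]
  exact Nat.mul_le_mul ho (hm.trans (Subgroup.card_le_of_le hle))

theorem chain_eq {H H' : Subgroup (Equiv.Perm ℕ)} [Finite H] {b n m : ℕ} (hle : H' ≤ fixPt H b)
    (ho : n ≤ (MulAction.orbit H b).ncard) (hn : 0 < n) (hm : m ≤ Nat.card H') (hub : Nat.card H ≤ n * m) :
    fixPt H b = H' ∧ Nat.card H' ≤ m := by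
  have hf : Finite (fixPt H b) := Finite.of_injective _ (Subgroup.inclusion_injective (fixPt_le H b))
  have h1 : Nat.card (fixPt H b) ≤ m := by
    have h2 : n * Nat.card (fixPt H b) ≤ n * m :=
      (Nat.mul_le_mul_right _ ho).trans ((card_eq_orbit_mul H b).symm.le.trans hub)
    exact Nat.le_of_mul_le_mul_left h2 hn
  refine ⟨(Subgroup.eq_of_le_of_card_ge hle (h1.trans hm)).symm, (Subgroup.card_le_of_le hle).trans h1⟩

theorem six_le : 6 ≤ Nat.card (gp LS) := by
  have h := chain_lower (H := gp LS) (H' := ⊥) (b := 4) (n := 6) (m := 1) bot_le (orbT_spec orb4 _ le_rfl)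
    (by simp)
  simpa using h

theorem l3 : 2016 * 6 ≤ Nat.card (gp LU) := chain_lower M4_le (orbT_spec orb3 _ le_rfl) six_le
theorem l2 : 100 * (2016 * 6) ≤ Nat.card (gp LJ) := chain_lower M3_le (orbT_spec orb2 _ le_rfl) l3
theorem l1 : 416 * (100 * (2016 * 6)) ≤ Nat.card (gp LC) := chain_lower M2_le (orbT_spec orb1 _ le_rfl) l2
theorem l0 : 5346 * (416 * (100 * (2016 * 6))) ≤ Nat.card (gp LK) := chain_lower M1_le (orbT_spec orb0 _ le_rfl) l1

/-- The order of `K` is at least `2 |3.Suz|`. -/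
theorem card_K_ge : 2690072985600 ≤ Nat.card (gp LK) := by
  have := l0
  norm_num at this
  exact this

section upper

variable (hub : Nat.card (gp LK) ≤ 2690072985600)
include hub

theorem chain_all : fixPt (gp LK) 0 = gp LC ∧ fixPt (gp LC) 1 = gp LJ ∧ fixPt (gp LJ) 2 = gp LU ∧
    fixPt (gp LU) 730 = gp LS ∧ fixPt (gp LS) 4 = ⊥ := by
  obtain ⟨e0, c0⟩ := chain_eq (n := 5346) M1_le (orbT_spec orb0 _ le_rfl) (by norm_num) l1 (by norm_num; exact hub)
  obtain ⟨e1, c1⟩ := chain_eq (n := 416) M2_le (orbT_spec orb1 _ le_rfl) (by norm_num) l2 c0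
  obtain ⟨e2, c2⟩ := chain_eq (n := 100) M3_le (orbT_spec orb2 _ le_rfl) (by norm_num) l3 c1
  obtain ⟨e3, c3⟩ := chain_eq (n := 2016) M4_le (orbT_spec orb3 _ le_rfl) (by norm_num) six_le c2
  obtain ⟨e4, _⟩ := chain_eq (n := 6) (H' := ⊥) bot_le (orbT_spec orb4 _ le_rfl) (by norm_num) (m := 1)
    (by simp) c3
  exact ⟨e0, e1, e2, e3, e4⟩

/-- Elements of `K` fixing the five base points are trivial. -/
theorem base_one {g : Equiv.Perm ℕ} (hg : g ∈ gp LK) (h0 : g 0 = 0) (h1 : g 1 = 1) (h2 : g 2 = 2)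
    (h3 : g 730 = 730) (h4 : g 4 = 4) : g = 1 := by
  obtain ⟨e0, e1, e2, e3, e4⟩ := chain_all hub
  have g1 : g ∈ gp LC := by rw [← e0]; exact ⟨hg, h0⟩
  have g2 : g ∈ gp LJ := by rw [← e1]; exact ⟨g1, h1⟩
  have g3 : g ∈ gp LU := by rw [← e2]; exact ⟨g2, h2⟩
  have g4 : g ∈ gp LS := by rw [← e3]; exact ⟨g3, h3⟩
  have g5 : g ∈ (⊥ : Subgroup (Equiv.Perm ℕ)) := by rw [← e4]; exact ⟨g4, h4⟩
  exact Subgroup.mem_bot.1 g5

theorem stab_zero {g : Equiv.Perm ℕ} (hg : g ∈ gp LK) (h0 : g 0 = 0) : g ∈ gp LC := by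
  rw [← (chain_all hub).1]
  exact ⟨hg, h0⟩

end upper

/-! ### tests of words -/

/-- kernel test: all letters are below `11` -/
noncomputable def okW (u : List ℕ) : Bool :=
  @List.rec ℕ (fun _ => Bool) true (fun k _ ih => and (Nat.blt k 11) ih) u

theorem okW_iff {u : List ℕ} : okW u = true ↔ ∀ k ∈ u, k < 11 := by
  induction u with
  | nil => simp [okW]
  | cons a u ih =>
    have e : okW (a :: u) = and (Nat.blt a 11) (okW u) := rfl
    have e2 : Nat.blt a 11 = true ↔ a < 11 := by
      unfold Nat.blt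
      exact ⟨fun h => Nat.le_of_ble_eq_true h, fun h => Nat.ble_eq_true_of_le h⟩
    rw [e, Bool.and_eq_true, ih, e2]
    simp

/-- kernel test: all letters are letters of `C` -/
noncomputable def cW (u : List ℕ) : Bool :=
  @List.rec ℕ (fun _ => Bool) true (fun k _ ih => and (Nat.blt k 10) ih) u

theorem cW_iff {u : List ℕ} : cW u = true ↔ ∀ k ∈ u, k < 10 := by
  induction u with
  | nil => simp [cW]
  | cons a u ih =>
    have e : cW (a :: u) = and (Nat.blt a 10) (cW u) := rfl
    have e2 : Nat.blt a 10 = true ↔ a < 10 := by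
      unfold Nat.blt
      exact ⟨fun h => Nat.le_of_ble_eq_true h, fun h => Nat.ble_eq_true_of_le h⟩
    rw [e, Bool.and_eq_true, ih, e2]
    simp

theorem okW_of_cW {u : List ℕ} (h : cW u = true) : okW u = true :=
  okW_iff.2 fun k hk => lt_trans (cW_iff.1 h k hk) (by norm_num)

theorem okW_append {u v : List ℕ} (hu : okW u = true) (hv : okW v = true) : okW (u ++ v) = true := by
  rw [okW_iff] at *
  intro k hk
  rcases List.mem_append.1 hk with h | h
  · exact hu k h
  · exact hv k h

theorem invL_lt {k : ℕ} (h : k < 11) : invL k < 11 := by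
  unfold invL
  split_ifs <;> omega

theorem okW_invW {u : List ℕ} (hu : okW u = true) : okW (invW u) = true := by
  rw [okW_iff] at *
  intro k hk
  unfold invW at hk
  rw [List.mem_reverse, List.mem_map] at hk
  obtain ⟨j, hj, rfl⟩ := hk
  exact invL_lt (hu j hj)

theorem rho_mem (w : List ℕ) : rho w ∈ gp LK := by
  apply mem_gp_word
  intro k _
  by_cases hk : k < 11
  · interval_cases k
    · exact rho_mem_gp (by simp [LK])
    · exact rho_mem_gp (by simp [LK])
    · exact rho_mem_gp (by simp [LK])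
    · exact X_mem (by simp [LK])
    · exact rho_mem_gp (by simp [LK])
    · exact Y_mem (by simp [LK])
    · exact rho_mem_gp (by simp [LK])
    · exact rho_mem_gp (by simp [LK])
    · exact rho_mem_gp (by simp [LK])
    · exact rho_mem_gp (by simp [LK])
    · exact rho_mem_gp (by simp [LK])
  · have h2 : rho [k] = 1 := by
      rw [rho_single]
      unfold netOf
      rw [List.getD_eq_default _ _ (by have : NL.length = 11 := rfl; omega)]
      rfl
    rw [h2]
    exact one_mem _

/-- elements generated by words are words -/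
theorem exists_word {L : List (List ℕ)} {P : List ℕ → Prop} (hL : ∀ w ∈ L, P w) (h1 : P [])
    (hm : ∀ u v, P u → P v → P (u ++ v)) (hi : ∀ u, P u → P (invW u)) {g : Equiv.Perm ℕ} (hg : g ∈ gp L) :
    ∃ u, P u ∧ rho u = g := by
  unfold gp at hg
  induction hg using Subgroup.closure_induction with
  | mem x hx => obtain ⟨w, hw, rfl⟩ := hx; exact ⟨w, hL w hw, rfl⟩
  | one => exact ⟨[], h1, rfl⟩
  | mul a b _ _ ha hb =>
    obtain ⟨u, hu, rfl⟩ := ha
    obtain ⟨v, hv, rfl⟩ := hb
    exact ⟨u ++ v, hm u v hu hv, rho_append u v⟩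
  | inv a _ ha =>
    obtain ⟨u, hu, rfl⟩ := ha
    exact ⟨invW u, hi u hu, rho_invW u⟩

/-- third label plane -/
def B2 : ℕ := Nat.add (Nat.pow 2 730) 16

/-- kernel test of equality of words by labelled base points -/
noncomputable def chk (u v : List ℕ) : Bool :=
  and (and (okW u) (okW v)) (and (Nat.beq (runW u 21) (runW v 21))
    (and (Nat.beq (runW u 6) (runW v 6)) (Nat.beq (runW u B2) (runW v B2))))

theorem tb21 (m : ℕ) : (21 : ℕ).testBit m = true ↔ m = 0 ∨ m = 2 ∨ m = 4 := by
  by_cases h : m < 5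
  · interval_cases m <;> decide
  · rw [Nat.testBit_lt_two_pow (lt_of_lt_of_le (by norm_num : 21 < 2 ^ 5) (Nat.pow_le_pow_right (by norm_num) (by omega)))]
    simp; omega

theorem tb6 (m : ℕ) : (6 : ℕ).testBit m = true ↔ m = 1 ∨ m = 2 := by
  by_cases h : m < 3
  · interval_cases m <;> decide
  · rw [Nat.testBit_lt_two_pow (lt_of_lt_of_le (by norm_num : 6 < 2 ^ 3) (Nat.pow_le_pow_right (by norm_num) (by omega)))]
    simp; omega

theorem tbB2 (m : ℕ) : B2.testBit m = true ↔ m = 730 ∨ m = 4 := by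
  have e : B2 = 2 ^ 730 + 2 ^ 4 := rfl
  rw [e]
  by_cases h : m = 730
  · subst h
    have h16 : (2 ^ 4 : ℕ).testBit 730 = false :=
      Nat.testBit_lt_two_pow (Nat.pow_lt_pow_right (by norm_num) (by norm_num))
    rw [Nat.testBit_two_pow_add_eq, h16]
    simp
  · rcases lt_or_gt_of_ne h with h1 | h1
    · rw [Nat.testBit_two_pow_add_gt h1, Nat.testBit_two_pow]
      simp only [decide_eq_true_eq]
      omega
    · rw [Nat.testBit_lt_two_pow]
      · simp; omega
      · have h2 : 2 ^ 731 ≤ 2 ^ m := Nat.pow_le_pow_right (by norm_num) h1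
        have h3 : 2 ^ 4 < 2 ^ 730 := Nat.pow_lt_pow_right (by norm_num) (by norm_num)
        have h4 : 2 ^ 731 = 2 ^ 730 + 2 ^ 730 := by rw [pow_succ]; ring
        omega

theorem label {m j : ℕ} (hj : j = 0 ∨ j = 1 ∨ j = 2 ∨ j = 730 ∨ j = 4)
    (h1 : (21 : ℕ).testBit m = (21 : ℕ).testBit j) (h2 : (6 : ℕ).testBit m = (6 : ℕ).testBit j)
    (h3 : B2.testBit m = B2.testBit j) : m = j := by
  have a1 : (m = 0 ∨ m = 2 ∨ m = 4) ↔ (j = 0 ∨ j = 2 ∨ j = 4) := by rw [← tb21, ← tb21, h1]
  have a2 : (m = 1 ∨ m = 2) ↔ (j = 1 ∨ j = 2) := by rw [← tb6, ← tb6, h2]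
  have a3 : (m = 730 ∨ m = 4) ↔ (j = 730 ∨ j = 4) := by rw [← tbB2, ← tbB2, h3]
  omega

theorem okW_of_chk {u v : List ℕ} (h : chk u v = true) : okW u = true ∧ okW v = true := by
  unfold chk at h
  simp only [Bool.and_eq_true] at h
  exact h.1

theorem chk_spec (hub : Nat.card (gp LK) ≤ 2690072985600) {u v : List ℕ} (h : chk u v = true) :
    rho u = rho v := by
  unfold chk at h
  simp only [Bool.and_eq_true] at h
  obtain ⟨_, h1, h2, h3⟩ := h
  have e1 := Nat.eq_of_beq_eq_true h1
  have e2 := Nat.eq_of_beq_eq_true h2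
  have e3 := Nat.eq_of_beq_eq_true h3
  have key : ∀ B : ℕ, runW u B = runW v B → ∀ m, B.testBit ((rho u * (rho v)⁻¹) m) = B.testBit m := by
    intro B hB m
    have h4 := congrArg (fun z => Nat.testBit z ((rho v)⁻¹ m)) hB
    simp only [runW_testBit] at h4
    rw [Equiv.Perm.mul_apply, h4, ← Equiv.Perm.mul_apply, mul_inv_cancel, Equiv.Perm.one_apply]
  have hf : ∀ j, (j = 0 ∨ j = 1 ∨ j = 2 ∨ j = 730 ∨ j = 4) → (rho u * (rho v)⁻¹) j = j := fun j hj =>
    label hj (key _ e1 j) (key _ e2 j) (key _ e3 j)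
  have hg : rho u * (rho v)⁻¹ ∈ gp LK := mul_mem (rho_mem u) (inv_mem (rho_mem v))
  have := base_one hub hg (hf 0 (by simp)) (hf 1 (by simp)) (hf 2 (by simp)) (hf 730 (by simp)) (hf 4 (by simp))
  exact mul_inv_eq_one.1 this

/-! ### coverings of the 5346 points -/

/-- kernel test: all nets fix the points from 5346 on -/
noncomputable def hiT (l : List Net) : Bool :=
  @List.rec Net (fun _ => Bool) true (fun n _ ih => and (fixHi 13 5346 n 13) ih) l

theorem hiT_spec {l : List Net} (h : hiT l = true) : ∀ n ∈ l, fixHi 13 5346 n 13 = true := by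
  induction l with
  | nil => intro n hn; simp at hn
  | cons a l ih =>
    have h1 : and (fixHi 13 5346 a 13) (hiT l) = true := h
    rw [Bool.and_eq_true] at h1
    intro n hn
    rcases List.mem_cons.1 hn with rfl | hn
    · exact h1.1
    · exact ih h1.2 n hn

theorem hi_NL : hiT NL = true := by decide +kernel

theorem netOf_hi (k i : ℕ) (hi : 5346 ≤ i) : netPerm (netOf k) i = i := by
  by_cases h : k < NL.length
  · have h1 : netOf k ∈ NL := by
      unfold netOf
      rw [List.getD_eq_getElem _ _ h]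
      exact List.getElem_mem h
    exact fixHi_spec (okOf k) (hiT_spec hi_NL _ h1) hi
  · unfold netOf
    rw [List.getD_eq_default _ _ (by omega)]
    rfl

theorem rho_hi (w : List ℕ) (i : ℕ) (hi : 5346 ≤ i) : rho w i = i := by
  induction w with
  | nil => rfl
  | cons k w ih => rw [rho_cons, Equiv.Perm.mul_apply, ih, netOf_hi k i hi]

theorem rho_lt (w : List ℕ) (i : ℕ) (hi : i < 5346) : rho w i < 5346 :=
  lt_of_fix_ge (fun j hj => rho_hi w j hj) hi

/-- one sweep through the words -/
noncomputable def bfsW (S : List (List ℕ)) : ℕ → ℕ :=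
  @List.rec (List ℕ) (fun _ => ℕ → ℕ) (fun x => x) (fun w _ ih x => force (Nat.lor x (runW w x)) ih) S

theorem bfsW_cons (w : List ℕ) (S : List (List ℕ)) (x : ℕ) : bfsW (w :: S) x = bfsW S (x ||| runW w x) :=
  force_eq (Nat.lor x (runW w x)) (bfsW S)

/-- repeated sweeps -/
noncomputable def roundsW (S : List (List ℕ)) (r : ℕ) : ℕ → ℕ :=
  @Nat.rec (fun _ => ℕ → ℕ) (fun x => x) (fun _ ih x => force (bfsW S x) ih) r

theorem roundsW_succ (S : List (List ℕ)) (r x : ℕ) : roundsW S (r + 1) x = roundsW S r (bfsW S x) :=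
  force_eq (bfsW S x) (roundsW S r)

/-- start set: the points `rho a 0` -/
noncomputable def startW (A : List (List ℕ)) : ℕ :=
  @List.rec (List ℕ) (fun _ => ℕ) 0 (fun a _ ih => Nat.lor (runW (invW a) 1) ih) A

/-- kernel test of a covering -/
noncomputable def coverT (A S : List (List ℕ)) (r : ℕ) : Bool :=
  Nat.beq (Nat.land (roundsW S r (startW A)) (Nat.sub (Nat.pow 2 5346) 1)) (Nat.sub (Nat.pow 2 5346) 1)

theorem bfsW_spec {S : List (List ℕ)} {O : Set ℕ} (hO : ∀ w ∈ S, ∀ i, rho w i ∈ O → i ∈ O) {x : ℕ}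
    (hx : ∀ i, x.testBit i = true → i ∈ O) (i : ℕ) (hi : (bfsW S x).testBit i = true) : i ∈ O := by
  induction S generalizing x with
  | nil => exact hx i hi
  | cons n ns ih =>
    rw [bfsW_cons] at hi
    refine ih (fun m hm => hO m (List.mem_cons_of_mem _ hm)) ?_ hi
    intro j hj
    rw [Nat.testBit_lor, Bool.or_eq_true] at hj
    rcases hj with hj | hj
    · exact hx j hj
    · rw [runW_testBit] at hj
      exact hO n List.mem_cons_self j (hx _ hj)

theorem roundsW_spec {S : List (List ℕ)} {O : Set ℕ} (hO : ∀ w ∈ S, ∀ i, rho w i ∈ O → i ∈ O) (r : ℕ) {x : ℕ}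
    (hx : ∀ i, x.testBit i = true → i ∈ O) (i : ℕ) (hi : (roundsW S r x).testBit i = true) : i ∈ O := by
  induction r generalizing x with
  | zero => exact hx i hi
  | succ r ih =>
    rw [roundsW_succ] at hi
    exact ih (fun j hj => bfsW_spec hO hx j hj) hi

theorem startW_spec {A : List (List ℕ)} {i : ℕ} (h : (startW A).testBit i = true) : ∃ a ∈ A, i = rho a 0 := by
  induction A with
  | nil =>
    have : (0 : ℕ).testBit i = true := h
    simp at this
  | cons a A ih =>
    have h1 : (runW (invW a) 1 ||| startW A).testBit i = true := h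
    rw [Nat.testBit_lor, Bool.or_eq_true] at h1
    rcases h1 with h1 | h1
    · refine ⟨a, List.mem_cons_self, ?_⟩
      rw [runW_testBit, rho_invW] at h1
      have h2 : (rho a)⁻¹ i = 0 := by
        by_contra hne
        rw [Nat.testBit_lt_two_pow (Nat.one_lt_two_pow hne)] at h1
        exact absurd h1 (by simp)
      rw [← h2, ← Equiv.Perm.mul_apply, mul_inv_cancel, Equiv.Perm.one_apply]
    · obtain ⟨b, hb, e⟩ := ih h1
      exact ⟨b, List.mem_cons_of_mem _ hb, e⟩

/-- every point is `s (rho a 0)` with `s` generated by `S` and `a ∈ A` -/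
theorem coverT_spec {A S : List (List ℕ)} {r : ℕ} (h : coverT A S r = true) {i : ℕ} (hi : i < 5346) :
    ∃ s ∈ gp S, ∃ a ∈ A, i = s (rho a 0) := by
  have h1 : (roundsW S r (startW A)) &&& (2 ^ 5346 - 1) = 2 ^ 5346 - 1 := Nat.eq_of_beq_eq_true h
  have h2 : ((roundsW S r (startW A)) &&& (2 ^ 5346 - 1)).testBit i = true := by
    rw [h1, Nat.testBit_two_pow_sub_one]
    simp [hi]
  rw [Nat.testBit_and, Bool.and_eq_true] at h2
  refine roundsW_spec (S := S) (O := {i | ∃ s ∈ gp S, ∃ a ∈ A, i = s (rho a 0)}) ?_ r (x := startW A) ?_ i h2.1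
  · rintro w hw j ⟨s, hs, a, ha, e⟩
    refine ⟨(rho w)⁻¹ * s, mul_mem (inv_mem (rho_mem_gp hw)) hs, a, ha, ?_⟩
    rw [Equiv.Perm.mul_apply, ← e, ← Equiv.Perm.mul_apply, inv_mul_cancel, Equiv.Perm.one_apply]
  · intro j hj
    obtain ⟨a, ha, e⟩ := startW_spec hj
    exact ⟨1, one_mem _, a, ha, e⟩

end Cfsg.Agent.CoOneType.SuzPerm
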