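import Cfsg.Agent.CoOneType.Chain
import Cfsg.Agent.CoOneType.SuzPerm

/-!
# The word oracle of `K = 3·Suz:2`

For letters `L : ℕ → G` satisfying the relations (`Chain.Let L`, order of letters `s t x x⁻¹ y y⁻¹ g h f e d`)
two words are equal in `G` as soon as they act equally on five base points of the 5346 points (`eq_of_chk`), and the
elements of `K` are covered by `⟨S⟩ A C` as soon as the points `a C` are moved over all points by `S` (`cover`).
-/

set_option autoImplicit false
set_option maxRecDepth 100000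

namespace Cfsg.Agent.CoOneType.KOracle

open Cfsg.Agent.SporadicRecognition.CosetCert Cfsg.Agent.CoOneType.Chain Cfsg.Agent.CoOneType.SuzPerm
open Cfsg.Agent.SporadicB.PermNet

theorem rels_rho : relsT TSuzData.rels = true := by decide +kernel

theorem ev_rho (w : List ℕ) : ev (fun n => rho [n]) w = rho w := by
  induction w with
  | nil => rfl
  | cons a w ih => rw [ev_cons, ih, ← rho_append, List.singleton_append]

theorem invL_eq (n : ℕ) (hn : n < 11) : Chain.invL n = SuzPerm.invL n := by
  interval_cases n <;> rfl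

theorem invL_lt11 (n : ℕ) (hn : n < 11) : Chain.invL n < 11 := by
  rw [invL_eq n hn]
  exact SuzPerm.invL_lt hn

theorem let_rho : Let (fun n => rho [n]) where
  inv n hn := by
    show rho [n] * rho [Chain.invL n] = 1
    rw [invL_eq n hn, rho_invL, mul_inv_cancel]
  rel r hr := by
    rw [ev_rho]
    exact relsT_spec rels_rho r hr

theorem closure_rho : Subgroup.closure ((fun n => rho [n]) '' {x | x < 11}) = gp LK := by
  apply le_antisymm
  · rw [Subgroup.closure_le]
    rintro _ ⟨n, _, rfl⟩
    exact rho_mem [n]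
  · apply gp_le
    intro w hw
    have h : ∀ k, k < 11 → rho [k] ∈ Subgroup.closure ((fun n => rho [n]) '' {x | x < 11}) :=
      fun k hk => Subgroup.subset_closure ⟨k, hk, rfl⟩
    unfold LK at hw
    simp only [List.mem_cons, List.not_mem_nil, or_false] at hw
    rcases hw with rfl | rfl | rfl | rfl | rfl | rfl | rfl | rfl | rfl <;> exact h _ (by norm_num)

theorem hub : Nat.card (gp LK) ≤ 2690072985600 := by
  rw [← closure_rho]
  exact (suz_le let_rho).2

section general

variable {G : Type*} [Group G] {L : ℕ → G}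

theorem inv_letter (H : Let L) {n : ℕ} (hn : n < 11) : L (SuzPerm.invL n) = (L n)⁻¹ := by
  rw [← invL_eq n hn]
  exact (inv_eq_of_mul_eq_one_right (H.inv n hn)).symm

theorem ev_single' (n : ℕ) : ev L [n] = L n := by rw [ev_cons, ev_nil, mul_one]

theorem ev_invW (H : Let L) {w : List ℕ} (hw : okW w = true) : ev L (invW w) = (ev L w)⁻¹ := by
  rw [okW_iff] at hw
  unfold invW
  induction w with
  | nil => simp [ev_nil]
  | cons k w ih =>
    rw [List.map_cons, List.reverse_cons, ev_append, ih (fun j hj => hw j (List.mem_cons_of_mem _ hj)), ev_single',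
      inv_letter H (hw k List.mem_cons_self), ev_cons, mul_inv_rev]

theorem ev_mem {m : ℕ} {w : List ℕ} (hw : ∀ k ∈ w, k < m) : ev L w ∈ Subgroup.closure (L '' {x | x < m}) := by
  induction w with
  | nil => rw [ev_nil]; exact one_mem _
  | cons k w ih =>
    rw [ev_cons]
    exact mul_mem (Subgroup.subset_closure ⟨k, hw k List.mem_cons_self, rfl⟩)
      (ih fun j hj => hw j (List.mem_cons_of_mem _ hj))

/-- Every element of the group generated by the letters is a word. -/
theorem exists_ev (H : Let L) {m : ℕ} (hm : m ≤ 11) (hinv : ∀ n < m, SuzPerm.invL n < m) {k : G}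
    (hk : k ∈ Subgroup.closure (L '' {x | x < m})) : ∃ w : List ℕ, (∀ j ∈ w, j < m) ∧ ev L w = k := by
  induction hk using Subgroup.closure_induction with
  | mem x hx =>
    obtain ⟨n, hn, rfl⟩ := hx
    exact ⟨[n], by simpa using hn, ev_single' n⟩
  | one => exact ⟨[], by simp, ev_nil _⟩
  | mul a b _ _ ha hb =>
    obtain ⟨u, hu, rfl⟩ := ha
    obtain ⟨v, hv, rfl⟩ := hb
    refine ⟨u ++ v, ?_, ev_append _ u v⟩
    intro j hj
    rcases List.mem_append.1 hj with h | h
    · exact hu j h
    · exact hv j h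
  | inv a _ ha =>
    obtain ⟨u, hu, rfl⟩ := ha
    refine ⟨invW u, ?_, ev_invW H (okW_iff.2 fun j hj => lt_of_lt_of_le (hu j hj) hm)⟩
    intro j hj
    unfold invW at hj
    rw [List.mem_reverse, List.mem_map] at hj
    obtain ⟨i, hi, rfl⟩ := hj
    exact hinv i (hu i hi)

theorem ev_pair (w : List ℕ) : ev (fun n => ((L n, rho [n]) : G × Equiv.Perm ℕ)) w = (ev L w, rho w) := by
  induction w with
  | nil => rfl
  | cons a w ih => rw [ev_cons, ih, ev_cons, Prod.mk_mul_mk, ← rho_append, List.singleton_append]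

/-- the letters paired with their permutations -/
theorem let_pair (H : Let L) : Let (fun n => ((L n, rho [n]) : G × Equiv.Perm ℕ)) := by
  have hev := ev_pair (L := L)
  constructor
  · intro n hn
    rw [Prod.mk_mul_mk]
    exact Prod.ext (H.inv n hn) (let_rho.inv n hn)
  · intro r hr
    rw [hev r]
    refine Prod.ext (H.rel r hr) ?_
    have := let_rho.rel r hr
    rw [ev_rho] at this
    exact this

/-- Words acting trivially on the points are trivial. -/
theorem ev_eq_one (H : Let L) {w : List ℕ} (hw : okW w = true) (h : rho w = 1) : ev L w = 1 := by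
  obtain ⟨hfin, hcard⟩ := suz_le (let_pair H)
  set P : ℕ → G × Equiv.Perm ℕ := fun n => (L n, rho [n]) with hP
  set Q : Subgroup (G × Equiv.Perm ℕ) := Subgroup.closure (P '' {x | x < 11}) with hQ
  have hmap : Q.map (MonoidHom.snd G (Equiv.Perm ℕ)) = gp LK := by
    rw [hQ, MonoidHom.map_closure, ← Set.image_comp]
    have h2 : (⇑(MonoidHom.snd G (Equiv.Perm ℕ)) ∘ P) = fun n => rho [n] := rfl
    rw [h2, closure_rho]
  let f : Q →* gp LK := ((MonoidHom.snd G (Equiv.Perm ℕ)).comp Q.subtype).codRestrict (gp LK) (by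
    intro q
    have h1 : (MonoidHom.snd G (Equiv.Perm ℕ)) q.1 ∈ Q.map (MonoidHom.snd G (Equiv.Perm ℕ)) :=
      Subgroup.mem_map_of_mem _ q.2
    rw [hmap] at h1
    exact h1)
  have hsurj : Function.Surjective f := by
    rintro ⟨y, hy⟩
    have h1 : y ∈ Q.map (MonoidHom.snd G (Equiv.Perm ℕ)) := by
      rw [hmap]
      exact hy
    obtain ⟨q, hq, rfl⟩ := h1
    exact ⟨⟨q, hq⟩, rfl⟩
  have hinj : Function.Injective f := by
    have hc : Nat.card Q = Nat.card (gp LK) :=
      le_antisymm (hcard.trans card_K_ge) (Nat.card_le_card_of_surjective f hsurj)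
    exact ((Nat.bijective_iff_surjective_and_card f).2 ⟨hsurj, hc⟩).1
  have hm : ev P w ∈ Q := ev_mem (okW_iff.1 hw)
  have h1 : (⟨ev P w, hm⟩ : Q) = 1 := by
    apply hinj
    rw [map_one]
    apply Subtype.ext
    show (ev P w).2 = 1
    rw [hP, ev_pair]
    exact h
  have h2 := congrArg Subtype.val h1
  have h3 : ev P w = 1 := h2
  rw [hP, ev_pair] at h3
  exact congrArg Prod.fst h3

theorem ev_eq (H : Let L) {u v : List ℕ} (hu : okW u = true) (hv : okW v = true) (h : rho u = rho v) :
    ev L u = ev L v := by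
  have h1 := ev_eq_one H (okW_append (okW_invW hv) hu) (by rw [rho_append, rho_invW, h, inv_mul_cancel])
  rw [ev_append, ev_invW H hv, inv_mul_eq_one] at h1
  exact h1.symm

/-- **Equality of words by five base points.** -/
theorem eq_of_chk (H : Let L) {u v : List ℕ} (h : chk u v = true) : ev L u = ev L v :=
  ev_eq H (okW_of_chk h).1 (okW_of_chk h).2 (chk_spec hub h)

theorem gp_sub (H : Let L) {S : List (List ℕ)} (hS : ∀ w ∈ S, okW w = true) {g : Equiv.Perm ℕ} (hg : g ∈ gp S) :
    ∃ w, okW w = true ∧ rho w = g ∧ ev L w ∈ Subgroup.closure (ev L '' {w | w ∈ S}) := by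
  unfold gp at hg
  induction hg using Subgroup.closure_induction with
  | mem x hx =>
    obtain ⟨w, hw, rfl⟩ := hx
    exact ⟨w, hS w hw, rfl, Subgroup.subset_closure ⟨w, hw, rfl⟩⟩
  | one => exact ⟨[], rfl, rfl, by rw [ev_nil]; exact one_mem _⟩
  | mul a b _ _ ha hb =>
    obtain ⟨u, hu, rfl, hu2⟩ := ha
    obtain ⟨v, hv, rfl, hv2⟩ := hb
    exact ⟨u ++ v, okW_append hu hv, rho_append u v, by rw [ev_append]; exact mul_mem hu2 hv2⟩
  | inv a _ ha =>
    obtain ⟨u, hu, rfl, hu2⟩ := ha
    exact ⟨invW u, okW_invW hu, rho_invW u, by rw [ev_invW H hu]; exact inv_mem hu2⟩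

/-- A word fixing the point `0` lies in `C`. -/
theorem mem_C_of_fix (H : Let L) {w : List ℕ} (hw : okW w = true) (h : rho w 0 = 0) :
    ev L w ∈ Subgroup.closure (L '' {x | x < 10}) := by
  have h1 := stab_zero hub (rho_mem w) h
  obtain ⟨u, hu, e⟩ := exists_word (L := LC) (P := fun u => ∀ k ∈ u, k < 10) (by
    intro w hw
    unfold LC at hw
    simp only [List.mem_cons, List.not_mem_nil, or_false] at hw
    rcases hw with rfl | rfl | rfl | rfl | rfl | rfl | rfl | rfl <;> simp) (by simp) (by
      intro u v hu hv k hk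
      rcases List.mem_append.1 hk with h | h
      · exact hu k h
      · exact hv k h) (by
      intro u hu k hk
      unfold invW at hk
      rw [List.mem_reverse, List.mem_map] at hk
      obtain ⟨j, hj, rfl⟩ := hk
      have := hu j hj
      interval_cases j <;> decide) h1
  rw [ev_eq H hw (okW_iff.2 fun k hk => lt_trans (hu k hk) (by norm_num)) e.symm]
  exact ev_mem hu

/-- kernel test: all words have letters below `11` -/
noncomputable def okWs (S : List (List ℕ)) : Bool :=
  @List.rec (List ℕ) (fun _ => Bool) true (fun w _ ih => and (okW w) ih) S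

theorem okWs_spec {S : List (List ℕ)} (h : okWs S = true) : ∀ w ∈ S, okW w = true := by
  induction S with
  | nil => intro w hw; simp at hw
  | cons a S ih =>
    have h1 : and (okW a) (okWs S) = true := h
    rw [Bool.and_eq_true] at h1
    intro w hw
    rcases List.mem_cons.1 hw with rfl | hw
    · exact h1.1
    · exact ih h1.2 w hw

/-- kernel test of a covering `K = ⟨S⟩ A C` (`r` sweeps) -/
noncomputable def cov (S A : List (List ℕ)) (r : ℕ) : Bool :=
  and (and (okWs S) (okWs A)) (coverT A S r)

/-- **Coverage.** -/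
theorem cover (H : Let L) {S A : List (List ℕ)} {r : ℕ} (h : cov S A r = true) {k : G}
    (hk : k ∈ Subgroup.closure (L '' {x | x < 11})) :
    ∃ s ∈ Subgroup.closure (ev L '' {w | w ∈ S}), ∃ a ∈ A, ∃ c ∈ Subgroup.closure (L '' {x | x < 10}),
      k = s * ev L a * c := by
  unfold cov at h
  simp only [Bool.and_eq_true] at h
  obtain ⟨⟨hS, hA⟩, hc⟩ := h
  obtain ⟨w, hw, rfl⟩ := exists_ev H le_rfl (fun n hn => SuzPerm.invL_lt hn) hk
  obtain ⟨s, hs, a, ha, e⟩ := coverT_spec hc (rho_lt w 0 (by norm_num))
  obtain ⟨u, hu, rfl, hu2⟩ := gp_sub H (okWs_spec hS) hs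
  have ha' := okWs_spec hA a ha
  have hok : okW (invW a ++ (invW u ++ w)) = true :=
    okW_append (okW_invW ha') (okW_append (okW_invW hu) (okW_iff.2 hw))
  have hfix : rho (invW a ++ (invW u ++ w)) 0 = 0 := by
    rw [rho_append, rho_append, rho_invW, rho_invW, Equiv.Perm.mul_apply, Equiv.Perm.mul_apply, e]
    rw [← Equiv.Perm.mul_apply, ← Equiv.Perm.mul_apply]
    simp
  refine ⟨ev L u, hu2, a, ha, ev L (invW a ++ (invW u ++ w)), mem_C_of_fix H hok hfix, ?_⟩
  rw [ev_append, ev_append, ev_invW H ha', ev_invW H hu]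
  group

end general

end Cfsg.Agent.CoOneType.KOracle
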