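import Cfsg.Agent.CoOneType.AmalgamPerm
import Cfsg.Agent.S0206
import Cfsg.Agent.S0497
import Cfsg.Agent.S0848
import Cfsg.Agent.SmallSimple.Simple168Klein

/-!
# The group generated by an amalgam whose involution centraliser is dihedral of order eight

`main`: let `s, t, x, y` satisfy the relations `Amalgam z s t x y` in a group, let `M = ⟨s,t,x,y⟩` be finite and
`C_M(z) = ⟨s,t⟩`. Then `M` is simple of order 168 or 360, and `s, t, x, y` satisfy the additional relations
`(xy)⁵ = (xy⁻¹)⁴ = 1` (then `M ≅ A₆`) or `(xy)⁴ = (xy⁻¹)⁷ = 1` (then `M ≅ L₃(2)`) or the latter with `x^z` instead of `x`.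
-/

set_option autoImplicit false

namespace Cfsg.Agent.CoOneType.LThree

open Equiv Subgroup
open scoped Pointwise

variable {G : Type*} [Group G] {z s t x y : G}

theorem Amalgam.ts (h : Amalgam z s t x y) : t * s = z * (s * t) := by
  have h1 : s * t * (s * t) = z := h.hz
  have h2 : z * (s * t) * (s * t) = 1 := by rw [mul_assoc, h1, h.zz]
  have h3 : t * s * (s * t) = 1 := by
    rw [mul_assoc, ← mul_assoc s s t, h.ss, one_mul, h.tt]
  exact mul_right_cancel (h3.trans h2.symm)

/-- The elements of `⟨s,t⟩`. -/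
theorem Amalgam.cases (h : Amalgam z s t x y) {g : G} (hg : g ∈ closure ({s, t} : Set G)) :
    g = 1 ∨ g = z ∨ g = s ∨ g = z * s ∨ g = t ∨ g = z * t ∨ g = s * t ∨ g = z * (s * t) := by
  have hs := h.comm.1
  have ht := h.comm.2
  have hzz := h.zz
  have hss := h.ss
  have htt := h.tt
  have hts := h.ts
  have key : ∀ a ∈ ({s, t} : Set G), ∀ g : G,
      (g = 1 ∨ g = z ∨ g = s ∨ g = z * s ∨ g = t ∨ g = z * t ∨ g = s * t ∨ g = z * (s * t)) →
      (a * g = 1 ∨ a * g = z ∨ a * g = s ∨ a * g = z * s ∨ a * g = t ∨ a * g = z * t ∨ a * g = s * t ∨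
        a * g = z * (s * t)) := by
    rintro a (rfl | rfl) g (rfl | rfl | rfl | rfl | rfl | rfl | rfl | rfl)
    · right; right; left; rw [mul_one]
    · right; right; right; left; exact hs
    · left; exact hss
    · right; left; rw [← mul_assoc, hs, mul_assoc, hss, mul_one]
    · right; right; right; right; right; right; left; rfl
    · right; right; right; right; right; right; right; rw [← mul_assoc, hs, mul_assoc]
    · right; right; right; right; left; rw [← mul_assoc, hss, one_mul]
    · right; right; right; right; right; left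
      rw [← mul_assoc, hs, mul_assoc, ← mul_assoc _ _ t, hss, one_mul]
    · right; right; right; right; left; rw [mul_one]
    · right; right; right; right; right; left; exact ht
    · right; right; right; right; right; right; right; exact hts
    · right; right; right; right; right; right; left
      rw [← mul_assoc, ht, mul_assoc, hts, ← mul_assoc, hzz, one_mul]
    · left; exact htt
    · right; left; rw [← mul_assoc, ht, mul_assoc, htt, mul_one]
    · right; right; right; left
      rw [← mul_assoc, hts, mul_assoc, mul_assoc, htt, mul_one]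
    · right; right; left
      rw [← mul_assoc, ht, mul_assoc, ← mul_assoc a s a, hts, mul_assoc, mul_assoc, htt, mul_one, ← mul_assoc,
        hzz, one_mul]
  have hinv : ∀ a ∈ ({s, t} : Set G), a⁻¹ = a := by
    rintro a (rfl | rfl)
    · exact inv_eq_of_mul_eq_one_left hss
    · exact inv_eq_of_mul_eq_one_left htt
  induction hg using closure_induction_left with
  | one => left; rfl
  | mul_left a ha b hb ih => exact key a ha b ih
  | inv_mul_cancel a ha b hb ih => rw [hinv a ha]; exact key a ha b ih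

theorem Amalgam.st_ne (h : Amalgam z s t x y) : s * t ≠ 1 := by
  intro e
  apply h.z1
  rw [← h.hz, e, mul_one]

theorem Amalgam.s1 (h : Amalgam z s t x y) : s ≠ 1 := by
  intro e
  have h1 := h.zx
  rw [e, mul_one] at h1
  exact h.z1 (mul_eq_right.1 h1)

theorem Amalgam.t1 (h : Amalgam z s t x y) : t ≠ 1 := by
  intro e
  have h1 := h.zy
  rw [e, mul_one] at h1
  exact h.z1 (mul_eq_right.1 h1)

/-- `z ~ s` -/
theorem Amalgam.conj_s (h : Amalgam z s t x y) : x⁻¹ * z * x = s := by
  rw [mul_assoc, h.zx, inv_mul_cancel_left]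

theorem Amalgam.conj_t (h : Amalgam z s t x y) : y⁻¹ * z * y = t := by
  rw [mul_assoc, h.zy, inv_mul_cancel_left]

theorem Amalgam.conj_zs (h : Amalgam z s t x y) : x⁻¹ * s * x = z * s := by
  rw [mul_assoc, h.sx, inv_mul_cancel_left]

theorem Amalgam.conj_zt (h : Amalgam z s t x y) : y⁻¹ * t * y = z * t := by
  rw [mul_assoc, h.ty, inv_mul_cancel_left]

theorem Amalgam.zt_sq (h : Amalgam z s t x y) : z * t * (z * t) = 1 := by
  rw [mul_assoc, ← mul_assoc t z t, h.comm.2, mul_assoc z t t, h.tt, mul_one, h.zz]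

theorem Amalgam.zs_sq (h : Amalgam z s t x y) : z * s * (z * s) = 1 := by
  rw [mul_assoc, ← mul_assoc s z s, h.comm.1, mul_assoc z s s, h.ss, mul_one, h.zz]

/-- `x = [zt, x]` -/
theorem Amalgam.x_eq (h : Amalgam z s t x y) : x = (z * t) * x * (z * t)⁻¹ * x⁻¹ := by
  have h1 : (z * t)⁻¹ = z * t := inv_eq_of_mul_eq_one_left h.zt_sq
  have h2 : z * t * x * (z * t) = x⁻¹ := eq_inv_of_mul_eq_one_left h.ix
  rw [h1, h2, ← mul_inv_rev]
  exact eq_inv_of_mul_eq_one_left (by rw [← mul_assoc]; exact h.xxx)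

theorem Amalgam.y_eq (h : Amalgam z s t x y) : y = (z * s) * y * (z * s)⁻¹ * y⁻¹ := by
  have h1 : (z * s)⁻¹ = z * s := inv_eq_of_mul_eq_one_left h.zs_sq
  have h2 : z * s * y * (z * s) = y⁻¹ := eq_inv_of_mul_eq_one_left h.iy
  rw [h1, h2, ← mul_inv_rev]
  exact eq_inv_of_mul_eq_one_left (by rw [← mul_assoc]; exact h.yyy)

/-- A normal subgroup containing `z` contains everything. -/
theorem Amalgam.closure_le (h : Amalgam z s t x y) (N : Subgroup G) (hN : N.Normal) (hz : z ∈ N) :
    closure ({s, t, x, y} : Set G) ≤ N := by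
  have hs : s ∈ N := by
    rw [← h.conj_s]
    simpa using hN.conj_mem z hz x⁻¹
  have ht : t ∈ N := by
    rw [← h.conj_t]
    simpa using hN.conj_mem z hz y⁻¹
  have hx : x ∈ N := by
    have h1 : z * t ∈ N := N.mul_mem hz ht
    have h2 : x = (z * t) * (x * (z * t)⁻¹ * x⁻¹) := by
      conv_lhs => rw [h.x_eq]
      group
    rw [h2]
    exact N.mul_mem h1 (hN.conj_mem _ (N.inv_mem h1) x)
  have hy : y ∈ N := by
    have h1 : z * s ∈ N := N.mul_mem hz hs
    have h2 : y = (z * s) * (y * (z * s)⁻¹ * y⁻¹) := by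
      conv_lhs => rw [h.y_eq]
      group
    rw [h2]
    exact N.mul_mem h1 (hN.conj_mem _ (N.inv_mem h1) y)
  rw [Subgroup.closure_le]
  rintro g (rfl | rfl | rfl | rfl)
  exacts [hs, ht, hx, hy]

theorem Amalgam.perfect (h : Amalgam z s t x y) (hgen : closure ({s, t, x, y} : Set G) = ⊤) :
    commutator G = ⊤ := by
  rw [eq_top_iff, ← hgen]
  refine h.closure_le _ (by infer_instance) ?_
  have h1 : z = s⁻¹ * (x⁻¹ * (s⁻¹)⁻¹ * (x⁻¹)⁻¹) := by
    rw [inv_inv, inv_inv, h.conj_zs, inv_eq_of_mul_eq_one_left h.ss, ← mul_assoc, h.comm.1, mul_assoc, h.ss,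
      mul_one]
  rw [h1, ← mul_assoc, ← mul_assoc]
  exact Subgroup.commutator_mem_commutator (Subgroup.mem_top _) (Subgroup.mem_top _)

theorem Amalgam.centralizer_eq (h : Amalgam z s t x y)
    (hC : ∀ g : G, g * z = z * g → g ∈ closure ({s, t} : Set G)) :
    centralizer ({z} : Set G) = closure ({s, t} : Set G) := by
  apply le_antisymm
  · intro g hg
    rw [mem_centralizer_singleton_iff] at hg
    exact hC g hg
  · rw [Subgroup.closure_le]
    rintro g (rfl | rfl)
    · exact mem_centralizer_singleton_iff.2 h.comm.1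
    · exact mem_centralizer_singleton_iff.2 h.comm.2

theorem Amalgam.card_closure [Finite G] (h : Amalgam z s t x y) :
    Nonempty (closure ({s, t} : Set G) ≃* DihedralGroup 4) := by
  have hs : orderOf s = 2 := orderOf_eq_prime (by rw [pow_two, h.ss]) h.s1
  have ht : orderOf t = 2 := orderOf_eq_prime (by rw [pow_two, h.tt]) h.t1
  have hst : s ≠ t := by
    rintro rfl
    exact h.st_ne h.ss
  have ho : orderOf (s * t) = 4 := by
    have h1 : (s * t) ^ 2 ^ 1 ≠ 1 := by
      rw [pow_one, pow_two, h.hz]; exact h.z1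
    have h2 : (s * t) ^ 2 ^ (1 + 1) = 1 := by
      have : (s * t) ^ 2 ^ (1 + 1) = (s * t * (s * t)) * (s * t * (s * t)) := by
        simp only [pow_succ, pow_zero, one_mul, mul_assoc]
        norm_num [pow_succ, mul_assoc]
      rw [this, h.hz, h.zz]
    have := orderOf_eq_prime_pow h1 h2
    simpa using this
  have := Cfsg.Agent.S0206.result s t hs ht hst
  rwa [ho] at this

/-- Order 168 or 360. -/
theorem Amalgam.card_cases [Finite G] (h : Amalgam z s t x y)
    (hgen : closure ({s, t, x, y} : Set G) = ⊤)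
    (hC : ∀ g : G, g * z = z * g → g ∈ closure ({s, t} : Set G)) :
    Nat.card G = 168 ∨ Nat.card G = 360 := by
  obtain ⟨e⟩ := h.card_closure
  have hz : orderOf z = 2 := orderOf_eq_prime (by rw [pow_two, h.zz]) h.z1
  exact Cfsg.Agent.S0848.result (h.perfect hgen) z hz
    ((MulEquiv.subgroupCongr (h.centralizer_eq hC)).trans e)

theorem Amalgam.card_D [Finite G] (h : Amalgam z s t x y) : Nat.card (closure ({s, t} : Set G)) = 8 := by
  obtain ⟨e⟩ := h.card_closure
  rw [Nat.card_congr e.toEquiv, Nat.card_eq_fintype_card]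
  decide

/-- An involution of `⟨s,t⟩` is conjugate to `z`. -/
theorem Amalgam.conj_of_mem (h : Amalgam z s t x y) {v : G} (hv : v ∈ closure ({s, t} : Set G)) (h1 : v ≠ 1)
    (h2 : v * v = 1) : ∃ g : G, g * v * g⁻¹ = z := by
  rcases h.cases hv with rfl | rfl | rfl | rfl | rfl | rfl | rfl | rfl
  · exact absurd rfl h1
  · exact ⟨1, by simp⟩
  · exact ⟨x, by rw [← h.zx]; group⟩
  · refine ⟨x * x, ?_⟩
    have h3 : x * (z * s) * x⁻¹ = s := by rw [← h.sx]; group
    have h4 : x * s * x⁻¹ = z := by rw [← h.zx]; group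
    calc x * x * (z * s) * (x * x)⁻¹ = x * (x * (z * s) * x⁻¹) * x⁻¹ := by group
      _ = z := by rw [h3, h4]
  · exact ⟨y, by rw [← h.zy]; group⟩
  · refine ⟨y * y, ?_⟩
    have h3 : y * (z * t) * y⁻¹ = t := by rw [← h.ty]; group
    have h4 : y * t * y⁻¹ = z := by rw [← h.zy]; group
    calc y * y * (z * t) * (y * y)⁻¹ = y * (y * (z * t) * y⁻¹) * y⁻¹ := by group
      _ = z := by rw [h3, h4]
  · exact absurd (h.hz.symm.trans h2) h.z1
  · exfalso
    apply h.z1
    have h3 : s * t * z = z * (s * t) := by rw [mul_assoc, h.comm.2, ← mul_assoc, h.comm.1, mul_assoc]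
    have h4 : z * (s * t) * (z * (s * t)) = z * z * (s * t * (s * t)) := by
      rw [mul_assoc, ← mul_assoc (s * t) z, h3]
      simp only [mul_assoc]
    rw [h4, h.zz, one_mul, h.hz] at h2
    exact h2

theorem Amalgam.mem_of_even [Finite G] (h : Amalgam z s t x y) (hcard : Nat.card G = 168 ∨ Nat.card G = 360)
    (N : Subgroup G) (hN : N.Normal) (h2 : 2 ∣ Nat.card N) : z ∈ N := by
  have hp2 : Fact (Nat.Prime 2) := ⟨Nat.prime_two⟩
  obtain ⟨u, hu⟩ := exists_prime_orderOf_dvd_card' (G := N) 2 h2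
  have hu' : orderOf (u : G) = 2 := by rw [Subgroup.orderOf_coe, hu]
  have hD := h.card_D
  have hDp : IsPGroup 2 (closure ({s, t} : Set G)) := IsPGroup.of_card (n := 3) hD
  have hidx : ¬ 2 ∣ (closure ({s, t} : Set G)).index := by
    have h1 := (closure ({s, t} : Set G)).card_mul_index
    rw [hD] at h1
    rcases hcard with h3 | h3 <;> rw [h3] at h1 <;> omega
  let S : Sylow 2 G := hDp.toSylow hidx
  have hz : IsPGroup 2 (zpowers (u : G)) := IsPGroup.of_card (n := 1) (by rw [Nat.card_zpowers, hu', pow_one])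
  obtain ⟨Q, hQ⟩ := hz.exists_le_sylow
  obtain ⟨g, hg⟩ := MulAction.exists_smul_eq G Q S
  have hmem : g * u * g⁻¹ ∈ (S : Subgroup G) := by
    rw [← hg]
    have h1 : (u : G) ∈ (Q : Subgroup G) := hQ (mem_zpowers _)
    have h2 : MulAut.conj g • (u : G) ∈ (MulAut.conj g • (Q : Subgroup G)) :=
      Subgroup.smul_mem_pointwise_smul _ _ _ h1
    exact h2
  have hmem' : g * u * g⁻¹ ∈ closure ({s, t} : Set G) := hmem
  have hne : g * (u : G) * g⁻¹ ≠ 1 := by
    intro e
    rw [conj_eq_one_iff] at e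
    rw [e, orderOf_one] at hu'
    omega
  have hsq : g * (u : G) * g⁻¹ * (g * u * g⁻¹) = 1 := by
    have : (u : G) * u = 1 := by rw [← pow_two, ← hu', pow_orderOf_eq_one]
    calc g * (u : G) * g⁻¹ * (g * u * g⁻¹) = g * (u * u) * g⁻¹ := by group
      _ = 1 := by rw [this]; group
  obtain ⟨k, hk⟩ := h.conj_of_mem hmem' hne hsq
  rw [← hk]
  exact hN.conj_mem _ (hN.conj_mem _ u.2 g) k

theorem Amalgam.eq_bot_of_odd [Finite G] (h : Amalgam z s t x y)
    (hC : ∀ g : G, g * z = z * g → g ∈ closure ({s, t} : Set G))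
    (N : Subgroup G) (hN : N.Normal) (h2 : ¬ 2 ∣ Nat.card N) : N = ⊥ := by
  have hodd : ∀ n ∈ N, n * n = 1 → n = 1 := by
    intro n hn hnn
    by_contra hne
    have ho : orderOf n = 2 := orderOf_eq_prime (by rw [pow_two, hnn]) hne
    apply h2
    rw [← ho, ← Subgroup.orderOf_mk n hn]
    exact orderOf_dvd_natCard _
  have hD := h.card_D
  -- an element of `N` commuting with `z` is trivial
  have hfix : ∀ n ∈ N, n * z = z * n → n = 1 := by
    intro n hn hc
    have h1 := hC n hc
    have h3 : orderOf n ∣ 8 := by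
      rw [← hD, ← Subgroup.orderOf_mk n h1]
      exact orderOf_dvd_natCard _
    have h4 : orderOf n ∣ Nat.card N := by
      rw [← Subgroup.orderOf_mk n hn]
      exact orderOf_dvd_natCard _
    have h5 : Nat.Coprime 8 (Nat.card N) := by
      have : Nat.Coprime 2 (Nat.card N) := (Nat.prime_two.coprime_iff_not_dvd).2 h2
      exact Nat.Coprime.pow_left 3 this
    have h6 := Nat.dvd_gcd h3 h4
    rw [h5.gcd_eq_one, Nat.dvd_one] at h6
    exact orderOf_eq_one_iff.1 h6
  -- `z` inverts `N`
  have hinv : ∀ n ∈ N, z * n * z⁻¹ = n⁻¹ := by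
    have hFP : MonoidHom.FixedPointFree (MulAut.conjNormal (H := N) z).toMonoidHom := by
      intro n hn
      have h1 : z * (n : G) * z⁻¹ = n := by
        have := congrArg Subtype.val hn
        simpa using this
      have h3 : (n : G) * z = z * n := by
        conv_lhs => rw [← h1]
        group
      exact Subtype.ext (hfix _ n.2 h3)
    have hI : Function.Involutive (MulAut.conjNormal (H := N) z).toMonoidHom := by
      intro n
      apply Subtype.ext
      show z * (z * (n : G) * z⁻¹) * z⁻¹ = n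
      calc z * (z * (n : G) * z⁻¹) * z⁻¹ = (z * z) * n * (z * z)⁻¹ := by group
        _ = n := by rw [h.zz]; group
    intro n hn
    have h3 := congrFun (hFP.coe_eq_inv_of_involutive hI) ⟨n, hn⟩
    exact congrArg Subtype.val h3
  have hinvg : ∀ g v : G, g * v * g⁻¹ = z → ∀ n ∈ N, v * n * v⁻¹ = n⁻¹ := by
    intro g v hv n hn
    have h1 := hinv (g * n * g⁻¹) (hN.conj_mem n hn g)
    rw [← hv] at h1
    have h3 : g * (v * n * v⁻¹) * g⁻¹ = g * n⁻¹ * g⁻¹ := by
      calc g * (v * n * v⁻¹) * g⁻¹ = g * v * g⁻¹ * (g * n * g⁻¹) * (g * v * g⁻¹)⁻¹ := by group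
        _ = (g * n * g⁻¹)⁻¹ := h1
        _ = g * n⁻¹ * g⁻¹ := by group
    exact mul_left_cancel (mul_right_cancel h3)
  rw [eq_bot_iff]
  intro n hn
  rw [Subgroup.mem_bot]
  apply hodd n hn
  have hsm : s ∈ closure ({s, t} : Set G) := subset_closure (by simp)
  have htm : t ∈ closure ({s, t} : Set G) := subset_closure (by simp)
  have hzm : z ∈ closure ({s, t} : Set G) := by
    rw [← h.hz]
    exact mul_mem (mul_mem hsm htm) (mul_mem hsm htm)
  obtain ⟨g1, hg1⟩ := h.conj_of_mem hsm h.s1 h.ss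
  obtain ⟨g2, hg2⟩ := h.conj_of_mem (mul_mem hzm hsm) (by
    intro e
    exact h.s_ne_z ((inv_eq_of_mul_eq_one_right e).symm.trans (inv_eq_of_mul_eq_one_left h.zz))) h.zs_sq
  have e1 := hinvg _ _ hg1 n hn
  have e2 := hinvg _ _ hg2 n hn
  have e3 : z * s * n * (z * s)⁻¹ = n := by
    calc z * s * n * (z * s)⁻¹ = z * (s * n * s⁻¹) * z⁻¹ := by group
      _ = z * n⁻¹ * z⁻¹ := by rw [e1]
      _ = n := by rw [hinv _ (N.inv_mem hn), inv_inv]
  rw [e3] at e2
  nth_rewrite 2 [e2]
  exact mul_inv_cancel n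

theorem Amalgam.simple [Finite G] (h : Amalgam z s t x y)
    (hgen : closure ({s, t, x, y} : Set G) = ⊤)
    (hC : ∀ g : G, g * z = z * g → g ∈ closure ({s, t} : Set G)) : IsSimpleGroup G where
  exists_pair_ne := ⟨z, 1, h.z1⟩
  eq_bot_or_eq_top_of_normal N hN := by
    by_cases h2 : 2 ∣ Nat.card N
    · right
      rw [eq_top_iff, ← hgen]
      exact h.closure_le N hN (h.mem_of_even (h.card_cases hgen hC) N hN h2)
    · left
      exact h.eq_bot_of_odd hC N hN h2

theorem exists_hom_168 [Finite G] [IsSimpleGroup G] (h : Nat.card G = 168) :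
    ∃ f : G →* Perm (Fin 7), Function.Injective f := by
  have hp2 : Fact (Nat.Prime 2) := ⟨Nat.prime_two⟩
  obtain ⟨U, -, -, -, -, hU, -⟩ :=
    Cfsg.Agent.SmallSimple.Simple168Klein.exists_pair h (default : Sylow 2 G)
  let N := normalizer (U : Set G)
  have hidx : N.index = 7 := Cfsg.Agent.SmallSimple.Simple168Klein.index_normalizer h hU
  have hc : Nat.card (G ⧸ N) = 7 := hidx
  obtain ⟨e⟩ : Nonempty ((G ⧸ N) ≃ Fin 7) := ⟨Finite.equivFinOfCardEq hc⟩
  refine ⟨(Equiv.permCongrHom e).toMonoidHom.comp (MulAction.toPermHom G (G ⧸ N)), ?_⟩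
  have hinj : Function.Injective (MulAction.toPermHom G (G ⧸ N)) := by
    rw [← MonoidHom.ker_eq_bot_iff]
    rcases IsSimpleGroup.eq_bot_or_eq_top_of_normal (MulAction.toPermHom G (G ⧸ N)).ker inferInstance with h1 | h1
    · exact h1
    · exfalso
      rw [← Subgroup.normalCore_eq_ker] at h1
      have h3 : N = ⊤ := by
        rw [eq_top_iff, ← h1]
        exact Subgroup.normalCore_le N
      rw [h3, Subgroup.index_top] at hidx
      omega
  intro a b hab
  exact hinj ((Equiv.permCongrHom e).injective hab)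

theorem exists_hom_360 [Finite G] [IsSimpleGroup G] (h : Nat.card G = 360) :
    ∃ f : G →* Perm (Fin 7), Function.Injective f := by
  obtain ⟨e⟩ := Cfsg.Agent.S0497.result h
  refine ⟨(Equiv.Perm.viaEmbeddingHom (Fin.castSuccEmb : Fin 6 ↪ Fin 7)).comp
    ((alternatingGroup (Fin 6)).subtype.comp e.toMonoidHom), ?_⟩
  intro a b hab
  have h1 := Equiv.Perm.viaEmbeddingHom_injective (Fin.castSuccEmb : Fin 6 ↪ Fin 7) hab
  exact e.injective (Subtype.ext h1)

theorem main_top [Finite G] (h : Amalgam z s t x y)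
    (hgen : closure ({s, t, x, y} : Set G) = ⊤)
    (hC : ∀ g : G, g * z = z * g → g ∈ closure ({s, t} : Set G)) : Concl z x y := by
  have := h.simple hgen hC
  obtain ⟨f, hf⟩ : ∃ f : G →* Perm (Fin 7), Function.Injective f := by
    rcases h.card_cases hgen hC with h1 | h1
    · exact exists_hom_168 h1
    · exact exists_hom_360 h1
  exact concl_of_hom h f hf

/-- MAIN THEOREM. -/
theorem main (h : Amalgam z s t x y) [Finite ↥(closure ({s, t, x, y} : Set G))]
    (hC : ∀ g ∈ closure ({s, t, x, y} : Set G), g * z = z * g → g ∈ closure ({s, t} : Set G)) : Concl z x y := by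
  have hs : s ∈ closure ({s, t, x, y} : Set G) := subset_closure (by simp)
  have ht : t ∈ closure ({s, t, x, y} : Set G) := subset_closure (by simp)
  have hx : x ∈ closure ({s, t, x, y} : Set G) := subset_closure (by simp)
  have hy : y ∈ closure ({s, t, x, y} : Set G) := subset_closure (by simp)
  have hz : z ∈ closure ({s, t, x, y} : Set G) := by
    rw [← h.hz]; exact mul_mem (mul_mem hs ht) (mul_mem hs ht)
  generalize hM : closure ({s, t, x, y} : Set G) = M at *
  have hA : Amalgam (⟨z, hz⟩ : M) ⟨s, hs⟩ ⟨t, ht⟩ ⟨x, hx⟩ ⟨y, hy⟩ :=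
    { ss := Subtype.ext h.ss, tt := Subtype.ext h.tt, hz := Subtype.ext h.hz, zz := Subtype.ext h.zz
      z1 := fun e => h.z1 (congrArg Subtype.val e)
      xxx := Subtype.ext h.xxx, yyy := Subtype.ext h.yyy, zx := Subtype.ext h.zx, sx := Subtype.ext h.sx
      zy := Subtype.ext h.zy, ty := Subtype.ext h.ty, ix := Subtype.ext h.ix, iy := Subtype.ext h.iy }
  have key : Concl (⟨z, hz⟩ : M) ⟨x, hx⟩ ⟨y, hy⟩ := by
    apply main_top hA
    · rw [eq_top_iff]
      rintro ⟨g, hg⟩ -
      have h1 : M ≤ (closure ({⟨s, hs⟩, ⟨t, ht⟩, ⟨x, hx⟩, ⟨y, hy⟩} : Set M)).map M.subtype := by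
        rw [MonoidHom.map_closure]
        refine le_trans (le_of_eq hM.symm) ?_
        apply Subgroup.closure_mono
        rintro g (rfl | rfl | rfl | rfl)
        · exact ⟨⟨g, hs⟩, by simp, rfl⟩
        · exact ⟨⟨g, ht⟩, by simp, rfl⟩
        · exact ⟨⟨g, hx⟩, by simp, rfl⟩
        · exact ⟨⟨g, hy⟩, by simp, rfl⟩
      obtain ⟨g', hg', he⟩ := h1 hg
      have : g' = ⟨g, hg⟩ := Subtype.ext he
      rwa [← this]
    · rintro ⟨g, hg⟩ hc
      have h1 := hC g hg (congrArg Subtype.val hc)
      have h2 : closure ({s, t} : Set G) ≤ (closure ({⟨s, hs⟩, ⟨t, ht⟩} : Set M)).map M.subtype := by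
        rw [MonoidHom.map_closure]
        apply Subgroup.closure_mono
        rintro g (rfl | rfl)
        · exact ⟨⟨g, hs⟩, by simp, rfl⟩
        · exact ⟨⟨g, ht⟩, by simp, rfl⟩
      obtain ⟨g', hg', he⟩ := h2 h1
      have : g' = ⟨g, hg⟩ := Subtype.ext he
      rwa [← this]
  unfold Concl at key ⊢
  rcases key with ⟨h1, h2⟩ | ⟨h1, h2⟩ | ⟨h1, h2⟩
  · exact Or.inl ⟨congrArg Subtype.val h1, congrArg Subtype.val h2⟩
  · exact Or.inr (Or.inl ⟨congrArg Subtype.val h1, congrArg Subtype.val h2⟩)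
  · exact Or.inr (Or.inr ⟨congrArg Subtype.val h1, congrArg Subtype.val h2⟩)

/-- The relations are preserved if `x` is replaced by `x^z`. -/
theorem Amalgam.conj_z (h : Amalgam z s t x y) : Amalgam z s t (z * x * z) y where
  ss := h.ss
  tt := h.tt
  hz := h.hz
  zz := h.zz
  z1 := h.z1
  xxx := by
    calc z * x * z * (z * x * z) * (z * x * z) = z * x * (z * z) * x * (z * z) * x * z := by group
      _ = z * (x * x * x) * z := by rw [h.zz]; group
      _ = 1 := by rw [h.xxx, mul_one, h.zz]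
  yyy := h.yyy
  zx := by
    calc z * (z * x * z) = z * (z * x) * z := by group
      _ = z * (x * s) * z := by rw [h.zx]
      _ = z * x * (s * z) := by group
      _ = z * x * z * s := by rw [h.comm.1]; group
  sx := by
    calc s * (z * x * z) = (s * z) * x * z := by group
      _ = z * (s * x) * z := by rw [h.comm.1]; group
      _ = z * x * z * (s * z) := by rw [h.sx]; group
      _ = z * x * z * (z * s) := by rw [h.comm.1]
  zy := h.zy
  ty := h.ty
  ix := by
    calc z * t * (z * x * z) * (z * t) * (z * x * z)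
        = z * (t * z) * x * (z * z) * (t * z) * x * z := by group
      _ = z * (z * t * x * (z * t) * x) * z := by rw [h.comm.2, h.zz]; group
      _ = 1 := by rw [h.ix, mul_one, h.zz]
  iy := h.iy

/-- MAIN THEOREM, second form: relations of `A₆` or, for a suitable choice of `x`, of `L₃(2)`. -/
theorem main' (h : Amalgam z s t x y) [Finite ↥(closure ({s, t, x, y} : Set G))]
    (hC : ∀ g ∈ closure ({s, t, x, y} : Set G), g * z = z * g → g ∈ closure ({s, t} : Set G)) :
    ((x * y) ^ 5 = 1 ∧ (x * y⁻¹) ^ 4 = 1) ∨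
      ∃ x', (x' = x ∨ x' = z * x * z) ∧ Amalgam z s t x' y ∧ (x' * y) ^ 4 = 1 ∧ (x' * y⁻¹) ^ 7 = 1 := by
  rcases main h hC with h1 | h1 | h1
  · exact Or.inl h1
  · exact Or.inr ⟨x, Or.inl rfl, h, h1⟩
  · exact Or.inr ⟨_, Or.inr rfl, h.conj_z, h1⟩

end Cfsg.Agent.CoOneType.LThree
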