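import Cfsg.Agent.CoOneType.LThreeData

set_option autoImplicit false
set_option maxRecDepth 100000

namespace Cfsg.Agent.CoOneType.LThreeChk0

open Cfsg.Agent.SporadicRecognition.CosetCert Cfsg.Agent.CoOneType.LThreeData

theorem c0 : Part C 0 60 21 := runChunk_sound C 21 (by decide +kernel : runChunk C 10 1023 0x10000200000000000080100000000010000200000004130000000000000000000100000008010002300000004130000200000000001cc0100000008010002300000004130000000000000000000100000000000000100801008000080300453000000000000801cd33418f3400453008000080000001000000080000453003b400bb40080164c0000802004530000010c0000001000000000000453e100010d7300801001130000000453d535400b54000010000018c00004000000000000000010000018c00004000000210c000080140c0000ba4004530000000800008010000218f44004530080000802000010080000002004530080210c02000010080000002004000011310c02008020080100802008020041324c02008020080134cf3008020041338c02008020080130c0200802004130080300000000001cc0100802008010082300802004130080300000000000000100802008010080200802004130cc03008020080100823008020041324c0300000000001cc010080100802008e4004530080210d14008010080218c02004530080210c02008010080218c94004530080210c0200802008010082300802004130cc03008020080205405 20 1048575 0x163001361760700183c1b07b5a37001567fa17001434242700126000866ad174ef5776a076ad5776a47001a3a9d27569577e64776a1742447b5a27569172ec3732b1799f375690799f5756937a9d57b5a474ef174ef0755c17000000000000000000000000000000000b30000000000000a30000000000000000000000086000000000000000000000000000000000000000000000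 0 60 = 22)

theorem all : Part C 0 60 21 := c0

end Cfsg.Agent.CoOneType.LThreeChk0
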