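import Cfsg.Agent.SporadicRecognition.CosetCert

set_option autoImplicit false
set_option maxRecDepth 100000

namespace Cfsg.Agent.CoOneType.LThreeData

open Cfsg.Agent.SporadicRecognition.CosetCert

noncomputable def tree : Tr := (.N 32 (.N 16 (.L 0xfffe8f89170900622225a50aea99249ffffffffffffffffffe3e183fffa16040be37346828f4b1c985fffcfaf1e5d188a36387460ccd3fffe7670e8d8c0b16883b3470717fff393470645420bcc1e1c2c2cc502fffffffffffffff89ca12881fffc44407c33430605c48392864fffe1c0c42497162b2a1e20983affff0d8c1808a0a1393119247493fff85420d0e434482805c61f9ebfffc26204011a9c32342828a444fffe0d042428b8c15960f104c52ffff10121d20121018106040a0cbfff86470b0c030410182c302847fffc2228384038604080408041f) (.L 0x87b0877d0872321fffe8979caea4394401c8683fffffff41b7fffd622a9fdd3e1bfffdfd5222073b690658f069f9e75f9fffcf6cb73b5852ffffcea6367afffffffdadc2459039987771a5bb436413eced562a8ffff3896cad3fffffff63e49144cde5fffffffec2c0f4eb1715fffebdc17779a9733926c54dcb17fff5bdcb3b4be49a5831a2624cffffabac55565e54b64195336b05fffd49528a92a905d58d6c16103fffe9fa13b39493278e5940a8897fff4ccc95949a39454332c615cc9647ffffffffffffff9212230e1fffd272246322a04218c8b94d42))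 (.N 48 (.L 0x83bebfbd78c30d9fffec1b9bfb245ce5d30bec3ffffffffffffffd604dae6d5b2ef1cde0d303077f890b3164bae2e804dfffd6b4ffff5829bfffd5ab7ffffffeb18bfffa405e54acafb3fffbe1d564ef7b9608ea9a951aafd7bfffaa247d4e9123542aa96afffffffd696ffff5869dfffd3ca7ffffffffffffffa40e04e28a0a1f8e7fff55d6f9a96331a6e54c27fffdff6fffffffe90869289a6a67ab6f4dd2f0bcf058827fffd248fffffffea7abfffa46cb4823ffffffffffffffffffd62667fff4721fffffffac2cfffe90c5d1487ffffffe8d812d2ffff5) (.L 0x7b57fffffffffff753bfffddba13920fffffffffffffff6f6adb742344fffffffffffdb0e7fff74ee4fb9ffffffff6bb8daebfffffff37133ffffffffffffffffffdaae04273fffffffda9b345bfffee8e89e52fffffffecf6da7bffff70606e67bffffffffffffffdbbdb35b0775dfffffffb33364b5fffdd9e14606fffffffd90d32f4fffffffcdc6ffffffffffffffffffff63340e173ffffffffffffffffffb1190)))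

noncomputable def wtree : WT := (.N 13 (.N 6 (.N 3 (.N 1 (.L 0 [3,1,0,1,0,2]) (.N 2 (.L 2 [3,3]) (.L 0 [2,0,1,0,1,0,3]))) (.N 4 (.L 1 [0,3,0,1,0,3,0]) (.N 5 (.L 1 [5,1,0,1,0,4]) (.L 4 [5,5])))) (.N 9 (.N 7 (.L 1 [4,0,1,0,5]) (.N 8 (.L 1 [0,5,1,4,0]) (.L 6 [4,0,1,0,1,0,4,0,1,0,1,0]))) (.N 11 (.N 10 (.L 1 [0,2,0,3,1,0]) (.L 6 [0,5,0,1,0,1,0,5,0,1,0,1])) (.N 12 (.L 6 [0,1,0,1,0,4,0,1,0,1,0,4]) (.L 1 [0,2,0,1,0,2,0]))))) (.N 20 (.N 16 (.N 14 (.L 1 [2,0,3,0,1,0]) (.N 15 (.L 1 [0,1,0,2,0,3]) (.L 0 [1,0,1,2,0,3]))) (.N 18 (.N 17 (.L 3 [4,2,4,2,4,2,4]) (.L 2 [5,3,5,3,5,3,5])) (.N 19 (.L 6 [1,0,1,0,5,0,1,0,1,0,5,0]) (.L 6 [5,1,4,0,1,0])))) (.N 23 (.N 21 (.L 6 [0,2,0,1,0,2,0,1]) (.N 22 (.L 6 [1,2,0,3,0,1,0]) (.L 6 [0,1,0,5,1,4]))) (.N 25 (.N 24 (.L 0 [1,0,5,1,4]) (.L 6 [2,0,3,0,1,0,1])) (.N 26 (.L 3 [0,1,0,1,0,3,0]) (.L 6 [2,4,2,4,2,4,2,4]))))))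

noncomputable def stree : ST := (.N 1 (.L 0 [] []) (.L 1 [] []))

noncomputable def C : Cert where
  data := tree
  lm := 15
  rb := 109
  fb := 15
  mask := 32767
  B := 64
  k := 6
  N := 60
  inv := fun x => bif Nat.beq x 0 then 0 else bif Nat.beq x 1 then 1 else bif Nat.beq x 2 then 3 else bif Nat.beq x 3 then 2 else bif Nat.beq x 4 then 5 else bif Nat.beq x 5 then 4 else x
  words := wtree
  subs := stree

def rels : List (List Nat) := [[2,2,2], [4,4,4], [5,1,4,0,1,0], [3,0,1,0,1,2,0], [5,0,1,0,1,4,1], [0,1,0,1,0,1,0,1], [3,0,2,0,1,0,1,0], [0,1,0,2,0,1,0,2], [2,4,2,4,2,4,2,4], [0,1,0,1,0,4,0,1,0,1,0,4], [2,5,2,5,2,5,2,5,2,5,2,5,2,5]]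

def subw : List (List Nat) := [[0], [1]]

end Cfsg.Agent.CoOneType.LThreeData
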