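import Cfsg.Agent.CoOneType.CoEval
import Cfsg.Agent.CoOneType.CoFast

/-!
Explicit matrices (times 8) of elements of `Co0` satisfying the presentation `P957` modulo `-1`: letters `s`, `t`, `x`, `y`.
-/

set_option autoImplicit false

namespace Cfsg.Agent.CoOneType.LettersA

open Cfsg Cfsg.Agent.SporadicA Cfsg.Agent.SporadicStructure.Co0Matrix Cfsg.Agent.CoOneType.CoEval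

/-- Rows of `s`. -/
def sR : List (List ℤ) :=
  [[-8,0,0,0,0,0,0,0,0,0,0,0,0,0,0,0,0,0,0,0,0,0,0,0],
  [0,-8,0,0,0,0,0,0,0,0,0,0,0,0,0,0,0,0,0,0,0,0,0,0],
  [0,0,-8,0,0,0,0,0,0,0,0,0,0,0,0,0,0,0,0,0,0,0,0,0],
  [0,0,0,-8,0,0,0,0,0,0,0,0,0,0,0,0,0,0,0,0,0,0,0,0],
  [0,0,0,0,-8,0,0,0,0,0,0,0,0,0,0,0,0,0,0,0,0,0,0,0],
  [0,0,0,0,0,-8,0,0,0,0,0,0,0,0,0,0,0,0,0,0,0,0,0,0],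
  [0,0,0,0,0,0,8,0,0,0,0,0,0,0,0,0,0,0,0,0,0,0,0,0],
  [0,0,0,0,0,0,0,-8,0,0,0,0,0,0,0,0,0,0,0,0,0,0,0,0],
  [0,0,0,0,0,0,0,0,8,0,0,0,0,0,0,0,0,0,0,0,0,0,0,0],
  [0,0,0,0,0,0,0,0,0,8,0,0,0,0,0,0,0,0,0,0,0,0,0,0],
  [0,0,0,0,0,0,0,0,0,0,-8,0,0,0,0,0,0,0,0,0,0,0,0,0],
  [0,0,0,0,0,0,0,0,0,0,0,-8,0,0,0,0,0,0,0,0,0,0,0,0],
  [0,0,0,0,0,0,0,0,0,0,0,0,-8,0,0,0,0,0,0,0,0,0,0,0],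
  [0,0,0,0,0,0,0,0,0,0,0,0,0,8,0,0,0,0,0,0,0,0,0,0],
  [0,0,0,0,0,0,0,0,0,0,0,0,0,0,-8,0,0,0,0,0,0,0,0,0],
  [0,0,0,0,0,0,0,0,0,0,0,0,0,0,0,-8,0,0,0,0,0,0,0,0],
  [0,0,0,0,0,0,0,0,0,0,0,0,0,0,0,0,-8,0,0,0,0,0,0,0],
  [0,0,0,0,0,0,0,0,0,0,0,0,0,0,0,0,0,8,0,0,0,0,0,0],
  [0,0,0,0,0,0,0,0,0,0,0,0,0,0,0,0,0,0,-8,0,0,0,0,0],
  [0,0,0,0,0,0,0,0,0,0,0,0,0,0,0,0,0,0,0,8,0,0,0,0],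
  [0,0,0,0,0,0,0,0,0,0,0,0,0,0,0,0,0,0,0,0,-8,0,0,0],
  [0,0,0,0,0,0,0,0,0,0,0,0,0,0,0,0,0,0,0,0,0,8,0,0],
  [0,0,0,0,0,0,0,0,0,0,0,0,0,0,0,0,0,0,0,0,0,0,-8,0],
  [0,0,0,0,0,0,0,0,0,0,0,0,0,0,0,0,0,0,0,0,0,0,0,8]]

/-- Columns of `s`. -/
def sC : List (List ℤ) := sR

theorem ok_s : Ok sR sC := CoFast.ok_of_okZ (by decide +kernel)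

/-- Rows of `t`. -/
def tR : List (List ℤ) :=
  [[-8,0,0,0,0,0,0,0,0,0,0,0,0,0,0,0,0,0,0,0,0,0,0,0],
  [0,-8,0,0,0,0,0,0,0,0,0,0,0,0,0,0,0,0,0,0,0,0,0,0],
  [0,0,-8,0,0,0,0,0,0,0,0,0,0,0,0,0,0,0,0,0,0,0,0,0],
  [0,0,0,-8,0,0,0,0,0,0,0,0,0,0,0,0,0,0,0,0,0,0,0,0],
  [0,0,0,0,-8,0,0,0,0,0,0,0,0,0,0,0,0,0,0,0,0,0,0,0],
  [0,0,0,0,0,0,0,0,0,8,0,0,0,0,0,0,0,0,0,0,0,0,0,0],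
  [0,0,0,0,0,0,0,0,0,0,0,0,0,0,8,0,0,0,0,0,0,0,0,0],
  [0,0,0,0,0,0,0,-8,0,0,0,0,0,0,0,0,0,0,0,0,0,0,0,0],
  [0,0,0,0,0,0,0,0,0,0,0,0,0,0,0,0,0,0,0,0,8,0,0,0],
  [0,0,0,0,0,8,0,0,0,0,0,0,0,0,0,0,0,0,0,0,0,0,0,0],
  [0,0,0,0,0,0,0,0,0,0,-8,0,0,0,0,0,0,0,0,0,0,0,0,0],
  [0,0,0,0,0,0,0,0,0,0,0,0,0,0,0,0,0,8,0,0,0,0,0,0],
  [0,0,0,0,0,0,0,0,0,0,0,0,-8,0,0,0,0,0,0,0,0,0,0,0],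
  [0,0,0,0,0,0,0,0,0,0,0,0,0,0,0,0,8,0,0,0,0,0,0,0],
  [0,0,0,0,0,0,8,0,0,0,0,0,0,0,0,0,0,0,0,0,0,0,0,0],
  [0,0,0,0,0,0,0,0,0,0,0,0,0,0,0,0,0,0,0,0,0,8,0,0],
  [0,0,0,0,0,0,0,0,0,0,0,0,0,8,0,0,0,0,0,0,0,0,0,0],
  [0,0,0,0,0,0,0,0,0,0,0,8,0,0,0,0,0,0,0,0,0,0,0,0],
  [0,0,0,0,0,0,0,0,0,0,0,0,0,0,0,0,0,0,0,8,0,0,0,0],
  [0,0,0,0,0,0,0,0,0,0,0,0,0,0,0,0,0,0,8,0,0,0,0,0],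
  [0,0,0,0,0,0,0,0,8,0,0,0,0,0,0,0,0,0,0,0,0,0,0,0],
  [0,0,0,0,0,0,0,0,0,0,0,0,0,0,0,8,0,0,0,0,0,0,0,0],
  [0,0,0,0,0,0,0,0,0,0,0,0,0,0,0,0,0,0,0,0,0,0,0,8],
  [0,0,0,0,0,0,0,0,0,0,0,0,0,0,0,0,0,0,0,0,0,0,8,0]]

/-- Columns of `t`. -/
def tC : List (List ℤ) := tR

theorem ok_t : Ok tR tC := CoFast.ok_of_okZ (by decide +kernel)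

/-- Rows of `x`. -/
def xR : List (List ℤ) :=
  [[0,0,0,0,0,0,0,0,0,8,0,0,0,0,0,0,0,0,0,0,0,0,0,0],
  [0,0,0,0,0,0,0,0,0,0,0,0,0,0,0,0,0,8,0,0,0,0,0,0],
  [0,0,0,0,0,0,0,0,8,0,0,0,0,0,0,0,0,0,0,0,0,0,0,0],
  [0,0,0,0,0,0,0,0,0,0,0,0,0,0,0,0,0,0,0,0,0,8,0,0],
  [0,0,0,0,0,0,0,0,0,0,0,0,0,0,0,0,0,0,0,0,0,0,0,8],
  [8,0,0,0,0,0,0,0,0,0,0,0,0,0,0,0,0,0,0,0,0,0,0,0],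
  [0,0,0,0,0,0,0,0,0,0,0,0,0,0,8,0,0,0,0,0,0,0,0,0],
  [0,0,0,0,0,0,0,0,0,0,0,0,0,8,0,0,0,0,0,0,0,0,0,0],
  [0,0,0,0,0,0,0,0,0,0,0,0,0,0,0,0,0,0,0,0,8,0,0,0],
  [0,0,0,0,0,8,0,0,0,0,0,0,0,0,0,0,0,0,0,0,0,0,0,0],
  [0,0,0,0,0,0,0,0,0,0,0,0,0,0,0,0,0,0,0,8,0,0,0,0],
  [0,8,0,0,0,0,0,0,0,0,0,0,0,0,0,0,0,0,0,0,0,0,0,0],
  [0,0,0,0,0,0,8,0,0,0,0,0,0,0,0,0,0,0,0,0,0,0,0,0],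
  [0,0,0,0,0,0,0,0,0,0,0,0,0,0,0,0,8,0,0,0,0,0,0,0],
  [0,0,0,0,0,0,0,0,0,0,0,0,8,0,0,0,0,0,0,0,0,0,0,0],
  [0,0,0,8,0,0,0,0,0,0,0,0,0,0,0,0,0,0,0,0,0,0,0,0],
  [0,0,0,0,0,0,0,8,0,0,0,0,0,0,0,0,0,0,0,0,0,0,0,0],
  [0,0,0,0,0,0,0,0,0,0,0,8,0,0,0,0,0,0,0,0,0,0,0,0],
  [0,0,0,0,0,0,0,0,0,0,8,0,0,0,0,0,0,0,0,0,0,0,0,0],
  [0,0,0,0,0,0,0,0,0,0,0,0,0,0,0,0,0,0,8,0,0,0,0,0],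
  [0,0,8,0,0,0,0,0,0,0,0,0,0,0,0,0,0,0,0,0,0,0,0,0],
  [0,0,0,0,0,0,0,0,0,0,0,0,0,0,0,8,0,0,0,0,0,0,0,0],
  [0,0,0,0,8,0,0,0,0,0,0,0,0,0,0,0,0,0,0,0,0,0,0,0],
  [0,0,0,0,0,0,0,0,0,0,0,0,0,0,0,0,0,0,0,0,0,0,8,0]]

/-- Columns of `x`. -/
def xC : List (List ℤ) :=
  [[0,0,0,0,0,8,0,0,0,0,0,0,0,0,0,0,0,0,0,0,0,0,0,0],
  [0,0,0,0,0,0,0,0,0,0,0,8,0,0,0,0,0,0,0,0,0,0,0,0],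
  [0,0,0,0,0,0,0,0,0,0,0,0,0,0,0,0,0,0,0,0,8,0,0,0],
  [0,0,0,0,0,0,0,0,0,0,0,0,0,0,0,8,0,0,0,0,0,0,0,0],
  [0,0,0,0,0,0,0,0,0,0,0,0,0,0,0,0,0,0,0,0,0,0,8,0],
  [0,0,0,0,0,0,0,0,0,8,0,0,0,0,0,0,0,0,0,0,0,0,0,0],
  [0,0,0,0,0,0,0,0,0,0,0,0,8,0,0,0,0,0,0,0,0,0,0,0],
  [0,0,0,0,0,0,0,0,0,0,0,0,0,0,0,0,8,0,0,0,0,0,0,0],
  [0,0,8,0,0,0,0,0,0,0,0,0,0,0,0,0,0,0,0,0,0,0,0,0],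
  [8,0,0,0,0,0,0,0,0,0,0,0,0,0,0,0,0,0,0,0,0,0,0,0],
  [0,0,0,0,0,0,0,0,0,0,0,0,0,0,0,0,0,0,8,0,0,0,0,0],
  [0,0,0,0,0,0,0,0,0,0,0,0,0,0,0,0,0,8,0,0,0,0,0,0],
  [0,0,0,0,0,0,0,0,0,0,0,0,0,0,8,0,0,0,0,0,0,0,0,0],
  [0,0,0,0,0,0,0,8,0,0,0,0,0,0,0,0,0,0,0,0,0,0,0,0],
  [0,0,0,0,0,0,8,0,0,0,0,0,0,0,0,0,0,0,0,0,0,0,0,0],
  [0,0,0,0,0,0,0,0,0,0,0,0,0,0,0,0,0,0,0,0,0,8,0,0],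
  [0,0,0,0,0,0,0,0,0,0,0,0,0,8,0,0,0,0,0,0,0,0,0,0],
  [0,8,0,0,0,0,0,0,0,0,0,0,0,0,0,0,0,0,0,0,0,0,0,0],
  [0,0,0,0,0,0,0,0,0,0,0,0,0,0,0,0,0,0,0,8,0,0,0,0],
  [0,0,0,0,0,0,0,0,0,0,8,0,0,0,0,0,0,0,0,0,0,0,0,0],
  [0,0,0,0,0,0,0,0,8,0,0,0,0,0,0,0,0,0,0,0,0,0,0,0],
  [0,0,0,8,0,0,0,0,0,0,0,0,0,0,0,0,0,0,0,0,0,0,0,0],
  [0,0,0,0,0,0,0,0,0,0,0,0,0,0,0,0,0,0,0,0,0,0,0,8],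
  [0,0,0,0,8,0,0,0,0,0,0,0,0,0,0,0,0,0,0,0,0,0,0,0]]

theorem ok_x : Ok xR xC := CoFast.ok_of_okZ (by decide +kernel)

/-- Rows of `y`. -/
def yR : List (List ℤ) :=
  [[0,0,0,0,0,2,-2,0,2,2,0,2,0,2,-2,2,2,2,-2,-2,2,2,-2,-2],
  [0,0,0,0,0,-2,2,0,-2,-2,0,2,0,2,2,2,2,2,2,2,-2,2,-2,-2],
  [0,0,0,0,0,-2,-2,0,2,-2,0,2,0,-2,-2,2,-2,2,2,2,2,2,2,2],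
  [0,0,0,0,0,-2,-2,0,-2,-2,0,-2,0,-2,-2,2,-2,-2,-2,-2,-2,2,-2,-2],
  [0,0,0,0,0,2,2,0,-2,2,0,2,0,-2,2,2,-2,2,-2,-2,-2,2,2,2],
  [-2,2,2,2,-2,-4,0,2,0,4,-2,0,-2,0,0,0,0,0,0,0,0,0,0,0],
  [-2,2,-2,-2,2,0,4,2,0,0,-2,0,2,0,-4,0,0,0,0,0,0,0,0,0],
  [0,0,0,0,0,-2,2,0,2,-2,0,-2,0,2,2,2,2,-2,-2,-2,2,2,2,2],
  [2,-2,2,-2,-2,0,0,2,4,0,-2,0,2,0,0,0,0,0,0,0,-4,0,0,0],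
  [2,-2,-2,-2,2,-4,0,-2,0,4,2,0,2,0,0,0,0,0,0,0,0,0,0,0],
  [0,0,0,0,0,2,-2,0,-2,2,0,-2,0,2,-2,2,2,-2,2,2,-2,2,2,2],
  [-2,-2,-2,2,-2,0,0,2,0,0,2,-4,2,0,0,0,0,4,0,0,0,0,0,0],
  [0,0,0,0,0,2,2,0,2,2,0,-2,0,-2,2,2,-2,-2,2,2,2,2,-2,-2],
  [2,2,-2,-2,-2,0,0,2,0,0,2,0,-2,4,0,0,-4,0,0,0,0,0,0,0],
  [2,-2,2,2,-2,0,4,-2,0,0,2,0,-2,0,-4,0,0,0,0,0,0,0,0,0],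
  [-2,-2,-2,-2,-2,0,0,-2,0,0,-2,0,-2,0,0,-4,0,0,0,0,0,4,0,0],
  [-2,-2,2,2,2,0,0,-2,0,0,-2,0,2,4,0,0,-4,0,0,0,0,0,0,0],
  [2,2,2,-2,2,0,0,-2,0,0,-2,-4,-2,0,0,0,0,4,0,0,0,0,0,0],
  [2,-2,-2,2,2,0,0,2,0,0,-2,0,-2,0,0,0,0,0,-4,4,0,0,0,0],
  [-2,2,2,-2,-2,0,0,-2,0,0,2,0,2,0,0,0,0,0,-4,4,0,0,0,0],
  [-2,2,-2,2,2,0,0,-2,4,0,2,0,-2,0,0,0,0,0,0,0,-4,0,0,0],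
  [2,2,2,2,2,0,0,2,0,0,2,0,2,0,0,-4,0,0,0,0,0,4,0,0],
  [2,2,-2,2,-2,0,0,-2,0,0,-2,0,2,0,0,0,0,0,0,0,0,0,-4,4],
  [-2,-2,2,-2,2,0,0,2,0,0,2,0,-2,0,0,0,0,0,0,0,0,0,-4,4]]

/-- Columns of `y`. -/
def yC : List (List ℤ) :=
  [[0,0,0,0,0,-2,-2,0,2,2,0,-2,0,2,2,-2,-2,2,2,-2,-2,2,2,-2],
  [0,0,0,0,0,2,2,0,-2,-2,0,-2,0,2,-2,-2,-2,2,-2,2,2,2,2,-2],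
  [0,0,0,0,0,2,-2,0,2,-2,0,-2,0,-2,2,-2,2,2,-2,2,-2,2,-2,2],
  [0,0,0,0,0,2,-2,0,-2,-2,0,2,0,-2,2,-2,2,-2,2,-2,2,2,2,-2],
  [0,0,0,0,0,-2,2,0,-2,2,0,-2,0,-2,-2,-2,2,2,2,-2,2,2,-2,2],
  [2,-2,-2,-2,2,-4,0,-2,0,-4,2,0,2,0,0,0,0,0,0,0,0,0,0,0],
  [-2,2,-2,-2,2,0,4,2,0,0,-2,0,2,0,4,0,0,0,0,0,0,0,0,0],
  [0,0,0,0,0,2,2,0,2,-2,0,2,0,2,-2,-2,-2,-2,2,-2,-2,2,-2,2],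
  [2,-2,2,-2,-2,0,0,2,4,0,-2,0,2,0,0,0,0,0,0,0,4,0,0,0],
  [2,-2,-2,-2,2,4,0,-2,0,4,2,0,2,0,0,0,0,0,0,0,0,0,0,0],
  [0,0,0,0,0,-2,-2,0,-2,2,0,2,0,2,2,-2,-2,-2,-2,2,2,2,-2,2],
  [2,2,2,-2,2,0,0,-2,0,0,-2,-4,-2,0,0,0,0,-4,0,0,0,0,0,0],
  [0,0,0,0,0,-2,2,0,2,2,0,2,0,-2,-2,-2,2,-2,-2,2,-2,2,2,-2],
  [2,2,-2,-2,-2,0,0,2,0,0,2,0,-2,4,0,0,4,0,0,0,0,0,0,0],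
  [-2,2,-2,-2,2,0,-4,2,0,0,-2,0,2,0,-4,0,0,0,0,0,0,0,0,0],
  [2,2,2,2,2,0,0,2,0,0,2,0,2,0,0,-4,0,0,0,0,0,-4,0,0],
  [2,2,-2,-2,-2,0,0,2,0,0,2,0,-2,-4,0,0,-4,0,0,0,0,0,0,0],
  [2,2,2,-2,2,0,0,-2,0,0,-2,4,-2,0,0,0,0,4,0,0,0,0,0,0],
  [-2,2,2,-2,-2,0,0,-2,0,0,2,0,2,0,0,0,0,0,-4,-4,0,0,0,0],
  [-2,2,2,-2,-2,0,0,-2,0,0,2,0,2,0,0,0,0,0,4,4,0,0,0,0],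
  [2,-2,2,-2,-2,0,0,2,-4,0,-2,0,2,0,0,0,0,0,0,0,-4,0,0,0],
  [2,2,2,2,2,0,0,2,0,0,2,0,2,0,0,4,0,0,0,0,0,4,0,0],
  [-2,-2,2,-2,2,0,0,2,0,0,2,0,-2,0,0,0,0,0,0,0,0,0,-4,-4],
  [-2,-2,2,-2,2,0,0,2,0,0,2,0,-2,0,0,0,0,0,0,0,0,0,4,4]]

theorem ok_y : Ok yR yC := CoFast.ok_of_okZ (by decide +kernel)

end Cfsg.Agent.CoOneType.LettersA
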