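import Cfsg.Agent.CoOneType.RelC
import Cfsg.Agent.CoOneType.R5Cert

/-!
# `K = 1` implies `r5`
-/

set_option autoImplicit false
set_option maxRecDepth 100000

namespace Cfsg.Agent.CoOneType.RelC

open Cfsg.Agent.SporadicRecognition.CosetCert

variable {G : Type*} [Group G]

/-- the relation `r5` of `P957` -/
theorem r5_of_K {s t x y w d e f g h : G} (H : Pre957 s t x y w d e f g h)
    (hK : K x y f g h = 1) (h1 : (x * y⁻¹) ^ 7 = 1) (h2 : (x * y) ^ 4 = 1) :
    (x * y * f * g) ^ 7 = 1 := by
  have hrel : ∀ r ∈ R5CertData.rels, ev (lt s t x y f g h) r = 1 := by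
    have hsub : ∀ r ∈ R5CertData.rels, r ∈ baseRels ∨ r = [2,5,2,5,2,5,2,5,2,5,2,5,2,5] ∨
        r = [2,4,2,4,2,4,2,4] ∨ r = [3,6,8,6,2,5,7,4,3,6,8,6,2,5,7,4] := by decide
    intro r hr
    rcases hsub r hr with h | rfl | rfl | rfl
    · exact base_ok H r h
    · simp only [ev, List.map_cons, List.map_nil, List.prod_cons, List.prod_nil, lt, mul_one]
      simpa only [pow_succ, pow_zero, one_mul, mul_assoc] using h1
    · simp only [ev, List.map_cons, List.map_nil, List.prod_cons, List.prod_nil, lt, mul_one]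
      simpa only [pow_succ, pow_zero, one_mul, mul_assoc] using h2
    · simp only [ev, List.map_cons, List.map_nil, List.prod_cons, List.prod_nil, lt, mul_one]
      simpa only [K, pow_succ, pow_zero, one_mul, mul_assoc] using hK
  have h3 := R5Cert.eq_one (lt s t x y f g h) (hinv9 H _ (by decide)) hrel
    [2,4,6,7,2,4,6,7,2,4,6,7,2,4,6,7,2,4,6,7,2,4,6,7,2,4,6,7] (by decide)
  simp only [ev, List.map_cons, List.map_nil, List.prod_cons, List.prod_nil, lt, mul_one] at h3
  simpa only [pow_succ, pow_zero, one_mul, mul_assoc] using h3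

/-- `P957` from the local relations and `K = 1` -/
theorem p957_of_K {s t x y w d e f g h : G} (H : Pre957 s t x y w d e f g h)
    (hK : K x y f g h = 1) (h1 : (x * y⁻¹) ^ 7 = 1) (h2 : (x * y) ^ 4 = 1) :
    P957 s t x y w d e f g h :=
  H.p957 h1 h2 (r5_of_K H hK h1 h2)

end Cfsg.Agent.CoOneType.RelC
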