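import Mathlib
import Cfsg.Agent.CoOneType.Setup

/-!
# `Pre957` from the local set-up
-/

set_option autoImplicit false

namespace Cfsg.Agent.CoOneType.SetupRel

open Equiv

/-- A product of two transpositions, in the alternating group. -/
def dt (i j k l : Fin 8) (h : i ≠ j ∧ k ≠ l) : alternatingGroup (Fin 8) :=
  ⟨swap i j * swap k l, by
    rw [Perm.mem_alternatingGroup, Perm.sign_mul, Perm.sign_swap h.1, Perm.sign_swap h.2]; rfl⟩

/-- `(1 2)(3 4)` -/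
def w0 : alternatingGroup (Fin 8) := dt 0 1 2 3 (by decide)
/-- `(1 2)(4 5)` -/
def d0 : alternatingGroup (Fin 8) := dt 0 1 3 4 (by decide)
/-- `(1 2)(5 6)` -/
def e0 : alternatingGroup (Fin 8) := dt 0 1 4 5 (by decide)
/-- `(1 2)(6 7)` -/
def f0 : alternatingGroup (Fin 8) := dt 0 1 5 6 (by decide)
/-- `(1 2)(7 8)` -/
def g0 : alternatingGroup (Fin 8) := dt 0 1 6 7 (by decide)
/-- `(1 2)(6 8)` -/
def h0 : alternatingGroup (Fin 8) := dt 0 1 5 7 (by decide)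

/-- conjugation by `(6 7)` -/
def tc : alternatingGroup (Fin 8) →* alternatingGroup (Fin 8) :=
  (MulAut.conjNormal (H := alternatingGroup (Fin 8)) tau67).toMonoidHom

theorem tc_coe (σ : alternatingGroup (Fin 8)) :
    ((tc σ : alternatingGroup (Fin 8)) : Perm (Fin 8)) = tau67 * σ * tau67⁻¹ :=
  MulAut.conjNormal_apply _ _

theorem tc_apply (σ : alternatingGroup (Fin 8)) (i : Fin 8) :
    ((tc σ : alternatingGroup (Fin 8)) : Perm (Fin 8)) i =
      tau67 ((σ : Perm (Fin 8)) (tau67 i)) := by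
  rw [tc_coe, swap_inv, Perm.mul_apply, Perm.mul_apply]

theorem tau_tau (i : Fin 8) : tau67 (tau67 i) = i := by
  revert i; decide

theorem alt_ext {σ ρ : alternatingGroup (Fin 8)}
    (h : ∀ i, (σ : Perm (Fin 8)) i = (ρ : Perm (Fin 8)) i) : σ = ρ :=
  Subtype.ext (Equiv.ext h)

/-- `(1 2)(5 7)` -/
def e1 : alternatingGroup (Fin 8) := dt 0 1 4 6 (by decide)

end Cfsg.Agent.CoOneType.SetupRel

namespace Cfsg.Agent.CoOneType.Setup

open Equiv Cfsg.Agent.CoOneType.SetupRel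

variable {G : Type*} [Group G] {Q : Subgroup G} {z s t f H : G}
  {κ : alternatingGroup (Fin 8) →* G} {c : Fin 8 → G}

theorem zi (S : Setup Q z s t f H κ c) : z⁻¹ = z := inv_eq_of_mul_eq_one_left S.zz

theorem si (S : Setup Q z s t f H κ c) : s⁻¹ = s := inv_eq_of_mul_eq_one_left S.ss

theorem ti (S : Setup Q z s t f H κ c) : t⁻¹ = t := inv_eq_of_mul_eq_one_left S.tt

theorem st2 (S : Setup Q z s t f H κ c) : (s * t) ^ 2 = z := by rw [sq]; exact S.st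

theorem sz (S : Setup Q z s t f H κ c) : s * z = z * s := S.cen s S.sQ

theorem tz (S : Setup Q z s t f H κ c) : t * z = z * t := S.cen t S.tQ

theorem conj_eq_iff {a b d : G} : a * b * a⁻¹ = d ↔ a * b = d * a := mul_inv_eq_iff_eq_mul

theorem Hi_s (S : Setup Q z s t f H κ c) : H⁻¹ * s * H = t := by
  rw [← S.Ht]; group

theorem Hi_t (S : Setup Q z s t f H κ c) : H⁻¹ * t * H = s := by
  rw [← S.Hs]; group

theorem Hi_z (S : Setup Q z s t f H κ c) : H⁻¹ * z * H = z := by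
  rw [mul_assoc, ← S.Hz]; group

theorem H_z (S : Setup Q z s t f H κ c) : H * z * H⁻¹ = z := by
  rw [S.Hz]; group

theorem Hi_c (S : Setup Q z s t f H κ c) (i : Fin 8) : H⁻¹ * c i * H = (c (tau67 i))⁻¹ := by
  have h := S.Hc (tau67 i)
  rw [tau_tau] at h
  have h2 : c i = (H * c (tau67 i) * H⁻¹)⁻¹ := by rw [h, inv_inv]
  rw [h2]; group

/-- The action of `H κ(σ) H⁻¹` -/
theorem Hkc (S : Setup Q z s t f H κ c) (σ : alternatingGroup (Fin 8)) (i : Fin 8) :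
    (H * κ σ * H⁻¹) * c i * (H * κ σ * H⁻¹)⁻¹ =
      (c (tau67 ((σ : Perm (Fin 8)) 7)))⁻¹ * c (tau67 ((σ : Perm (Fin 8)) (tau67 i))) := by
  have h1 := S.Hi_c i
  have h2 := S.kc σ (tau67 i)
  have h3 := S.Hc ((σ : Perm (Fin 8)) 7)
  have h4 := S.Hc ((σ : Perm (Fin 8)) (tau67 i))
  calc (H * κ σ * H⁻¹) * c i * (H * κ σ * H⁻¹)⁻¹
      = H * (κ σ * (H⁻¹ * c i * H) * (κ σ)⁻¹) * H⁻¹ := by group
    _ = H * (κ σ * c (tau67 i) * (κ σ)⁻¹)⁻¹ * H⁻¹ := by rw [h1]; group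
    _ = (H * c ((σ : Perm (Fin 8)) 7) * H⁻¹) * (H * c ((σ : Perm (Fin 8)) (tau67 i)) * H⁻¹)⁻¹ := by
        rw [h2]; group
    _ = _ := by rw [h3, h4, inv_inv]

/-- Rigidity for elements of order three. -/
theorem rig3 (S : Setup Q z s t f H κ c) {u v : G} (hu : u ^ 3 = 1) (hv : v ^ 3 = 1)
    (huz : u * z = z * u) (hvz : v * z = z * v) (hs : u * s * u⁻¹ = v * s * v⁻¹)
    (ht : u * t * u⁻¹ = v * t * v⁻¹) (hc : ∀ i, u * c i * u⁻¹ = v * c i * v⁻¹) : u = v := by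
  have key : ∀ a : G, u * a * u⁻¹ = v * a * v⁻¹ → v⁻¹ * u * a = a * (v⁻¹ * u) := by
    intro a ha
    rw [← conj_eq_iff]
    calc v⁻¹ * u * a * (v⁻¹ * u)⁻¹ = v⁻¹ * (u * a * u⁻¹) * v := by group
      _ = a := by rw [ha]; group
  have hz : u * z * u⁻¹ = v * z * v⁻¹ := by
    rw [huz, hvz]; group
  rcases S.rig (v⁻¹ * u) (key z hz) (key s hs) (key t ht) (fun i => key _ (hc i)) with h | h
  · exact (inv_mul_eq_one.mp h).symm
  · exfalso
    have h1 : u = v * z := by rw [← h]; group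
    have h2 : (v * z) ^ 3 = v ^ 3 * z ^ 3 := (show Commute v z from hvz).mul_pow 3
    rw [h1, h2, hv, one_mul, pow_succ, sq, S.zz, one_mul] at hu
    exact S.z1 hu

/-- `H κ(σ) H⁻¹ = κ(τ σ τ)` for elements of order three of `A₇`. -/
theorem Hk3 (S : Setup Q z s t f H κ c) (σ : alternatingGroup (Fin 8)) (h3 : σ ^ 3 = 1)
    (h7 : (σ : Perm (Fin 8)) 7 = 7) : H * κ σ * H⁻¹ = κ (tc σ) := by
  have hσ7 : ((tc σ : alternatingGroup (Fin 8)) : Perm (Fin 8)) 7 = 7 := by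
    rw [tc_apply]
    have : tau67 7 = 7 := by decide
    rw [this, h7, this]
  refine S.rig3 ?_ ?_ ?_ ?_ ?_ ?_ ?_
  · rw [conj_pow, ← map_pow, h3, map_one]; group
  · rw [← map_pow, ← map_pow, h3, map_one, map_one]
  · rw [← conj_eq_iff]
    calc H * κ σ * H⁻¹ * z * (H * κ σ * H⁻¹)⁻¹ = H * (κ σ * (H⁻¹ * z * H) * (κ σ)⁻¹) * H⁻¹ := by
          group
      _ = z := by rw [S.Hi_z, S.kz, mul_inv_cancel_right, S.H_z]
  · exact S.kz _
  · calc H * κ σ * H⁻¹ * s * (H * κ σ * H⁻¹)⁻¹ = H * (κ σ * (H⁻¹ * s * H) * (κ σ)⁻¹) * H⁻¹ := by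
          group
      _ = s := by rw [S.Hi_s, S.kt, mul_inv_cancel_right, S.Ht]
      _ = _ := by rw [S.ks, mul_inv_cancel_right]
  · calc H * κ σ * H⁻¹ * t * (H * κ σ * H⁻¹)⁻¹ = H * (κ σ * (H⁻¹ * t * H) * (κ σ)⁻¹) * H⁻¹ := by
          group
      _ = t := by rw [S.Hi_t, S.ks, mul_inv_cancel_right, S.Hs]
      _ = _ := by rw [S.kt, mul_inv_cancel_right]
  · intro i
    have h77 : tau67 7 = 7 := by decide
    rw [S.Hkc, S.kc, tc_apply, hσ7, h7, h77, S.c7]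
    group

/-- `H κ(σ) H⁻¹ = κ(τ σ τ)` for products of elements of order three of `A₇`. -/
theorem Hk (S : Setup Q z s t f H κ c) (σ ρ : alternatingGroup (Fin 8)) (h3 : σ ^ 3 = 1)
    (h3' : ρ ^ 3 = 1) (h7 : (σ : Perm (Fin 8)) 7 = 7) (h7' : (ρ : Perm (Fin 8)) 7 = 7) :
    H * κ (σ * ρ) * H⁻¹ = κ (tc (σ * ρ)) := by
  rw [map_mul, map_mul, map_mul, ← S.Hk3 σ h3 h7, ← S.Hk3 ρ h3' h7']
  group

/-- An involution `(i j)(k l)` as a product of three-cycles. -/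
theorem Hkd (S : Setup Q z s t f H κ c) {i j k l : Fin 8} (h : i ≠ j ∧ k ≠ l) (hjk : j ≠ k)
    (h1 : (dt i j j k ⟨h.1, hjk⟩) ^ 3 = 1 ∧ (dt j k k l ⟨hjk, h.2⟩) ^ 3 = 1 ∧
      ((dt i j j k ⟨h.1, hjk⟩ : alternatingGroup (Fin 8)) : Perm (Fin 8)) 7 = 7 ∧
      ((dt j k k l ⟨hjk, h.2⟩ : alternatingGroup (Fin 8)) : Perm (Fin 8)) 7 = 7 ∧
      dt i j k l h = dt i j j k ⟨h.1, hjk⟩ * dt j k k l ⟨hjk, h.2⟩) :
    H * κ (dt i j k l h) * H⁻¹ = κ (tc (dt i j k l h)) := by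
  obtain ⟨h3, h3', h7, h7', he⟩ := h1
  rw [he]
  exact S.Hk _ _ h3 h3' h7 h7'

theorem Hkw (S : Setup Q z s t f H κ c) : H * κ w0 * H⁻¹ = κ w0 := by
  have h := S.Hkd (i := 0) (j := 1) (k := 2) (l := 3) (by decide) (by decide) (by decide)
  have h2 : tc (dt 0 1 2 3 (by decide)) = w0 := alt_ext (fun i => by
    rw [tc_apply]; revert i; decide)
  rw [h2] at h
  exact h

theorem Hkd' (S : Setup Q z s t f H κ c) : H * κ d0 * H⁻¹ = κ d0 := by
  have h := S.Hkd (i := 0) (j := 1) (k := 3) (l := 4) (by decide) (by decide) (by decide)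
  have h2 : tc (dt 0 1 3 4 (by decide)) = d0 := alt_ext (fun i => by
    rw [tc_apply]; revert i; decide)
  rw [h2] at h
  exact h

theorem Hke (S : Setup Q z s t f H κ c) : H * κ e1 * H⁻¹ = κ e0 := by
  have h := S.Hkd (i := 0) (j := 1) (k := 4) (l := 6) (by decide) (by decide) (by decide)
  have h2 : tc (dt 0 1 4 6 (by decide)) = e0 := alt_ext (fun i => by
    rw [tc_apply]; revert i; decide)
  rw [h2] at h
  exact h

theorem Hkf (S : Setup Q z s t f H κ c) : H * κ f0 * H⁻¹ = κ f0 := by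
  have h := S.Hkd (i := 0) (j := 1) (k := 5) (l := 6) (by decide) (by decide) (by decide)
  have h2 : tc (dt 0 1 5 6 (by decide)) = f0 := alt_ext (fun i => by
    rw [tc_apply]; revert i; decide)
  rw [h2] at h
  exact h

theorem kpow (κ : alternatingGroup (Fin 8) →* G) {a b : alternatingGroup (Fin 8)} {n : ℕ}
    (h : (a * b) ^ n = 1) : (κ a * κ b) ^ n = 1 := by
  rw [← map_mul, ← map_pow, h, map_one]

theorem ksq (κ : alternatingGroup (Fin 8) →* G) {a : alternatingGroup (Fin 8)} (h : a * a = 1) :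
    κ a * κ a = 1 := by
  rw [← map_mul, h, map_one]

theorem kcomm (κ : alternatingGroup (Fin 8) →* G) {a b : alternatingGroup (Fin 8)}
    (h : a * b = b * a) : Commute (κ a) (κ b) := by
  show κ a * κ b = κ b * κ a
  rw [← map_mul, h, map_mul]

theorem comm_conj {a b g : G} (h : Commute a b) : Commute (g * a * g⁻¹) (g * b * g⁻¹) := by
  show g * a * g⁻¹ * (g * b * g⁻¹) = g * b * g⁻¹ * (g * a * g⁻¹)
  calc g * a * g⁻¹ * (g * b * g⁻¹) = g * (a * b) * g⁻¹ := by group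
    _ = g * (b * a) * g⁻¹ := by rw [h.eq]
    _ = _ := by group

/-- `q = g h`. -/
theorem q_conj (S : Setup Q z s t f H κ c) (i : Fin 8) :
    (κ g0 * (H * κ h0 * H⁻¹)) * c i * (κ g0 * (H * κ h0 * H⁻¹))⁻¹ = c 6 * c i * (c 6)⁻¹ := by
  have h1 := S.Hkc h0 i
  have e1 : tau67 ((h0 : Perm (Fin 8)) 7) = 6 := by decide
  have e2' : ∀ j : Fin 8, tau67 ((h0 : Perm (Fin 8)) (tau67 j)) = (g0 : Perm (Fin 8)) j := by
    decide
  have e2 := e2' i
  have e3 : (g0 : Perm (Fin 8)) 6 = 7 := by decide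
  have e4 : (g0 : Perm (Fin 8)) 7 = 6 := by decide
  have e5' : ∀ j : Fin 8, (g0 : Perm (Fin 8)) ((g0 : Perm (Fin 8)) j) = j := by decide
  have e5 := e5' i
  rw [e1, e2] at h1
  have h2 := S.kc g0 6
  have h3 := S.kc g0 ((g0 : Perm (Fin 8)) i)
  rw [e3, e4, S.c7, one_mul] at h2
  rw [e5, e4] at h3
  calc (κ g0 * (H * κ h0 * H⁻¹)) * c i * (κ g0 * (H * κ h0 * H⁻¹))⁻¹
      = κ g0 * ((H * κ h0 * H⁻¹) * c i * (H * κ h0 * H⁻¹)⁻¹) * (κ g0)⁻¹ := by group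
    _ = (κ g0 * c 6 * (κ g0)⁻¹)⁻¹ * (κ g0 * c ((g0 : Perm (Fin 8)) i) * (κ g0)⁻¹) := by
        rw [h1]; group
    _ = _ := by rw [h2, h3]; group

theorem hk_z (S : Setup Q z s t f H κ c) (σ : alternatingGroup (Fin 8)) :
    (H * κ σ * H⁻¹) * z = z * (H * κ σ * H⁻¹) := by
  rw [← conj_eq_iff]
  calc H * κ σ * H⁻¹ * z * (H * κ σ * H⁻¹)⁻¹ = H * (κ σ * (H⁻¹ * z * H) * (κ σ)⁻¹) * H⁻¹ := by
        group
    _ = z := by rw [S.Hi_z, S.kz, mul_inv_cancel_right, S.H_z]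

theorem hk_s (S : Setup Q z s t f H κ c) (σ : alternatingGroup (Fin 8)) :
    (H * κ σ * H⁻¹) * s = s * (H * κ σ * H⁻¹) := by
  rw [← conj_eq_iff]
  calc H * κ σ * H⁻¹ * s * (H * κ σ * H⁻¹)⁻¹ = H * (κ σ * (H⁻¹ * s * H) * (κ σ)⁻¹) * H⁻¹ := by
        group
    _ = s := by rw [S.Hi_s, S.kt, mul_inv_cancel_right, S.Ht]

theorem hk_t (S : Setup Q z s t f H κ c) (σ : alternatingGroup (Fin 8)) :
    (H * κ σ * H⁻¹) * t = t * (H * κ σ * H⁻¹) := by
  rw [← conj_eq_iff]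
  calc H * κ σ * H⁻¹ * t * (H * κ σ * H⁻¹)⁻¹ = H * (κ σ * (H⁻¹ * t * H) * (κ σ)⁻¹) * H⁻¹ := by
        group
    _ = t := by rw [S.Hi_t, S.ks, mul_inv_cancel_right, S.Hs]

theorem comm_mul {a b d : G} (h1 : a * d = d * a) (h2 : b * d = d * b) : a * b * d = d * (a * b) := by
  rw [mul_assoc, h2, ← mul_assoc, h1, mul_assoc]

theorem comm_inv {a d : G} (h1 : a * d = d * a) : a⁻¹ * d = d * a⁻¹ := by
  rw [inv_mul_eq_iff_eq_mul, ← mul_assoc, h1, mul_assoc, mul_inv_cancel, mul_one]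

/-- `g h = c₇` or `z c₇`. -/
theorem q_eq (S : Setup Q z s t f H κ c) :
    κ g0 * (H * κ h0 * H⁻¹) = c 6 ∨ κ g0 * (H * κ h0 * H⁻¹) = c 6 * z := by
  obtain ⟨q, hq⟩ : ∃ q, q = κ g0 * (H * κ h0 * H⁻¹) := ⟨_, rfl⟩
  rw [← hq]
  have h1 : ∀ i, (c 6)⁻¹ * q * c i = c i * ((c 6)⁻¹ * q) := by
    intro i
    have h2 := S.q_conj i
    rw [← hq] at h2
    rw [← conj_eq_iff]
    calc (c 6)⁻¹ * q * c i * ((c 6)⁻¹ * q)⁻¹ = (c 6)⁻¹ * (q * c i * q⁻¹) * c 6 := by group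
      _ = c i := by rw [h2]; group
  have hz : q * z = z * q := by rw [hq]; exact comm_mul (S.kz _) (S.hk_z _)
  have hs : q * s = s * q := by rw [hq]; exact comm_mul (S.ks _) (S.hk_s _)
  have ht : q * t = t * q := by rw [hq]; exact comm_mul (S.kt _) (S.hk_t _)
  rcases S.rig ((c 6)⁻¹ * q) (comm_mul (comm_inv (S.cen _ (S.cQ 6))) hz)
    (comm_mul (comm_inv (S.cs 6)) hs) (comm_mul (comm_inv (S.ct 6)) ht) h1 with h2 | h2
  · left; exact (inv_mul_eq_one.mp h2).symm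
  · right; rw [← h2]; group

theorem comm_of_T {q a b : G} (h1 : q * a * b = 1) (h2 : q⁻¹ * a⁻¹ * b⁻¹ = 1) :
    Commute q a := by
  have h3 : b = a⁻¹ * q⁻¹ := by
    calc b = (q * a)⁻¹ * (q * a * b) := by group
      _ = a⁻¹ * q⁻¹ := by rw [h1]; group
  have h4 : b⁻¹ = a * q := by
    calc b⁻¹ = (q⁻¹ * a⁻¹)⁻¹ * (q⁻¹ * a⁻¹ * b⁻¹) := by group
      _ = a * q := by rw [h2]; group
  show q * a = a * q
  rw [← h4, h3]; group

/-- **The relations.** -/
theorem pre957 (S : Setup Q z s t f H κ c) :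
    Pre957 s t f⁻¹ (H * f⁻¹ * H⁻¹) (κ w0) (κ d0) (κ e0) (κ f0) (κ g0) (H * κ h0 * H⁻¹) := by
  have hst := S.st2
  have hzc : c 6 * z = z * c 6 := S.cen _ (S.cQ 6)
  have hqs : (κ g0 * (H * κ h0 * H⁻¹)) * s = s * (κ g0 * (H * κ h0 * H⁻¹)) :=
    comm_mul (S.ks _) (S.hk_s _)
  have hqt : (κ g0 * (H * κ h0 * H⁻¹)) * t = t * (κ g0 * (H * κ h0 * H⁻¹)) :=
    comm_mul (S.kt _) (S.hk_t _)
  have hqQ : κ g0 * (H * κ h0 * H⁻¹) ∈ Q := by
    rcases S.q_eq with h | h <;> rw [h]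
    · exact S.cQ 6
    · exact mul_mem (S.cQ 6) S.zQ
  have hHqQ : H⁻¹ * (κ g0 * (H * κ h0 * H⁻¹)) * H ∈ Q := by
    have h5 := S.Hi_c 6
    rcases S.q_eq with h | h <;> rw [h]
    · rw [h5]; exact inv_mem (S.cQ _)
    · have : H⁻¹ * (c 6 * z) * H = (H⁻¹ * c 6 * H) * (H⁻¹ * z * H) := by group
      rw [this, h5, S.Hi_z]; exact mul_mem (inv_mem (S.cQ _)) S.zQ
  have hcf : ∀ σ, Commute (κ σ) f := fun σ => S.kf σ
  have hcy : ∀ σ, Commute (H * κ σ * H⁻¹) (H * f⁻¹ * H⁻¹) := fun σ =>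
    comm_conj (hcf σ).inv_right
  obtain ⟨q, hq⟩ : ∃ q, q = κ g0 * (H * κ h0 * H⁻¹) := ⟨_, rfl⟩
  have hTq : q * (f * q * f⁻¹) * (f⁻¹ * q * f) = 1 := by
    rw [hq]; exact S.T _ hqQ hqs
  have hTq' : q⁻¹ * (f * q * f⁻¹)⁻¹ * (f⁻¹ * q * f)⁻¹ = 1 := by
    have h1 := S.T q⁻¹ (inv_mem (by rw [hq]; exact hqQ)) (comm_inv (by rw [hq]; exact hqs))
    rw [← h1]; group
  obtain ⟨q', hq'⟩ : ∃ q', q' = H⁻¹ * q * H := ⟨_, rfl⟩
  have hq'Q : q' ∈ Q := by rw [hq', hq]; exact hHqQ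
  have hq's : q' * s = s * q' := by
    rw [hq', ← conj_eq_iff]
    calc H⁻¹ * q * H * s * (H⁻¹ * q * H)⁻¹ = H⁻¹ * (q * (H * s * H⁻¹) * q⁻¹) * H := by group
      _ = s := by rw [S.Hs, hq, hqt, mul_inv_cancel_right, S.Hi_t]
  have hqq' : q = H * q' * H⁻¹ := by rw [hq']; group
  have hTy : q' * (f * q' * f⁻¹) * (f⁻¹ * q' * f) = 1 := S.T _ hq'Q hq's
  have hTy' : q'⁻¹ * (f * q' * f⁻¹)⁻¹ * (f⁻¹ * q' * f)⁻¹ = 1 := by
    have h1 := S.T q'⁻¹ (inv_mem hq'Q) (comm_inv hq's)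
    rw [← h1]; group
  have hff : f * f * f = 1 := by
    have := S.fff; rwa [pow_succ, sq] at this
  have hzt2 : z * t * (z * t) = 1 := by
    calc z * t * (z * t) = z * (t * z) * t := by group
      _ = (z * z) * (t * t) := by rw [S.tz]; group
      _ = 1 := by rw [S.zz, S.tt, one_mul]
  have hxi : z * t * f⁻¹ * (z * t) = f := by
    have h1 := congrArg (fun u => u⁻¹) S.ft
    simp only [mul_inv_rev, inv_inv] at h1
    rw [S.zi, S.ti] at h1
    rw [S.tz] at h1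
    calc z * t * f⁻¹ * (z * t) = z * t * (f⁻¹ * (z * t)) := by group
      _ = f := h1
  exact
    { s2 := S.ss
      t2 := S.tt
      st4 := by
        have : (s * t) ^ 4 = (s * t) ^ 2 * (s * t) ^ 2 := by rw [← pow_add]
        rw [this, hst, S.zz]
      x3 := by rw [inv_pow, S.fff, inv_one]
      y3 := by rw [conj_pow, inv_pow, S.fff, inv_one]; group
      zx := by rw [hst, inv_inv]; exact S.fz
      sx := by rw [hst, inv_inv]; exact S.fs
      zy := by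
        rw [hst]
        calc (H * f⁻¹ * H⁻¹)⁻¹ * z * (H * f⁻¹ * H⁻¹) = H * (f * (H⁻¹ * z * H) * f⁻¹) * H⁻¹ := by
              group
          _ = t := by rw [S.Hi_z, S.fz, S.Hs]
      ty := by
        rw [hst]
        calc (H * f⁻¹ * H⁻¹)⁻¹ * t * (H * f⁻¹ * H⁻¹) = H * (f * (H⁻¹ * t * H) * f⁻¹) * H⁻¹ := by
              group
          _ = (H * z * H⁻¹) * (H * s * H⁻¹) := by rw [S.Hi_t, S.fs]; group
          _ = z * t := by rw [S.H_z, S.Hs]
      xi := by rw [hst, inv_inv]; exact hxi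
      yi := by
        rw [hst]
        calc z * s * (H * f⁻¹ * H⁻¹) * (z * s)
            = (H * z * H⁻¹) * (H * t * H⁻¹) * (H * f⁻¹ * H⁻¹) * ((H * z * H⁻¹) * (H * t * H⁻¹)) := by
              rw [S.H_z, S.Ht]
          _ = H * (z * t * f⁻¹ * (z * t)) * H⁻¹ := by group
          _ = (H * f⁻¹ * H⁻¹)⁻¹ := by rw [hxi]; group
      w2 := ksq κ (by decide)
      d2 := ksq κ (by decide)
      e2 := ksq κ (by decide)
      f2 := ksq κ (by decide)
      g2 := ksq κ (by decide)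
      h2 := by
        calc H * κ h0 * H⁻¹ * (H * κ h0 * H⁻¹) = H * (κ h0 * κ h0) * H⁻¹ := by group
          _ = 1 := by rw [ksq κ (by decide : h0 * h0 = 1)]; group
      wd := kpow κ (by decide)
      de := kpow κ (by decide)
      ef := kpow κ (by decide)
      fg := kpow κ (by decide)
      fh := by
        rw [← S.Hkf]
        have : H * κ f0 * H⁻¹ * (H * κ h0 * H⁻¹) = H * (κ f0 * κ h0) * H⁻¹ := by group
        rw [this, conj_pow, kpow κ (by decide : (f0 * h0) ^ 3 = 1)]; group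
      we := kcomm κ (by decide)
      wf := kcomm κ (by decide)
      wg := kcomm κ (by decide)
      wh := by rw [← S.Hkw]; exact comm_conj (kcomm κ (by decide))
      df := kcomm κ (by decide)
      dg := kcomm κ (by decide)
      dh := by rw [← S.Hkd']; exact comm_conj (kcomm κ (by decide))
      eg := kcomm κ (by decide)
      eh := by rw [← S.Hke]; exact comm_conj (kcomm κ (by decide))
      ws := S.ks _
      wt := S.kt _
      wx := (hcf _).inv_right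
      wy := by rw [← S.Hkw]; exact hcy _
      ds := S.ks _
      dt := S.kt _
      dx := (hcf _).inv_right
      dy := by rw [← S.Hkd']; exact hcy _
      es := S.ks _
      et := S.kt _
      ex := (hcf _).inv_right
      ey := by rw [← S.Hke]; exact hcy _
      fs := S.ks _
      ft := S.kt _
      fx := (hcf _).inv_right
      fy := by rw [← S.Hkf]; exact hcy _
      gs := S.ks _
      gt := S.kt _
      gx := (hcf _).inv_right
      hs := S.hk_s _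
      ht := S.hk_t _
      hy := hcy _
      q2 := by
        rw [hst, sq]
        rcases S.q_eq with h | h <;> rw [h]
        · exact S.cc 6 (by decide)
        · calc c 6 * z * (c 6 * z) = c 6 * (z * c 6) * z := by group
            _ = (c 6 * c 6) * (z * z) := by rw [← hzc]; group
            _ = z := by rw [S.cc 6 (by decide), S.zz, mul_one]
      qx3 := by rw [← hq, inv_inv]; exact hTq
      qx := by rw [← hq, inv_inv]; exact comm_of_T hTq hTq'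
      qy3 := by
        rw [← hq, hqq']
        calc H * q' * H⁻¹ * ((H * f⁻¹ * H⁻¹)⁻¹ * (H * q' * H⁻¹) * (H * f⁻¹ * H⁻¹)) *
              (H * f⁻¹ * H⁻¹ * (H * q' * H⁻¹) * (H * f⁻¹ * H⁻¹)⁻¹)
            = H * (q' * (f * q' * f⁻¹) * (f⁻¹ * q' * f)) * H⁻¹ := by group
          _ = 1 := by rw [hTy]; group
      qy := by
        rw [← hq, hqq']
        have h1 := comm_conj (g := H) (comm_of_T hTy hTy')
        have h2 : (H * f⁻¹ * H⁻¹)⁻¹ * (H * q' * H⁻¹) * (H * f⁻¹ * H⁻¹) =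
          H * (f * q' * f⁻¹) * H⁻¹ := by group
        rw [h2]; exact h1 }

end Cfsg.Agent.CoOneType.Setup
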