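import Mathlib
import Cfsg.Agent.CoOneType.SetupRel

/-!
# Centralizers in the local set-up
-/

set_option autoImplicit false

namespace Cfsg.Agent.CoOneType.SetupCent

open Equiv Cfsg.Agent.CoOneType.SetupRel

theorem fix_of_commute {σ : Perm (Fin 8)}
    (h1 : ∀ i, σ ((dt 0 1 1 2 (by decide) : Perm (Fin 8)) i) = (dt 0 1 1 2 (by decide) : Perm (Fin 8)) (σ i))
    (h2 : ∀ i, σ ((dt 0 1 1 3 (by decide) : Perm (Fin 8)) i) = (dt 0 1 1 3 (by decide) : Perm (Fin 8)) (σ i))
    (h3 : ∀ i, σ ((dt 0 1 1 4 (by decide) : Perm (Fin 8)) i) = (dt 0 1 1 4 (by decide) : Perm (Fin 8)) (σ i)) :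
    σ 0 = 0 ∧ σ 1 = 1 ∧ σ 2 = 2 ∧ σ 3 = 3 ∧ σ 4 = 4 := by
  have key : ∀ a : Fin 8, (dt 0 1 1 2 (by decide) : Perm (Fin 8)) a ≠ a →
      (dt 0 1 1 2 (by decide) : Perm (Fin 8)) a = (dt 0 1 1 3 (by decide) : Perm (Fin 8)) a →
      (dt 0 1 1 2 (by decide) : Perm (Fin 8)) a = (dt 0 1 1 4 (by decide) : Perm (Fin 8)) a →
      a = 0 := by decide
  have e1 : (dt 0 1 1 2 (by decide) : Perm (Fin 8)) 0 = 1 := by decide
  have e1' : (dt 0 1 1 2 (by decide) : Perm (Fin 8)) 1 = 2 := by decide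
  have e2 : (dt 0 1 1 3 (by decide) : Perm (Fin 8)) 0 = 1 := by decide
  have e2' : (dt 0 1 1 3 (by decide) : Perm (Fin 8)) 1 = 3 := by decide
  have e3 : (dt 0 1 1 4 (by decide) : Perm (Fin 8)) 0 = 1 := by decide
  have e3' : (dt 0 1 1 4 (by decide) : Perm (Fin 8)) 1 = 4 := by decide
  have g1 := h1 0
  have g2 := h2 0
  have g3 := h3 0
  rw [e1] at g1
  rw [e2] at g2
  rw [e3] at g3
  have h01 : σ 0 ≠ σ 1 := fun h => absurd (σ.injective h) (by decide)
  have hσ0 : σ 0 = 0 := key _ (by rw [← g1]; exact h01.symm) (by rw [← g1, ← g2])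
    (by rw [← g1, ← g3])
  have hσ1 : σ 1 = 1 := by rw [g1, hσ0, e1]
  have k1 := h1 1
  have k2 := h2 1
  have k3 := h3 1
  rw [e1', hσ1, e1'] at k1
  rw [e2', hσ1, e2'] at k2
  rw [e3', hσ1, e3'] at k3
  exact ⟨hσ0, hσ1, k1, k2, k3⟩

/-- A permutation commuting with the three-cycles `(0 1 k)`, `k = 2, …, 6`, is the identity. -/
theorem eq_one_of_commute {σ : Perm (Fin 8)}
    (h : ∀ ρ : alternatingGroup (Fin 8), ρ ^ 3 = 1 → (ρ : Perm (Fin 8)) 7 = 7 →
      ∀ i, σ ((ρ : Perm (Fin 8)) i) = (ρ : Perm (Fin 8)) (σ i)) : σ = 1 := by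
  obtain ⟨k0, k1, k2, k3, k4⟩ := fix_of_commute (σ := σ) (h (dt 0 1 1 2 (by decide)) (by decide) (by decide))
    (h (dt 0 1 1 3 (by decide)) (by decide) (by decide))
    (h (dt 0 1 1 4 (by decide)) (by decide) (by decide))
  have e5' : (dt 0 1 1 5 (by decide) : Perm (Fin 8)) 1 = 5 := by decide
  have e6' : (dt 0 1 1 6 (by decide) : Perm (Fin 8)) 1 = 6 := by decide
  have k5 := h (dt 0 1 1 5 (by decide)) (by decide) (by decide) 1
  have k6 := h (dt 0 1 1 6 (by decide)) (by decide) (by decide) 1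
  rw [e5', k1, e5'] at k5
  rw [e6', k1, e6'] at k6
  have hne : ∀ a b : Fin 8, σ a = σ b → a = b := fun a b h => σ.injective h
  have k7 : σ 7 = 7 := by
    have hn : ∀ a : Fin 8, a ≠ 0 ∧ a ≠ 1 ∧ a ≠ 2 ∧ a ≠ 3 ∧ a ≠ 4 ∧ a ≠ 5 ∧ a ≠ 6 → a = 7 := by
      decide
    refine hn _ ⟨?_, ?_, ?_, ?_, ?_, ?_, ?_⟩
    · intro h; exact absurd (hne 7 0 (h.trans k0.symm)) (by decide)
    · intro h; exact absurd (hne 7 1 (h.trans k1.symm)) (by decide)
    · intro h; exact absurd (hne 7 2 (h.trans k2.symm)) (by decide)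
    · intro h; exact absurd (hne 7 3 (h.trans k3.symm)) (by decide)
    · intro h; exact absurd (hne 7 4 (h.trans k4.symm)) (by decide)
    · intro h; exact absurd (hne 7 5 (h.trans k5.symm)) (by decide)
    · intro h; exact absurd (hne 7 6 (h.trans k6.symm)) (by decide)
  apply Equiv.ext
  intro i
  have hi : ∀ j : Fin 8, j = 0 ∨ j = 1 ∨ j = 2 ∨ j = 3 ∨ j = 4 ∨ j = 5 ∨ j = 6 ∨ j = 7 := by decide
  show σ i = i
  rcases hi i with rfl | rfl | rfl | rfl | rfl | rfl | rfl | rfl <;> assumption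

end Cfsg.Agent.CoOneType.SetupCent

namespace Cfsg.Agent.CoOneType.Setup

open Equiv Cfsg.Agent.CoOneType.SetupRel Cfsg.Agent.CoOneType.SetupCent

variable {G : Type*} [Group G] {Q : Subgroup G} {z s t f H : G}
  {κ : alternatingGroup (Fin 8) →* G} {c : Fin 8 → G}

theorem comm_st_z (S : Setup Q z s t f H κ c) {u : G} (hs : u * s = s * u) (ht : u * t = t * u) :
    u * z = z * u := by
  have h1 : Commute u (s * t) := (show Commute u s from hs).mul_right ht
  have h2 : Commute u (s * t * (s * t)) := h1.mul_right h1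
  rw [S.st] at h2
  exact h2

/-- The decomposition in `C_C(D₈) = C_Q(D₈) L` commutes with `κ`. -/
theorem comm_decomp (S : Setup Q z s t f H κ c) {u p : G} {σ ρ ρ' : alternatingGroup (Fin 8)}
    (hp : p ∈ Q) (hu : u = p * κ σ) (hc : u * κ ρ = κ ρ' * u) :
    σ * ρ = ρ' * σ ∧ p * κ ρ' = κ ρ' * p := by
  subst hu
  have h1 : κ (ρ'⁻¹ * (σ * ρ * σ⁻¹)) = ((κ ρ')⁻¹ * p⁻¹ * κ ρ') * p := by
    rw [map_mul, map_inv, map_mul, map_mul, map_inv]
    have h2 : κ σ * κ ρ * (κ σ)⁻¹ = p⁻¹ * κ ρ' * p := by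
      calc κ σ * κ ρ * (κ σ)⁻¹ = p⁻¹ * (p * κ σ * κ ρ) * (κ σ)⁻¹ := by group
        _ = p⁻¹ * κ ρ' * p := by rw [hc]; group
    rw [h2]; group
  have h3 : (κ ρ')⁻¹ * p⁻¹ * κ ρ' ∈ Q := by
    have h4 := S.norm (κ ρ')⁻¹ (comm_inv (S.kz ρ')) p⁻¹ (inv_mem hp)
    rwa [inv_inv] at h4
  have h5 := S.kQ _ (by rw [h1]; exact mul_mem h3 hp)
  have h6 : σ * ρ * σ⁻¹ = ρ' := by
    have := inv_mul_eq_one.mp h5
    exact this.symm
  have h7 : σ * ρ = ρ' * σ := by rw [← h6]; group
  refine ⟨h7, ?_⟩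
  have h8 : p * κ ρ' * κ σ = κ ρ' * p * κ σ := by
    calc p * κ ρ' * κ σ = p * (κ ρ' * κ σ) := by group
      _ = p * κ σ * κ ρ := by rw [← map_mul, ← h7, map_mul]; group
      _ = κ ρ' * (p * κ σ) := hc
      _ = _ := by group
  exact mul_right_cancel h8

/-- The sign by which `p ∈ Q` acts is constant on orbits. -/
theorem sign_const (S : Setup Q z s t f H κ c) {p e : G} {ρ : alternatingGroup (Fin 8)}
    (hpr : p * κ ρ = κ ρ * p) (h7 : (ρ : Perm (Fin 8)) 7 = 7) (he : κ ρ * e = e * κ ρ) {i j : Fin 8}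
    (hij : (ρ : Perm (Fin 8)) i = j) (hi : p * c i * p⁻¹ = e * c i) :
    p * c j * p⁻¹ = e * c j := by
  have h1 := S.kc ρ i
  rw [hij, h7, S.c7, inv_one, mul_one] at h1
  rw [← h1]
  have h2 : p⁻¹ * κ ρ = κ ρ * p⁻¹ := comm_inv hpr
  calc p * (κ ρ * c i * (κ ρ)⁻¹) * p⁻¹ = (p * κ ρ) * c i * (p * κ ρ)⁻¹ := by group
    _ = (κ ρ * p) * c i * (κ ρ * p)⁻¹ := by rw [hpr]
    _ = κ ρ * (p * c i * p⁻¹) * (κ ρ)⁻¹ := by group
    _ = (κ ρ * e) * c i * (κ ρ)⁻¹ := by rw [hi]; group
    _ = _ := by rw [he]; group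

theorem c_ne (S : Setup Q z s t f H κ c) {i : Fin 8} (hi : i ≠ 7) : c i ≠ 1 ∧ c i ≠ z := by
  have h1 := S.cc i hi
  constructor
  · intro h; rw [h, one_mul] at h1; exact S.z1 h1.symm
  · intro h; rw [h, S.zz] at h1; exact S.z1 h1.symm

/-- `c i` and `c j` are different modulo `z`. -/
theorem c_inj (S : Setup Q z s t f H κ c) {i j : Fin 8} (h : c i = c j ∨ c i = z * c j) : i = j := by
  by_contra hij
  by_cases hi : i = 7
  · subst hi
    have hj : j ≠ 7 := fun h => hij h.symm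
    rw [S.c7] at h
    rcases h with h | h
    · exact (S.c_ne hj).1 h.symm
    · apply (S.c_ne hj).2
      calc c j = (z * z) * c j := by rw [S.zz, one_mul]
        _ = z := by rw [mul_assoc, ← h, mul_one]
  · by_cases hj : j = 7
    · subst hj
      rw [S.c7, mul_one] at h
      rcases h with h | h
      · exact (S.c_ne hi).1 h
      · exact (S.c_ne hi).2 h
    · have h1 := S.cij i j hi hj hij
      have h2 : c i * c j = c j * c i := by
        rcases h with h | h
        · rw [h]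
        · have hz : c j * z = z * c j := S.cen _ (S.cQ j)
          rw [h, ← mul_assoc (c j), hz]
      rw [h2] at h1
      exact S.z1 (mul_eq_right.mp h1.symm)

/-- **The centralizer of `C_Q(A₅)` and `A₅`.** -/
theorem mem_of_comm (S : Setup Q z s t f H κ c) {u : G} (hs : u * s = s * u) (ht : u * t = t * u)
    (h5 : u * c 5 = c 5 * u) (h6 : u * c 6 = c 6 * u)
    (hA : ∀ σ : alternatingGroup (Fin 8), σ ^ 3 = 1 → (σ : Perm (Fin 8)) 5 = 5 →
      (σ : Perm (Fin 8)) 6 = 6 → (σ : Perm (Fin 8)) 7 = 7 → u * κ σ = κ σ * u) :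
    u = 1 ∨ u = z := by
  obtain ⟨p, hp, hps, hpt, σ, hσ⟩ := S.cent u (S.comm_st_z hs ht) hs ht
  have hd : ∀ ρ : alternatingGroup (Fin 8), ρ ^ 3 = 1 → (ρ : Perm (Fin 8)) 5 = 5 →
      (ρ : Perm (Fin 8)) 6 = 6 → (ρ : Perm (Fin 8)) 7 = 7 → σ * ρ = ρ * σ ∧ p * κ ρ = κ ρ * p :=
    fun ρ h3 h5 h6 h7 => S.comm_decomp hp hσ (hA ρ h3 h5 h6 h7)
  have hd' : ∀ ρ : alternatingGroup (Fin 8), ρ ^ 3 = 1 → (ρ : Perm (Fin 8)) 5 = 5 →
      (ρ : Perm (Fin 8)) 6 = 6 → (ρ : Perm (Fin 8)) 7 = 7 → ∀ i,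
      (σ : Perm (Fin 8)) ((ρ : Perm (Fin 8)) i) = (ρ : Perm (Fin 8)) ((σ : Perm (Fin 8)) i) := by
    intro ρ h3 h5 h6 h7 i
    have h8 := congrArg (fun a : alternatingGroup (Fin 8) => (a : Perm (Fin 8)) i)
      (hd ρ h3 h5 h6 h7).1
    exact h8
  obtain ⟨k0, k1, k2, k3, k4⟩ := fix_of_commute (σ := σ)
    (hd' (dt 0 1 1 2 (by decide)) (by decide) (by decide) (by decide) (by decide))
    (hd' (dt 0 1 1 3 (by decide)) (by decide) (by decide) (by decide) (by decide))
    (hd' (dt 0 1 1 4 (by decide)) (by decide) (by decide) (by decide) (by decide))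
  -- `σ` on the last three letters
  have hrel : ∀ i, u * c i = c i * u → ∃ e, (e = 1 ∨ e = z) ∧
      c ((σ : Perm (Fin 8)) i) = e * c i * c ((σ : Perm (Fin 8)) 7) := by
    intro i hi
    have h1 := S.kc σ i
    obtain ⟨v, hv⟩ : ∃ v, v = c ((σ : Perm (Fin 8)) i) * (c ((σ : Perm (Fin 8)) 7))⁻¹ := ⟨_, rfl⟩
    have hvQ : v ∈ Q := by rw [hv]; exact mul_mem (S.cQ _) (inv_mem (S.cQ _))
    have h2 : p * v * p⁻¹ = c i := by
      rw [hv, ← h1]
      calc p * (κ σ * c i * (κ σ)⁻¹) * p⁻¹ = u * c i * u⁻¹ := by rw [hσ]; group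
        _ = c i := by rw [hi, mul_inv_cancel_right]
    rcases S.cm p hp v hvQ with h3 | h3
    · refine ⟨1, Or.inl rfl, ?_⟩
      rw [one_mul, ← h2, h3, hv]; group
    · refine ⟨z, Or.inr rfl, ?_⟩
      rw [← h2, h3, hv]
      calc c ((σ : Perm (Fin 8)) i) = (z * z) * c ((σ : Perm (Fin 8)) i) := by rw [S.zz, one_mul]
        _ = _ := by group
  obtain ⟨e6, he6, hr6⟩ := hrel 6 h6
  obtain ⟨e5, he5, hr5⟩ := hrel 5 h5
  have hz5 : c 5 * z = z * c 5 := S.cen _ (S.cQ 5)
  have hz6 : c 6 * z = z * c 6 := S.cen _ (S.cQ 6)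
  have hne : ∀ a b : Fin 8, (σ : Perm (Fin 8)) a = (σ : Perm (Fin 8)) b → a = b := fun a b h =>
    (σ : Perm (Fin 8)).injective h
  -- the image of `7`
  have hσ7 : (σ : Perm (Fin 8)) 7 = 7 := by
    by_contra h7
    have h7' : (σ : Perm (Fin 8)) 7 = 5 ∨ (σ : Perm (Fin 8)) 7 = 6 := by
      have hn : ∀ a : Fin 8, a ≠ 0 → a ≠ 1 → a ≠ 2 → a ≠ 3 → a ≠ 4 → a ≠ 7 → a = 5 ∨ a = 6 := by
        decide
      refine hn _ ?_ ?_ ?_ ?_ ?_ h7
      · intro h; exact absurd (hne 7 0 (h.trans k0.symm)) (by decide)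
      · intro h; exact absurd (hne 7 1 (h.trans k1.symm)) (by decide)
      · intro h; exact absurd (hne 7 2 (h.trans k2.symm)) (by decide)
      · intro h; exact absurd (hne 7 3 (h.trans k3.symm)) (by decide)
      · intro h; exact absurd (hne 7 4 (h.trans k4.symm)) (by decide)
    rcases h7' with h7' | h7'
    · -- `c (σ 5) = e c₅ c₅ = e z`
      rw [h7', mul_assoc, S.cc 5 (by decide)] at hr5
      have h8 : (σ : Perm (Fin 8)) 5 = 7 := by
        apply S.c_inj
        rw [hr5, S.c7, mul_one]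
        rcases he5 with he5 | he5
        · right; rw [he5, one_mul]
        · left; rw [he5]; exact S.zz
      have h9 : (σ : Perm (Fin 8)) 6 = 6 := by
        have hn : ∀ a : Fin 8, a ≠ 0 ∧ a ≠ 1 ∧ a ≠ 2 ∧ a ≠ 3 ∧ a ≠ 4 ∧ a ≠ 7 ∧ a ≠ 5 → a = 6 := by
          decide
        refine hn _ ⟨?_, ?_, ?_, ?_, ?_, ?_, ?_⟩
        · intro h; exact absurd (hne 6 0 (h.trans k0.symm)) (by decide)
        · intro h; exact absurd (hne 6 1 (h.trans k1.symm)) (by decide)
        · intro h; exact absurd (hne 6 2 (h.trans k2.symm)) (by decide)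
        · intro h; exact absurd (hne 6 3 (h.trans k3.symm)) (by decide)
        · intro h; exact absurd (hne 6 4 (h.trans k4.symm)) (by decide)
        · intro h; exact absurd (hne 6 5 (h.trans h8.symm)) (by decide)
        · intro h; exact absurd (hne 6 7 (h.trans h7'.symm)) (by decide)
      rw [h9, h7'] at hr6
      -- `c₆ = e c₆ c₅`
      have h10 : c 5 = 1 ∨ c 5 = z := by
        rcases he6 with he6 | he6
        · left; rw [he6, one_mul] at hr6; exact (left_eq_mul.mp hr6)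
        · right
          rw [he6] at hr6
          have h11 : c 6 = c 6 * (z * c 5) := by
            calc c 6 = z * c 6 * c 5 := hr6
              _ = c 6 * (z * c 5) := by rw [← hz6]; group
          have h12 := left_eq_mul.mp h11
          calc c 5 = (z * z) * c 5 := by rw [S.zz, one_mul]
            _ = z := by rw [mul_assoc, h12, mul_one]
      rcases h10 with h10 | h10
      · exact (S.c_ne (by decide)).1 h10
      · exact (S.c_ne (by decide)).2 h10
    · rw [h7', mul_assoc, S.cc 6 (by decide)] at hr6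
      have h8 : (σ : Perm (Fin 8)) 6 = 7 := by
        apply S.c_inj
        rw [hr6, S.c7, mul_one]
        rcases he6 with he6 | he6
        · right; rw [he6, one_mul]
        · left; rw [he6]; exact S.zz
      have h9 : (σ : Perm (Fin 8)) 5 = 5 := by
        have hn : ∀ a : Fin 8, a ≠ 0 ∧ a ≠ 1 ∧ a ≠ 2 ∧ a ≠ 3 ∧ a ≠ 4 ∧ a ≠ 7 ∧ a ≠ 6 → a = 5 := by
          decide
        refine hn _ ⟨?_, ?_, ?_, ?_, ?_, ?_, ?_⟩
        · intro h; exact absurd (hne 5 0 (h.trans k0.symm)) (by decide)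
        · intro h; exact absurd (hne 5 1 (h.trans k1.symm)) (by decide)
        · intro h; exact absurd (hne 5 2 (h.trans k2.symm)) (by decide)
        · intro h; exact absurd (hne 5 3 (h.trans k3.symm)) (by decide)
        · intro h; exact absurd (hne 5 4 (h.trans k4.symm)) (by decide)
        · intro h; exact absurd (hne 5 6 (h.trans h8.symm)) (by decide)
        · intro h; exact absurd (hne 5 7 (h.trans h7'.symm)) (by decide)
      rw [h9, h7'] at hr5
      have h10 : c 6 = 1 ∨ c 6 = z := by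
        rcases he5 with he5 | he5
        · left; rw [he5, one_mul] at hr5; exact (left_eq_mul.mp hr5)
        · right
          rw [he5] at hr5
          have h11 : c 5 = c 5 * (z * c 6) := by
            calc c 5 = z * c 5 * c 6 := hr5
              _ = c 5 * (z * c 6) := by rw [← hz5]; group
          have h12 := left_eq_mul.mp h11
          calc c 6 = (z * z) * c 6 := by rw [S.zz, one_mul]
            _ = z := by rw [mul_assoc, h12, mul_one]
      rcases h10 with h10 | h10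
      · exact (S.c_ne (by decide)).1 h10
      · exact (S.c_ne (by decide)).2 h10
  have hσ6 : (σ : Perm (Fin 8)) 6 = 6 := by
    rw [hσ7, S.c7, mul_one] at hr6
    apply S.c_inj
    rcases he6 with he6 | he6
    · left; rw [hr6, he6, one_mul]
    · right; rw [hr6, he6]
  have hσ5 : (σ : Perm (Fin 8)) 5 = 5 := by
    rw [hσ7, S.c7, mul_one] at hr5
    apply S.c_inj
    rcases he5 with he5 | he5
    · left; rw [hr5, he5, one_mul]
    · right; rw [hr5, he5]
  have hσ1 : σ = 1 := by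
    apply alt_ext
    intro i
    have hi : ∀ j : Fin 8, j = 0 ∨ j = 1 ∨ j = 2 ∨ j = 3 ∨ j = 4 ∨ j = 5 ∨ j = 6 ∨ j = 7 := by decide
    show (σ : Perm (Fin 8)) i = i
    rcases hi i with rfl | rfl | rfl | rfl | rfl | rfl | rfl | rfl <;> assumption
  have hup : u = p := by rw [hσ, hσ1, map_one, mul_one]
  rw [hup] at h5 h6 ⊢
  -- the sign
  obtain ⟨e, he, h0⟩ : ∃ e, (e = 1 ∨ e = z) ∧ p * c 0 * p⁻¹ = e * c 0 := by
    rcases S.cm p hp (c 0) (S.cQ 0) with h | h
    · exact ⟨1, Or.inl rfl, by rw [h, one_mul]⟩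
    · exact ⟨z, Or.inr rfl, h⟩
  have hke : ∀ ρ, κ ρ * e = e * κ ρ := by
    intro ρ
    rcases he with he | he
    · rw [he, mul_one, one_mul]
    · rw [he]; exact S.kz ρ
  have hall : ∀ i : Fin 8, i.1 < 5 → p * c i * p⁻¹ = e * c i := by
    intro i hi
    have hi' : i = 0 ∨ i = 1 ∨ i = 2 ∨ i = 3 ∨ i = 4 := by
      revert hi; revert i; decide
    rcases hi' with rfl | rfl | rfl | rfl | rfl
    · exact h0
    · exact S.sign_const (hd (dt 0 1 1 2 (by decide)) (by decide) (by decide) (by decide) (by decide)).2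
        (by decide) (hke _) (by decide) h0
    · exact S.sign_const (hd (dt 0 2 2 1 (by decide)) (by decide) (by decide) (by decide) (by decide)).2
        (by decide) (hke _) (by decide) h0
    · exact S.sign_const (hd (dt 0 3 3 1 (by decide)) (by decide) (by decide) (by decide) (by decide)).2
        (by decide) (hke _) (by decide) h0
    · exact S.sign_const (hd (dt 0 4 4 1 (by decide)) (by decide) (by decide) (by decide) (by decide)).2
        (by decide) (hke _) (by decide) h0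
  have he1 : e = 1 := by
    rcases he with he | he
    · exact he
    · exfalso
      have hec : ∀ i, c i * e = e * c i := fun i => by rw [he]; exact S.cen _ (S.cQ i)
      have h5' : p * c 5 * p⁻¹ = c 5 := by rw [h5, mul_inv_cancel_right]
      have h6' : p * c 6 * p⁻¹ = c 6 := by rw [h6, mul_inv_cancel_right]
      have hprod : p * (c 0 * c 1 * c 2 * c 3 * c 4 * c 5 * c 6) * p⁻¹ =
          (e * c 0) * (e * c 1) * (e * c 2) * (e * c 3) * (e * c 4) * c 5 * c 6 := by
        calc p * (c 0 * c 1 * c 2 * c 3 * c 4 * c 5 * c 6) * p⁻¹ =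
            (p * c 0 * p⁻¹) * (p * c 1 * p⁻¹) * (p * c 2 * p⁻¹) * (p * c 3 * p⁻¹) *
              (p * c 4 * p⁻¹) * (p * c 5 * p⁻¹) * (p * c 6 * p⁻¹) := by group
          _ = _ := by
            rw [hall 0 (by decide), hall 1 (by decide), hall 2 (by decide), hall 3 (by decide),
              hall 4 (by decide), h5', h6']
      have hmove : ∀ a : G, a * e = e * a → ∀ i, a * (e * c i) = e * (a * c i) := by
        intro a ha i
        rw [← mul_assoc, ha, mul_assoc]
      have hcomm : ∀ a : G, a * e = e * a → ∀ i, (a * c i) * e = e * (a * c i) := by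
        intro a ha i
        rw [mul_assoc, hec, ← mul_assoc, ha, mul_assoc]
      have q0 := hec 0
      have q1 := hcomm _ q0 1
      have q2 := hcomm _ q1 2
      have q3 := hcomm _ q2 3
      have hee : e * e = 1 := by rw [he]; exact S.zz
      have hp1 : (e * c 0) * (e * c 1) * (e * c 2) * (e * c 3) * (e * c 4) * c 5 * c 6 =
          e * (c 0 * c 1 * c 2 * c 3 * c 4 * c 5 * c 6) := by
        have r1 : (e * c 0) * (e * c 1) = c 0 * c 1 := by
          calc (e * c 0) * (e * c 1) = e * (c 0 * (e * c 1)) := by group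
            _ = e * (e * (c 0 * c 1)) := by rw [hmove _ q0]
            _ = (e * e) * (c 0 * c 1) := by group
            _ = c 0 * c 1 := by rw [hee, one_mul]
        have r2 : (c 0 * c 1) * (e * c 2) * (e * c 3) = c 0 * c 1 * c 2 * c 3 := by
          calc (c 0 * c 1) * (e * c 2) * (e * c 3) = (e * (c 0 * c 1 * c 2)) * (e * c 3) := by
                rw [hmove _ q1]
            _ = e * ((c 0 * c 1 * c 2) * (e * c 3)) := by group
            _ = e * (e * (c 0 * c 1 * c 2 * c 3)) := by rw [hmove _ q2]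
            _ = (e * e) * (c 0 * c 1 * c 2 * c 3) := by group
            _ = _ := by rw [hee, one_mul]
        rw [r1, r2, hmove _ q3]
        group
      rw [hp1, S.prod, mul_one, mul_inv_cancel, mul_one] at hprod
      rw [he] at hprod
      exact S.z1 hprod.symm
  rw [he1] at hall
  refine S.rig p (S.cen p hp) hps hpt (fun i => ?_)
  have hi : ∀ j : Fin 8, j.1 < 5 ∨ j = 5 ∨ j = 6 ∨ j = 7 := by decide
  rcases hi i with h | rfl | rfl | rfl
  · have h1 := hall i h
    rw [one_mul] at h1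
    exact mul_inv_eq_iff_eq_mul.mp h1
  · exact h5
  · exact h6
  · rw [S.c7, mul_one, one_mul]

theorem tst (S : Setup Q z s t f H κ c) : t * s * t⁻¹ = z * s := by
  rw [S.ti]
  have h := S.st
  calc t * s * t = (s * s) * (t * s * t) := by rw [S.ss, one_mul]
    _ = s * (s * t * (s * t)) := by group
    _ = z * s := by rw [h, S.sz]

theorem sts (S : Setup Q z s t f H κ c) : s * t * s⁻¹ = z * t := by
  rw [S.si]
  have h := S.st
  calc s * t * s = s * t * s * (t * t) := by rw [S.tt, mul_one]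
    _ = (s * t * (s * t)) * t := by group
    _ = z * t := by rw [h]

/-- an element of `C_Q(D₈)` commuting with `A₇` is in `{1, z}` -/
theorem mem_of_comm_seven (S : Setup Q z s t f H κ c) {p : G} (hp : p ∈ Q) (hs : p * s = s * p)
    (ht : p * t = t * p) (hA : ∀ σ : alternatingGroup (Fin 8), σ ^ 3 = 1 →
      (σ : Perm (Fin 8)) 7 = 7 → p * κ σ = κ σ * p) : p = 1 ∨ p = z := by
  obtain ⟨e, he, h0⟩ : ∃ e, (e = 1 ∨ e = z) ∧ p * c 0 * p⁻¹ = e * c 0 := by
    rcases S.cm p hp (c 0) (S.cQ 0) with h | h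
    · exact ⟨1, Or.inl rfl, by rw [h, one_mul]⟩
    · exact ⟨z, Or.inr rfl, h⟩
  have hke : ∀ ρ, κ ρ * e = e * κ ρ := by
    intro ρ
    rcases he with he | he
    · rw [he, mul_one, one_mul]
    · rw [he]; exact S.kz ρ
  have hall : ∀ i : Fin 8, i ≠ 7 → p * c i * p⁻¹ = e * c i := by
    intro i hi
    have hi' : i = 0 ∨ i = 1 ∨ i = 2 ∨ i = 3 ∨ i = 4 ∨ i = 5 ∨ i = 6 := by
      revert hi; revert i; decide
    rcases hi' with rfl | rfl | rfl | rfl | rfl | rfl | rfl
    · exact h0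
    · exact S.sign_const (hA (dt 0 1 1 2 (by decide)) (by decide) (by decide))
        (by decide) (hke _) (by decide) h0
    · exact S.sign_const (hA (dt 0 2 2 1 (by decide)) (by decide) (by decide))
        (by decide) (hke _) (by decide) h0
    · exact S.sign_const (hA (dt 0 3 3 1 (by decide)) (by decide) (by decide))
        (by decide) (hke _) (by decide) h0
    · exact S.sign_const (hA (dt 0 4 4 1 (by decide)) (by decide) (by decide))
        (by decide) (hke _) (by decide) h0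
    · exact S.sign_const (hA (dt 0 5 5 1 (by decide)) (by decide) (by decide))
        (by decide) (hke _) (by decide) h0
    · exact S.sign_const (hA (dt 0 6 6 1 (by decide)) (by decide) (by decide))
        (by decide) (hke _) (by decide) h0
  have he1 : e = 1 := by
    rcases he with he | he
    · exact he
    · exfalso
      have hec : ∀ i, c i * e = e * c i := fun i => by rw [he]; exact S.cen _ (S.cQ i)
      have hprod : p * (c 0 * c 1 * c 2 * c 3 * c 4 * c 5 * c 6) * p⁻¹ =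
          (e * c 0) * (e * c 1) * (e * c 2) * (e * c 3) * (e * c 4) * (e * c 5) * (e * c 6) := by
        calc p * (c 0 * c 1 * c 2 * c 3 * c 4 * c 5 * c 6) * p⁻¹ =
            (p * c 0 * p⁻¹) * (p * c 1 * p⁻¹) * (p * c 2 * p⁻¹) * (p * c 3 * p⁻¹) *
              (p * c 4 * p⁻¹) * (p * c 5 * p⁻¹) * (p * c 6 * p⁻¹) := by group
          _ = _ := by
            rw [hall 0 (by decide), hall 1 (by decide), hall 2 (by decide), hall 3 (by decide),
              hall 4 (by decide), hall 5 (by decide), hall 6 (by decide)]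
      have hee : e * e = 1 := by rw [he]; exact S.zz
      have hmove : ∀ a : G, ∀ i, a * e = e * a → a * (e * c i) = e * (a * c i) := by
        intro a i ha
        rw [← mul_assoc, ha, mul_assoc]
      have hpair : ∀ a : G, a * e = e * a → ∀ i j, a * (e * c i) * (e * c j) = a * c i * c j := by
        intro a ha i j
        have h1 : a * (e * c i) = e * (a * c i) := hmove a i ha
        have h2 : (a * c i) * e = e * (a * c i) := by
          rw [mul_assoc, hec, ← mul_assoc, ha, mul_assoc]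
        rw [h1, mul_assoc, hmove _ j h2, ← mul_assoc, hee, one_mul]
      have hcm : ∀ a : G, a * e = e * a → ∀ i, (a * c i) * e = e * (a * c i) := by
        intro a ha i
        rw [mul_assoc, hec, ← mul_assoc, ha, mul_assoc]
      have hp1 : (e * c 0) * (e * c 1) * (e * c 2) * (e * c 3) * (e * c 4) * (e * c 5) * (e * c 6) =
          e * (c 0 * c 1 * c 2 * c 3 * c 4 * c 5 * c 6) := by
        rw [hpair (e * c 0) (hcm e rfl 0) 1 2]
        have g2 : (e * c 0 * c 1 * c 2) * e = e * (e * c 0 * c 1 * c 2) :=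
          hcm _ (hcm _ (hcm e rfl 0) 1) 2
        rw [hpair _ g2 3 4]
        have g4 : (e * c 0 * c 1 * c 2 * c 3 * c 4) * e = e * (e * c 0 * c 1 * c 2 * c 3 * c 4) :=
          hcm _ (hcm _ g2 3) 4
        rw [hpair _ g4 5 6]
        group
      rw [hp1, S.prod, mul_one, mul_inv_cancel, mul_one] at hprod
      rw [he] at hprod
      exact S.z1 hprod.symm
  rw [he1] at hall
  refine S.rig p (S.cen p hp) hs ht (fun i => ?_)
  by_cases hi : i = 7
  · rw [hi, S.c7, mul_one, one_mul]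
  · have h1 := hall i hi
    rw [one_mul] at h1
    exact mul_inv_eq_iff_eq_mul.mp h1

/-- `C_Q(A₇) = D₈`. -/
theorem mem_D (S : Setup Q z s t f H κ c) {p : G} (hp : p ∈ Q)
    (hA : ∀ σ : alternatingGroup (Fin 8), σ ^ 3 = 1 → (σ : Perm (Fin 8)) 7 = 7 →
      p * κ σ = κ σ * p) : ∃ a b e, (a = 1 ∨ a = t) ∧ (b = 1 ∨ b = s) ∧ (e = 1 ∨ e = z) ∧
      p = a * b * e := by
  have h1 : ∃ a, (a = 1 ∨ a = t) ∧ (a * p) * s = s * (a * p) := by
    rcases S.cm p hp s S.sQ with h | h
    · exact ⟨1, Or.inl rfl, by rw [one_mul]; exact mul_inv_eq_iff_eq_mul.mp h⟩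
    · refine ⟨t, Or.inr rfl, ?_⟩
      rw [← conj_eq_iff]
      calc t * p * s * (t * p)⁻¹ = t * (p * s * p⁻¹) * t⁻¹ := by group
        _ = (t * z) * s * t⁻¹ := by rw [h]; group
        _ = z * (t * s * t⁻¹) := by rw [S.tz]; group
        _ = s := by rw [S.tst, ← mul_assoc, S.zz, one_mul]
  obtain ⟨a, ha, h1⟩ := h1
  have haQ : a ∈ Q := by
    rcases ha with rfl | rfl
    · exact one_mem _
    · exact S.tQ
  have hak : ∀ σ, a * κ σ = κ σ * a := by
    intro σ
    rcases ha with rfl | rfl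
    · simp
    · exact (S.kt σ).symm
  have h2 : ∃ b, (b = 1 ∨ b = s) ∧ (b * (a * p)) * t = t * (b * (a * p)) := by
    rcases S.cm (a * p) (mul_mem haQ hp) t S.tQ with h | h
    · exact ⟨1, Or.inl rfl, by rw [one_mul]; exact mul_inv_eq_iff_eq_mul.mp h⟩
    · refine ⟨s, Or.inr rfl, ?_⟩
      rw [← conj_eq_iff]
      calc s * (a * p) * t * (s * (a * p))⁻¹ = s * (a * p * t * (a * p)⁻¹) * s⁻¹ := by group
        _ = (s * z) * t * s⁻¹ := by rw [h]; group
        _ = z * (s * t * s⁻¹) := by rw [S.sz]; group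
        _ = t := by rw [S.sts, ← mul_assoc, S.zz, one_mul]
  obtain ⟨b, hb, h2⟩ := h2
  have hbQ : b ∈ Q := by
    rcases hb with rfl | rfl
    · exact one_mem _
    · exact S.sQ
  have hbs : b * s = s * b := by
    rcases hb with rfl | rfl
    · simp
    · rfl
  have hbk : ∀ σ, b * κ σ = κ σ * b := by
    intro σ
    rcases hb with rfl | rfl
    · simp
    · exact (S.ks σ).symm
  have h3 := S.mem_of_comm_seven (p := b * (a * p)) (mul_mem hbQ (mul_mem haQ hp))
    (comm_mul hbs h1) h2 (fun σ h3 h7 => comm_mul (hbk σ) (comm_mul (hak σ) (hA σ h3 h7)))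
  have hai : a⁻¹ = a := by
    rcases ha with rfl | rfl
    · exact inv_one
    · exact S.ti
  have hbi : b⁻¹ = b := by
    rcases hb with rfl | rfl
    · exact inv_one
    · exact S.si
  refine ⟨a, b, b * (a * p), ha, hb, h3, ?_⟩
  calc p = a⁻¹ * b⁻¹ * (b * (a * p)) := by group
    _ = _ := by rw [hai, hbi]

/-- The images of `s` and `t` under `C_{C(z)}(A₇)`. -/
theorem mem_four (S : Setup Q z s t f H κ c) {p : G} (hp : p ∈ Q)
    (hA : ∀ σ : alternatingGroup (Fin 8), σ ^ 3 = 1 → (σ : Perm (Fin 8)) 7 = 7 →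
      p * κ σ = κ σ * p) (hpp : p * p = 1) (h1 : p ≠ 1) (h2 : p ≠ z) :
    (p = s ∨ p = z * s) ∨ (p = t ∨ p = z * t) := by
  obtain ⟨a, b, e, ha, hb, he, rfl⟩ := S.mem_D hp hA
  have hez : ∀ x, x ∈ Q → x * e = e * x := by
    intro x hx
    rcases he with rfl | rfl
    · simp
    · exact S.cen x hx
  rcases ha with rfl | rfl <;> rcases hb with rfl | rfl
  · exfalso
    rw [one_mul, one_mul] at h1 h2
    rcases he with he | he
    · exact h1 he
    · exact h2 he
  · left
    rw [one_mul]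
    rcases he with rfl | rfl
    · left; rw [mul_one]
    · right; exact S.sz
  · right
    rw [mul_one]
    rcases he with rfl | rfl
    · left; rw [mul_one]
    · right; exact S.tz
  · exfalso
    have h3 : a * b * e * (a * b * e) = (a * b) * (a * b) * (e * e) := by
      calc a * b * e * (a * b * e) = a * b * (e * (a * b)) * e := by group
        _ = a * b * ((a * b) * e) * e := by rw [hez _ (mul_mem S.tQ S.sQ)]
        _ = _ := by group
    have h4 : e * e = 1 := by
      rcases he with rfl | rfl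
      · simp
      · exact S.zz
    rw [h3, h4, mul_one] at hpp
    have h5 : b * a * (b * a) = (a * b * (a * b))⁻¹ := by
      rw [mul_inv_rev, mul_inv_rev, S.si, S.ti]
    rw [hpp, inv_one, S.st] at h5
    exact S.z1 h5

/-- **`C_{C(z)}(A₇) = D₈`.** -/
theorem mem_closure_of_comm (S : Setup Q z s t f H κ c) {u : G} (hz : u * z = z * u)
    (hA : ∀ σ : alternatingGroup (Fin 8), σ ^ 3 = 1 → (σ : Perm (Fin 8)) 7 = 7 →
      u * κ σ = κ σ * u) : u ∈ Subgroup.closure ({s, t} : Set G) := by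
  have hsC : s ∈ Subgroup.closure ({s, t} : Set G) := Subgroup.subset_closure (by simp)
  have htC : t ∈ Subgroup.closure ({s, t} : Set G) := Subgroup.subset_closure (by simp)
  have hzC : z ∈ Subgroup.closure ({s, t} : Set G) := by
    rw [← S.st]; exact mul_mem (mul_mem hsC htC) (mul_mem hsC htC)
  have hconj : ∀ v : G, v * z = z * v → (∀ σ : alternatingGroup (Fin 8), σ ^ 3 = 1 →
      (σ : Perm (Fin 8)) 7 = 7 → v * κ σ = κ σ * v) → ∀ r ∈ Q, (∀ σ, κ σ * r = r * κ σ) →
      r * r = 1 → r ≠ 1 → r ≠ z → (v * r * v⁻¹ = s ∨ v * r * v⁻¹ = z * s) ∨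
        (v * r * v⁻¹ = t ∨ v * r * v⁻¹ = z * t) := by
    intro v hv hvA r hr hrk hrr hr1 hrz
    refine S.mem_four (S.norm v hv r hr) ?_ ?_ ?_ ?_
    · intro σ h3 h7
      rw [← conj_eq_iff]
      have h8 := hvA σ h3 h7
      have h9 : v⁻¹ * κ σ = κ σ * v⁻¹ := comm_inv h8
      calc v * r * v⁻¹ * κ σ * (v * r * v⁻¹)⁻¹ = v * r * (v⁻¹ * κ σ) * v * r⁻¹ * v⁻¹ := by group
        _ = v * (r * κ σ) * r⁻¹ * v⁻¹ := by rw [h9]; group
        _ = (v * κ σ) * v⁻¹ := by rw [← hrk σ]; group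
        _ = κ σ := by rw [h8]; group
    · calc v * r * v⁻¹ * (v * r * v⁻¹) = v * (r * r) * v⁻¹ := by group
        _ = 1 := by rw [hrr]; group
    · intro h
      apply hr1
      calc r = v⁻¹ * (v * r * v⁻¹) * v := by group
        _ = 1 := by rw [h]; group
    · intro h
      apply hrz
      calc r = v⁻¹ * (v * r * v⁻¹) * v := by group
        _ = v⁻¹ * (z * v) := by rw [h]; group
        _ = z := by rw [← hv]; group
  have hs1 : s ≠ 1 := by
    intro h
    have := S.st
    rw [h, one_mul, S.tt] at this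
    exact S.z1 this.symm
  have ht1 : t ≠ 1 := by
    intro h
    have := S.st
    rw [h, mul_one, S.ss] at this
    exact S.z1 this.symm
  have hnc : s * t ≠ t * s := by
    intro h
    have h1 := S.st
    have h2 : s * t * (s * t) = (s * s) * (t * t) := by
      calc s * t * (s * t) = s * (t * s) * t := by group
        _ = (s * s) * (t * t) := by rw [← h]; group
    rw [h2, S.ss, S.tt, one_mul] at h1
    exact S.z1 h1.symm
  have hsz' : s ≠ z := by
    intro h
    apply hnc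
    rw [h]; exact (S.tz).symm
  have htz' : t ≠ z := by
    intro h
    apply hnc
    rw [h]; exact S.sz
  -- elements fixing `s` and `t`
  have hfix : ∀ v : G, v * z = z * v → (∀ σ : alternatingGroup (Fin 8), σ ^ 3 = 1 →
      (σ : Perm (Fin 8)) 7 = 7 → v * κ σ = κ σ * v) → v * s = s * v → v * t = t * v →
      v ∈ Subgroup.closure ({s, t} : Set G) := by
    intro v hv hvA hvs hvt
    obtain ⟨p, hp, hps, hpt, σ, hσ⟩ := S.cent v hv hvs hvt
    have hd : ∀ ρ : alternatingGroup (Fin 8), ρ ^ 3 = 1 → (ρ : Perm (Fin 8)) 7 = 7 →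
        σ * ρ = ρ * σ ∧ p * κ ρ = κ ρ * p := fun ρ h3 h7 => S.comm_decomp hp hσ (hvA ρ h3 h7)
    have hσ1 : (σ : Perm (Fin 8)) = 1 := by
      apply eq_one_of_commute
      intro ρ h3 h7 i
      exact congrArg (fun a : alternatingGroup (Fin 8) => (a : Perm (Fin 8)) i) (hd ρ h3 h7).1
    have hσ1' : σ = 1 := Subtype.ext hσ1
    have hvp : v = p := by rw [hσ, hσ1', map_one, mul_one]
    rcases S.mem_of_comm_seven hp hps hpt (fun σ h3 h7 => (hd σ h3 h7).2) with h | h
    · rw [hvp, h]; exact one_mem _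
    · rw [hvp, h]; exact hzC
  -- elements swapping `s` and `t`
  have hswap : ∀ v : G, v * z = z * v → (∀ σ : alternatingGroup (Fin 8), σ ^ 3 = 1 →
      (σ : Perm (Fin 8)) 7 = 7 → v * κ σ = κ σ * v) → v * s * v⁻¹ = t → v * t * v⁻¹ = s → False := by
    intro v hv hvA hvs hvt
    obtain ⟨w, hw⟩ : ∃ w, w = H⁻¹ * v := ⟨_, rfl⟩
    have hvw : v = H * w := by rw [hw]; group
    have hwz : w * z = z * w := by
      rw [hw]; exact comm_mul (comm_inv S.Hz) hv
    have hws : w * s = s * w := by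
      rw [← conj_eq_iff, hw]
      calc H⁻¹ * v * s * (H⁻¹ * v)⁻¹ = H⁻¹ * (v * s * v⁻¹) * H := by group
        _ = s := by rw [hvs, S.Hi_t]
    have hwt : w * t = t * w := by
      rw [← conj_eq_iff, hw]
      calc H⁻¹ * v * t * (H⁻¹ * v)⁻¹ = H⁻¹ * (v * t * v⁻¹) * H := by group
        _ = t := by rw [hvt, S.Hi_s]
    obtain ⟨p, hp, hps, hpt, σ, hσ⟩ := S.cent w hwz hws hwt
    have hd : ∀ ρ : alternatingGroup (Fin 8), ρ ^ 3 = 1 → (ρ : Perm (Fin 8)) 7 = 7 →
        σ * ρ = tc ρ * σ := by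
      intro ρ h3 h7
      have h77 : tau67 7 = 7 := by decide
      have h3' : (tc ρ) ^ 3 = 1 := by rw [← map_pow, h3, map_one]
      have h7' : ((tc ρ : alternatingGroup (Fin 8)) : Perm (Fin 8)) 7 = 7 := by
        rw [tc_apply, h77, h7, h77]
      have htt : tc (tc ρ) = ρ := alt_ext fun i => by
        rw [tc_apply, tc_apply, tau_tau, tau_tau]
      have h8 := S.Hk3 (tc ρ) h3' h7'
      rw [htt] at h8
      refine (S.comm_decomp hp hσ (ρ := ρ) (ρ' := tc ρ) ?_).1
      have h9 := hvA ρ h3 h7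
      calc w * κ ρ = H⁻¹ * (v * κ ρ) := by rw [hw]; group
        _ = H⁻¹ * (H * κ (tc ρ) * H⁻¹) * v := by rw [h9, ← h8]; group
        _ = κ (tc ρ) * w := by rw [hw]; group
    have hτ : tau67 * (σ : Perm (Fin 8)) = 1 := by
      apply eq_one_of_commute
      intro ρ h3 h7 i
      have h8 := congrArg (fun a : alternatingGroup (Fin 8) => (a : Perm (Fin 8)) i) (hd ρ h3 h7)
      have h9 : (σ : Perm (Fin 8)) ((ρ : Perm (Fin 8)) i) =
          tau67 ((ρ : Perm (Fin 8)) (tau67 ((σ : Perm (Fin 8)) i))) := by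
        rw [← tc_apply]; exact h8
      rw [Perm.mul_apply, Perm.mul_apply, h9, tau_tau]
    have hsg := congrArg Perm.sign hτ
    rw [Perm.sign_mul, Perm.mem_alternatingGroup.mp σ.2, Perm.sign_swap (by decide), map_one] at hsg
    exact absurd hsg (by decide)
  rcases hconj u hz hA s S.sQ S.ks S.ss hs1 hsz' with hus | hus
  · -- `u` fixes `s` up to `z`
    obtain ⟨a, ha, hau⟩ : ∃ a, (a = 1 ∨ a = t) ∧ (a * u) * s * (a * u)⁻¹ = s := by
      rcases hus with h | h
      · exact ⟨1, Or.inl rfl, by rw [one_mul]; exact h⟩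
      · refine ⟨t, Or.inr rfl, ?_⟩
        calc t * u * s * (t * u)⁻¹ = t * (u * s * u⁻¹) * t⁻¹ := by group
          _ = (t * z) * s * t⁻¹ := by rw [h]; group
          _ = z * (t * s * t⁻¹) := by rw [S.tz]; group
          _ = s := by rw [S.tst, ← mul_assoc, S.zz, one_mul]
    have haz : a * z = z * a := by
      rcases ha with rfl | rfl
      · simp
      · exact S.tz
    have hak : ∀ σ, a * κ σ = κ σ * a := by
      intro σ
      rcases ha with rfl | rfl
      · simp
      · exact (S.kt σ).symm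
    have haC : a ∈ Subgroup.closure ({s, t} : Set G) := by
      rcases ha with rfl | rfl
      · exact one_mem _
      · exact htC
    have huz' := comm_mul haz hz
    have huA' : ∀ σ : alternatingGroup (Fin 8), σ ^ 3 = 1 → (σ : Perm (Fin 8)) 7 = 7 →
      a * u * κ σ = κ σ * (a * u) := fun σ h3 h7 => comm_mul (hak σ) (hA σ h3 h7)
    obtain ⟨b, hb, hbu⟩ : ∃ b, (b = 1 ∨ b = s) ∧ (b * (a * u)) * t * (b * (a * u))⁻¹ = t := by
      rcases hconj (a * u) huz' huA' t S.tQ S.kt S.tt ht1 htz' with h | h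
      · exfalso
        apply hnc
        have h9 : (a * u) * t * (a * u)⁻¹ * ((a * u) * s * (a * u)⁻¹) =
            ((a * u) * s * (a * u)⁻¹) * ((a * u) * t * (a * u)⁻¹) := by
          rw [hau]
          rcases h with h | h <;> rw [h]
          rw [mul_assoc, ← mul_assoc s z s, S.sz]; group
        have h10 : (a * u) * (t * s) * (a * u)⁻¹ = (a * u) * (s * t) * (a * u)⁻¹ := by
          calc (a * u) * (t * s) * (a * u)⁻¹ =
              (a * u) * t * (a * u)⁻¹ * ((a * u) * s * (a * u)⁻¹) := by group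
            _ = _ := by rw [h9]; group
        exact (mul_left_cancel (mul_right_cancel h10)).symm
      · rcases h with h | h
        · exact ⟨1, Or.inl rfl, by rw [one_mul]; exact h⟩
        · refine ⟨s, Or.inr rfl, ?_⟩
          calc s * (a * u) * t * (s * (a * u))⁻¹ = s * (a * u * t * (a * u)⁻¹) * s⁻¹ := by group
            _ = (s * z) * t * s⁻¹ := by rw [h]; group
            _ = z * (s * t * s⁻¹) := by rw [S.sz]; group
            _ = t := by rw [S.sts, ← mul_assoc, S.zz, one_mul]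
    have hbz : b * z = z * b := by
      rcases hb with rfl | rfl
      · simp
      · exact S.sz
    have hbs : b * s = s * b := by
      rcases hb with rfl | rfl
      · simp
      · rfl
    have hbk : ∀ σ, b * κ σ = κ σ * b := by
      intro σ
      rcases hb with rfl | rfl
      · simp
      · exact (S.ks σ).symm
    have hbC : b ∈ Subgroup.closure ({s, t} : Set G) := by
      rcases hb with rfl | rfl
      · exact one_mem _
      · exact hsC
    have hmem := hfix (b * (a * u)) (comm_mul hbz huz')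
      (fun σ h3 h7 => comm_mul (hbk σ) (huA' σ h3 h7)) (comm_mul hbs (conj_eq_iff.mp hau))
      (conj_eq_iff.mp hbu)
    have h11 : u = a⁻¹ * (b⁻¹ * (b * (a * u))) := by group
    rw [h11]
    exact mul_mem (inv_mem haC) (mul_mem (inv_mem hbC) hmem)
  · -- `u` maps `s` to `t` up to `z`: impossible
    exfalso
    obtain ⟨a, ha, hau⟩ : ∃ a, (a = 1 ∨ a = s) ∧ (a * u) * s * (a * u)⁻¹ = t := by
      rcases hus with h | h
      · exact ⟨1, Or.inl rfl, by rw [one_mul]; exact h⟩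
      · refine ⟨s, Or.inr rfl, ?_⟩
        calc s * u * s * (s * u)⁻¹ = s * (u * s * u⁻¹) * s⁻¹ := by group
          _ = (s * z) * t * s⁻¹ := by rw [h]; group
          _ = z * (s * t * s⁻¹) := by rw [S.sz]; group
          _ = t := by rw [S.sts, ← mul_assoc, S.zz, one_mul]
    have haz : a * z = z * a := by
      rcases ha with rfl | rfl
      · simp
      · exact S.sz
    have hak : ∀ σ, a * κ σ = κ σ * a := by
      intro σ
      rcases ha with rfl | rfl
      · simp
      · exact (S.ks σ).symm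
    have huz' := comm_mul haz hz
    have huA' : ∀ σ : alternatingGroup (Fin 8), σ ^ 3 = 1 → (σ : Perm (Fin 8)) 7 = 7 →
      a * u * κ σ = κ σ * (a * u) := fun σ h3 h7 => comm_mul (hak σ) (hA σ h3 h7)
    obtain ⟨b, hb, hbu⟩ : ∃ b, (b = 1 ∨ b = t) ∧ (b * (a * u)) * t * (b * (a * u))⁻¹ = s := by
      rcases hconj (a * u) huz' huA' t S.tQ S.kt S.tt ht1 htz' with h | h
      · rcases h with h | h
        · exact ⟨1, Or.inl rfl, by rw [one_mul]; exact h⟩
        · refine ⟨t, Or.inr rfl, ?_⟩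
          calc t * (a * u) * t * (t * (a * u))⁻¹ = t * (a * u * t * (a * u)⁻¹) * t⁻¹ := by group
            _ = (t * z) * s * t⁻¹ := by rw [h]; group
            _ = z * (t * s * t⁻¹) := by rw [S.tz]; group
            _ = s := by rw [S.tst, ← mul_assoc, S.zz, one_mul]
      · exfalso
        apply hnc
        have h9 : (a * u) * t * (a * u)⁻¹ * ((a * u) * s * (a * u)⁻¹) =
            ((a * u) * s * (a * u)⁻¹) * ((a * u) * t * (a * u)⁻¹) := by
          rw [hau]
          rcases h with h | h <;> rw [h]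
          rw [mul_assoc, ← mul_assoc t z t, S.tz]; group
        have h10 : (a * u) * (t * s) * (a * u)⁻¹ = (a * u) * (s * t) * (a * u)⁻¹ := by
          calc (a * u) * (t * s) * (a * u)⁻¹ =
              (a * u) * t * (a * u)⁻¹ * ((a * u) * s * (a * u)⁻¹) := by group
            _ = _ := by rw [h9]; group
        exact (mul_left_cancel (mul_right_cancel h10)).symm
    have hbz : b * z = z * b := by
      rcases hb with rfl | rfl
      · simp
      · exact S.tz
    have hbt : b * t * b⁻¹ = t := by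
      rcases hb with rfl | rfl
      · simp
      · group
    have hbk : ∀ σ, b * κ σ = κ σ * b := by
      intro σ
      rcases hb with rfl | rfl
      · simp
      · exact (S.kt σ).symm
    refine hswap (b * (a * u)) (comm_mul hbz huz')
      (fun σ h3 h7 => comm_mul (hbk σ) (huA' σ h3 h7)) ?_ hbu
    calc b * (a * u) * s * (b * (a * u))⁻¹ = b * (a * u * s * (a * u)⁻¹) * b⁻¹ := by group
      _ = t := by rw [hau, hbt]

end Cfsg.Agent.CoOneType.Setup

/-! ### The element `K` -/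

namespace Cfsg.Agent.CoOneType.SetupCent

open Equiv Cfsg.Agent.CoOneType.SetupRel

/-- conjugation by `(1 2)` -/
def sc : alternatingGroup (Fin 8) →* alternatingGroup (Fin 8) :=
  (MulAut.conjNormal (H := alternatingGroup (Fin 8)) (swap (0 : Fin 8) 1)).toMonoidHom

theorem sc_coe (σ : alternatingGroup (Fin 8)) :
    ((sc σ : alternatingGroup (Fin 8)) : Perm (Fin 8)) =
      swap 0 1 * (σ : Perm (Fin 8)) * (swap 0 1)⁻¹ :=
  MulAut.conjNormal_apply _ _

theorem swap_comm {σ : Perm (Fin 8)} {a b : Fin 8} (ha : σ a = a) (hb : σ b = b) :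
    swap a b * σ = σ * swap a b := by
  have h := Equiv.swap_apply_apply σ a b
  rw [ha, hb] at h
  exact eq_mul_inv_iff_mul_eq.mp h

theorem dt_sc {σ : alternatingGroup (Fin 8)} {a b : Fin 8} (h : (0 : Fin 8) ≠ 1 ∧ a ≠ b)
    (ha : (σ : Perm (Fin 8)) a = a) (hb : (σ : Perm (Fin 8)) b = b) :
    dt 0 1 a b h * σ = sc σ * dt 0 1 a b h := by
  apply Subtype.ext
  show (swap 0 1 * swap a b) * (σ : Perm (Fin 8)) =
    ((sc σ : alternatingGroup (Fin 8)) : Perm (Fin 8)) * (swap 0 1 * swap a b)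
  rw [sc_coe, mul_assoc, swap_comm ha hb]
  group

theorem sc_fix {σ : alternatingGroup (Fin 8)} {a : Fin 8} (h0 : a ≠ 0) (h1 : a ≠ 1)
    (ha : (σ : Perm (Fin 8)) a = a) : ((sc σ : alternatingGroup (Fin 8)) : Perm (Fin 8)) a = a := by
  rw [sc_coe, swap_inv, Perm.mul_apply, Perm.mul_apply, swap_apply_of_ne_of_ne h0 h1, ha,
    swap_apply_of_ne_of_ne h0 h1]

theorem conj_conj_aux {E : Type*} [Group E] (a r : E) (h : a * a = 1) : a * (a * r * a) * a = r := by
  calc a * (a * r * a) * a = (a * a) * r * (a * a) := by group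
    _ = r := by rw [h, one_mul, mul_one]

theorem sc_sc (σ : alternatingGroup (Fin 8)) : sc (sc σ) = σ := by
  apply Subtype.ext
  rw [sc_coe, sc_coe, swap_inv]
  exact conj_conj_aux _ _ (swap_mul_self (0 : Fin 8) 1)

theorem tc_of_fix {σ : alternatingGroup (Fin 8)} (h5 : (σ : Perm (Fin 8)) 5 = 5)
    (h6 : (σ : Perm (Fin 8)) 6 = 6) : tc σ = σ := by
  apply Subtype.ext
  rw [tc_coe, swap_comm h5 h6]
  group

end Cfsg.Agent.CoOneType.SetupCent

namespace Cfsg.Agent.CoOneType.Setup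

open Equiv Cfsg.Agent.CoOneType.SetupRel Cfsg.Agent.CoOneType.SetupCent

variable {G : Type*} [Group G] {Q : Subgroup G} {z s t f H : G}
  {κ : alternatingGroup (Fin 8) →* G} {c : Fin 8 → G}

/-- the elements of order three of `A₅` -/
def Five (σ : alternatingGroup (Fin 8)) : Prop :=
  σ ^ 3 = 1 ∧ (σ : Perm (Fin 8)) 5 = 5 ∧ (σ : Perm (Fin 8)) 6 = 6 ∧ (σ : Perm (Fin 8)) 7 = 7

theorem Five.sc {σ : alternatingGroup (Fin 8)} (h : Five σ) : Five (sc σ) :=
  ⟨by rw [← map_pow, h.1, map_one], sc_fix (by decide) (by decide) h.2.1,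
    sc_fix (by decide) (by decide) h.2.2.1, sc_fix (by decide) (by decide) h.2.2.2⟩

/-- `u` acts on `κ(A₅)` as the transposition `(1 2)`. -/
def Sh (κ : alternatingGroup (Fin 8) →* G) (u : G) : Prop :=
  ∀ σ, Five σ → u * κ σ = κ (sc σ) * u

/-- `u` centralizes `κ(A₅)`. -/
def Ce (κ : alternatingGroup (Fin 8) →* G) (u : G) : Prop :=
  ∀ σ, Five σ → u * κ σ = κ σ * u

theorem Sh.mul {u v : G} (hu : Sh κ u) (hv : Sh κ v) : Ce κ (u * v) := by
  intro σ hσ
  rw [mul_assoc, hv σ hσ, ← mul_assoc, hu _ hσ.sc, sc_sc, mul_assoc]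

theorem Ce.mul {u v : G} (hu : Ce κ u) (hv : Ce κ v) : Ce κ (u * v) := by
  intro σ hσ
  rw [mul_assoc, hv σ hσ, ← mul_assoc, hu σ hσ, mul_assoc]

theorem Ce.inv {u : G} (hu : Ce κ u) : Ce κ u⁻¹ := fun σ hσ => comm_inv (hu σ hσ)

theorem Ce.mul_sh {u v : G} (hu : Ce κ u) (hv : Sh κ v) : Sh κ (u * v) := by
  intro σ hσ
  rw [mul_assoc, hv σ hσ, ← mul_assoc, hu _ hσ.sc, mul_assoc]

theorem Sh.mul_ce {u v : G} (hu : Sh κ u) (hv : Ce κ v) : Sh κ (u * v) := by
  intro σ hσ
  rw [mul_assoc, hv σ hσ, ← mul_assoc, hu σ hσ, mul_assoc]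

theorem sh_f (_ : Setup Q z s t f H κ c) : Sh κ (κ f0) := by
  intro σ hσ
  rw [← map_mul, ← map_mul]
  exact congrArg κ (dt_sc _ hσ.2.1 hσ.2.2.1)

theorem sh_g (_ : Setup Q z s t f H κ c) : Sh κ (κ g0) := by
  intro σ hσ
  rw [← map_mul, ← map_mul]
  exact congrArg κ (dt_sc _ hσ.2.2.1 hσ.2.2.2)

theorem Hk5 (S : Setup Q z s t f H κ c) {σ : alternatingGroup (Fin 8)} (hσ : Five σ) :
    κ σ = H * κ σ * H⁻¹ := by
  rw [S.Hk3 σ hσ.1 hσ.2.2.2, tc_of_fix hσ.2.1 hσ.2.2.1]

theorem sh_h (S : Setup Q z s t f H κ c) : Sh κ (H * κ h0 * H⁻¹) := by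
  intro σ hσ
  have h1 : κ h0 * κ σ = κ (sc σ) * κ h0 := by
    rw [← map_mul, ← map_mul]
    exact congrArg κ (dt_sc _ hσ.2.1 hσ.2.2.2)
  calc H * κ h0 * H⁻¹ * κ σ = H * κ h0 * H⁻¹ * (H * κ σ * H⁻¹) := by rw [← S.Hk5 hσ]
    _ = H * (κ h0 * κ σ) * H⁻¹ := by group
    _ = (H * κ (sc σ) * H⁻¹) * (H * κ h0 * H⁻¹) := by rw [h1]; group
    _ = κ (sc σ) * (H * κ h0 * H⁻¹) := by rw [← S.Hk5 hσ.sc]

theorem ce_x (S : Setup Q z s t f H κ c) : Ce κ f⁻¹ := fun σ _ => comm_inv (S.kf σ).symm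

theorem ce_y (S : Setup Q z s t f H κ c) : Ce κ (H * f⁻¹ * H⁻¹) := by
  intro σ hσ
  have h1 : f⁻¹ * κ σ = κ σ * f⁻¹ := comm_inv (S.kf σ).symm
  calc H * f⁻¹ * H⁻¹ * κ σ = H * f⁻¹ * H⁻¹ * (H * κ σ * H⁻¹) := by rw [← S.Hk5 hσ]
    _ = H * (f⁻¹ * κ σ) * H⁻¹ := by group
    _ = (H * κ σ * H⁻¹) * (H * f⁻¹ * H⁻¹) := by rw [h1]; group
    _ = κ σ * (H * f⁻¹ * H⁻¹) := by rw [← S.Hk5 hσ]

/-- helper570's element `K`. -/
theorem ce_K (S : Setup Q z s t f H κ c) : Ce κ
    ((f⁻¹⁻¹ * (κ f0 * (H * κ h0 * H⁻¹) * κ f0) * f⁻¹ *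
      ((H * f⁻¹ * H⁻¹)⁻¹ * κ g0 * (H * f⁻¹ * H⁻¹))) ^ 2) := by
  have h1 : Sh κ (f⁻¹⁻¹ * (κ f0 * (H * κ h0 * H⁻¹) * κ f0) * f⁻¹) :=
    (S.ce_x.inv.mul_sh ((S.sh_f.mul S.sh_h).mul_sh S.sh_f)).mul_ce S.ce_x
  have h2 : Sh κ ((H * f⁻¹ * H⁻¹)⁻¹ * κ g0 * (H * f⁻¹ * H⁻¹)) :=
    (S.ce_y.inv.mul_sh S.sh_g).mul_ce S.ce_y
  have h3 := h1.mul h2
  rw [sq]
  exact h3.mul h3

/-- An element commuting with `s`, `t`, `q = g h`, `f q f` and `A₅` is in `{1, z}`. -/
theorem mem_of_ce (S : Setup Q z s t f H κ c) {u : G} (hs : Commute u s) (ht : Commute u t)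
    (hq : Commute u (κ g0 * (H * κ h0 * H⁻¹)))
    (hq' : Commute u (κ f0 * (κ g0 * (H * κ h0 * H⁻¹)) * κ f0)) (hc : Ce κ u) : u = 1 ∨ u = z := by
  have hz : u * z = z * u := S.comm_st_z hs ht
  have h6 : u * c 6 = c 6 * u := by
    rcases S.q_eq with h | h
    · rw [h] at hq; exact hq
    · rw [h] at hq
      have h1 : Commute u (c 6 * z * z) := hq.mul_right hz
      rw [mul_assoc, S.zz, mul_one] at h1
      exact h1
  have hff : κ f0 * κ f0 = 1 := ksq κ (by decide)
  have hfi : (κ f0)⁻¹ = κ f0 := inv_eq_of_mul_eq_one_left hff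
  have hf6 : κ f0 * c 6 * κ f0 = c 5 := by
    have h1 := S.kc f0 6
    have e1 : (f0 : Perm (Fin 8)) 6 = 5 := by decide
    have e2 : (f0 : Perm (Fin 8)) 7 = 7 := by decide
    rw [e1, e2, S.c7, inv_one, mul_one, hfi] at h1
    exact h1
  have h5 : u * c 5 = c 5 * u := by
    rcases S.q_eq with h | h
    · rw [h, hf6] at hq'; exact hq'
    · have h2 : κ f0 * (c 6 * z) * κ f0 = c 5 * z := by
        calc κ f0 * (c 6 * z) * κ f0 = κ f0 * c 6 * (z * κ f0) := by group
          _ = κ f0 * c 6 * (κ f0 * z) := by rw [S.kz]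
          _ = c 5 * z := by rw [← hf6]; group
      rw [h, h2] at hq'
      have h1 : Commute u (c 5 * z * z) := hq'.mul_right hz
      rw [mul_assoc, S.zz, mul_one] at h1
      exact h1
  exact S.mem_of_comm hs ht h5 h6 (fun σ h3 h5 h6 h7 => hc σ ⟨h3, h5, h6, h7⟩)

end Cfsg.Agent.CoOneType.Setup
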