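import Mathlib
import Cfsg.Agent.CoOneType.HElem
import Cfsg.Agent.CoOneType.Setup

/-!
# The local set-up exists
-/

set_option autoImplicit false

namespace Cfsg.Agent.CoOneType.SetupMk

open Cfsg.Agent.LargeExtra Cfsg.Agent.LargeExtra.Model Cfsg.Agent.LargeExtra.Pres
open Cfsg.Agent.LargeExtra.CoModel Cfsg.Agent.LargeExtra.FourGroup Cfsg.Agent.LargeExtra.Check
open Cfsg.Agent.ClassificationK.LargeSymplectic

variable {G : Type*} [Group G] {Q : Subgroup G} {z s t : G}

/-- An element commuting with `z`, `s`, `t`, `c i` is in `{1, z}`. -/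
theorem rig {L : Subgroup G} {c : Fin 8 → G} {κ : alternatingGroup (Fin 8) →* G}
    (K : Canon Q z s t L c κ) (Pr : Pre Q z s t L) {u : G} (hz : u * z = z * u)
    (hs : u * s = s * u) (ht : u * t = t * u) (hc : ∀ i, u * c i = c i * u) : u = 1 ∨ u = z := by
  obtain ⟨φ, P, h0, h1, hcc⟩ := K.coords Pr
  obtain ⟨α, hα⟩ := P.ind u hz
  have key : ∀ x : XG rK 8, u * (φ x : G) = (φ x : G) * u → α x = x := by
    intro x hx
    rw [← GPin.phi_inj (φ := φ), ← hα x, hx, mul_inv_cancel_right]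
  have hα1 : α = 1 := by
    apply aut_ext nd_K
    intro i
    rw [MulAut.one_apply]
    apply key
    match i with
    | ⟨0, hi⟩ =>
      have : q rK 8 ⟨0, hi⟩ = idim rK 8 0 := (idim_zero (by norm_num)).symm
      rw [this, h0]; exact hs
    | ⟨1, hi⟩ =>
      have : q rK 8 ⟨1, hi⟩ = idim rK 8 1 := (idim_eq (i := 1) (by norm_num)).symm
      rw [this, h1]; exact ht
    | ⟨i + 2, hi⟩ =>
      have h6 : i < 6 := by omega
      have : q rK 8 ⟨i + 2, hi⟩ = tt ⟨i, by omega⟩ := q_tt ⟨i, h6⟩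
      rw [this, hcc]; exact hc _
  rw [hα1] at hα
  exact P.ker u hz hα

/-- **The set-up exists.** -/
theorem exists_setup [Finite G] (H : CoHyp Q z) (hg : ∃ g, g * z * g⁻¹ ∈ Q ∧ g * z * g⁻¹ ≠ z) :
    ∃ (s t f h : G) (κ : alternatingGroup (Fin 8) →* G) (c : Fin 8 → G), Setup Q z s t f h κ c := by
  obtain ⟨g, hgQ, hgne⟩ := hg
  obtain ⟨s, hs⟩ : ∃ s, g * z * g⁻¹ = s := ⟨_, rfl⟩
  rw [hs] at hgQ hgne
  have D := H.data
  have hctx : Ctx Q (Q.map (MulAut.conj g).toMonoidHom) z s :=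
    ctx_of_data D hs hgne hgQ H.z_ne rfl
  obtain ⟨f, τ, F, τQ, ττ, τf, τs, hLτ, hLf, hLR, -, hT, -, -, -, hcardL, -⟩ := H.four hctx
  have hzz : z * z = 1 := D.sqz
  have τz : τ * z = z * τ := D.com τ τQ
  have τi : τ⁻¹ = τ := inv_eq_of_mul_eq_one_left ττ
  have hss : s * s = 1 := hctx.yy
  have hsz : s * z = z * s := D.com s hgQ
  obtain ⟨t, htd⟩ : ∃ t, t = z * τ := ⟨_, rfl⟩
  have hzt : z * t = τ := by rw [htd, ← mul_assoc, hzz, one_mul]
  have htQ : t ∈ Q := by rw [htd]; exact mul_mem D.mem τQ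
  have htt : t * t = 1 := by
    rw [htd]
    calc z * τ * (z * τ) = z * (τ * z) * τ := by group
      _ = (z * z) * (τ * τ) := by rw [τz]; group
      _ = 1 := by rw [hzz, ττ, one_mul]
  have hts : t * s * t⁻¹ = z * s := by
    rw [htd]
    calc z * τ * s * (z * τ)⁻¹ = z * (τ * s * τ⁻¹) * z⁻¹ := by group
      _ = z * z * s * z⁻¹ := by rw [τs]; group
      _ = s * z⁻¹ := by rw [hzz, one_mul]
      _ = z * s := by rw [inv_eq_of_mul_eq_one_left hzz, hsz]
  have hst : s * t * (s * t) = z := by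
    have h1 : t * s = z * s * t := by rw [← hts]; group
    calc s * t * (s * t) = s * (t * s) * t := by group
      _ = (s * z) * s * t * t := by rw [h1]; group
      _ = z * (s * s) * (t * t) := by rw [hsz]; group
      _ = z := by rw [hss, htt, mul_one, mul_one]
  have hne : t * s ≠ s * t := by
    intro h
    have h1 : t * s * t⁻¹ = s := by rw [h]; group
    rw [hts] at h1
    exact H.z_ne (mul_eq_right.mp h1)
  have hLt : ∀ x ∈ hctx.L f, x * t = t * x := by
    intro x hx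
    have h1 : x * z = z * x := (mem_CV.mp (hctx.mem_L.mp hx).1).1
    rw [htd, ← mul_assoc, h1, mul_assoc, ← hLτ x hx, mul_assoc]
  have Pr : Pre Q z s t (hctx.L f) :=
    { hyp := H
      yQ := hgQ
      y2 := hss
      wQ := htQ
      w2 := htt
      wy := hne
      cardL := hcardL
      Ly := fun x hx => (mem_CV.mp (hctx.mem_L.mp hx).1).2
      Lw := hLt
      LQ := fun x hx hxQ => hLR x hx (hctx.A_le_R (hctx.mem_A_iff.mpr
        ⟨hxQ, (mem_CV.mp (hctx.mem_L.mp hx).1).2⟩)) }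
  obtain ⟨c, κ, K⟩ := Pr.exists_canon
  obtain ⟨h, hz, h1, h2, h3⟩ := HElem.exists_H K Pr
  have hκL : ∀ σ, κ σ ∈ hctx.L f := fun σ => by rw [← K.κ_range]; exact ⟨σ, rfl⟩
  refine ⟨s, t, f, h, κ, c, ?_⟩
  exact
  { zz := hzz
    z1 := H.z_ne
    cen := fun q hq => D.com q hq
    norm := fun u hu q hq => D.norm u hu q hq
    cm := fun p hp q hq => D.comm p hp q hq
    ss := hss
    tt := htt
    st := hst
    zQ := D.mem
    sQ := hgQ
    tQ := htQ
    cQ := K.c_mem
    c7 := K.c7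
    cs := K.c_y
    ct := K.c_w
    cc := K.c_sq
    cij := K.c_anti
    prod := K.c_prod
    kz := fun σ => Pr.Lz _ (hκL σ)
    ks := fun σ => Pr.Ly _ (hκL σ)
    kt := fun σ => Pr.Lw _ (hκL σ)
    kf := fun σ => hLf _ (hκL σ)
    kc := K.κ_conj
    kQ := fun σ hσ => K.κ_inj (by rw [map_one]; exact Pr.LQ _ (hκL σ) hσ)
    Hz := hz
    Hs := h1
    Ht := h2
    Hc := h3
    rig := fun u h1 h2 h3 h4 => rig K Pr h1 h2 h3 h4
    fff := F.f3
    fz := F.fz
    fs := F.fy
    ft := by rw [hzt, ← τf, τi]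
    T := fun r hr hrs => hT r (hctx.A_le_R (hctx.mem_A_iff.mpr ⟨hr, hrs⟩))
    cent := by
      intro u hu hus hut
      obtain ⟨p, hp, l, hl, hpl⟩ := Pr.decomp hu hus hut
      have hls : l * s = s * l := Pr.Ly l hl
      have hlt : l * t = t * l := Pr.Lw l hl
      have hpe : p = u * l⁻¹ := by rw [hpl]; group
      have hl' : ∃ σ, κ σ = l := by
        have : l ∈ κ.range := by rw [K.κ_range]; exact hl
        exact this
      obtain ⟨σ, rfl⟩ := hl'
      refine ⟨p, hp, ?_, ?_, σ, hpl⟩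
      · rw [hpe]
        exact ((show Commute u s from hus).mul_left (show Commute (κ σ) s from hls).inv_left)
      · rw [hpe]
        exact ((show Commute u t from hut).mul_left (show Commute (κ σ) t from hlt).inv_left) }

end Cfsg.Agent.CoOneType.SetupMk
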