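import Mathlib
import Cfsg.Agent.CoOneType.SetupCent
import Cfsg.Agent.CoOneType.RelR5
import Cfsg.Agent.CoOneType.SetupMk
import Cfsg.Agent.CoOneType.LThree

/-!
# The local part: from the set-up to the presentation
-/

set_option autoImplicit false

namespace Cfsg.Agent.CoOneType.Local

open Equiv Cfsg.Agent.CoOneType.SetupRel Cfsg.Agent.CoOneType.Setup

variable {G : Type*} [Group G] {Q : Subgroup G} {z s t f H : G}
  {κ : alternatingGroup (Fin 8) →* G} {c : Fin 8 → G}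

/-- `H` can be replaced by `z H`. -/
theorem zH (S : Setup Q z s t f H κ c) : Setup Q z s t f (z * H) κ c := by
  have hconj : ∀ a b : G, b * z = z * b → H * a * H⁻¹ = b → z * H * a * (z * H)⁻¹ = b := by
    intro a b hb hab
    calc z * H * a * (z * H)⁻¹ = z * (H * a * H⁻¹) * z⁻¹ := by group
      _ = b := by rw [hab, ← hb]; group
  exact
  { zz := S.zz
    z1 := S.z1
    cen := S.cen
    norm := S.norm
    cm := S.cm
    ss := S.ss
    tt := S.tt
    st := S.st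
    zQ := S.zQ
    sQ := S.sQ
    tQ := S.tQ
    cQ := S.cQ
    c7 := S.c7
    cs := S.cs
    ct := S.ct
    cc := S.cc
    cij := S.cij
    prod := S.prod
    kz := S.kz
    ks := S.ks
    kt := S.kt
    kf := S.kf
    kc := S.kc
    kQ := S.kQ
    Hz := by rw [mul_assoc, S.Hz]
    Hs := hconj _ _ S.tz S.Hs
    Ht := hconj _ _ S.sz S.Ht
    Hc := fun i => hconj _ _ (S.cen _ (inv_mem (S.cQ _))) (S.Hc i)
    rig := S.rig
    fff := S.fff
    fz := S.fz
    fs := S.fs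
    ft := S.ft
    T := S.T
    cent := S.cent }

/-- The centralizer of `z` in `M` is contained in `⟨s, t⟩`. -/
theorem hC (S : Setup Q z s t f H κ c) {u : G}
    (hu : u ∈ Subgroup.closure ({s, t, f⁻¹, H * f⁻¹ * H⁻¹} : Set G))
    (hz : u * (s * t) ^ 2 = (s * t) ^ 2 * u) : u ∈ Subgroup.closure ({s, t} : Set G) := by
  rw [S.st2] at hz
  refine S.mem_closure_of_comm hz ?_
  intro σ h3 h7
  have hle : Subgroup.closure ({s, t, f⁻¹, H * f⁻¹ * H⁻¹} : Set G) ≤
      Subgroup.centralizer ({κ σ} : Set G) := by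
    rw [Subgroup.closure_le]
    have hmem : ∀ a : G, Commute a (κ σ) → a ∈ Subgroup.centralizer ({κ σ} : Set G) := by
      intro a ha
      rw [Subgroup.mem_centralizer_singleton_iff]
      exact ha.eq
    intro a ha
    simp only [Set.mem_insert_iff, Set.mem_singleton_iff] at ha
    rcases ha with rfl | rfl | rfl | rfl
    · exact hmem _ (S.ks σ).symm
    · exact hmem _ (S.kt σ).symm
    · exact hmem _ (Commute.inv_left (S.kf σ).symm)
    · apply hmem
      -- `κ σ = H κ (τ σ τ) H⁻¹`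
      have h3' : (tc σ) ^ 3 = 1 := by rw [← map_pow, h3, map_one]
      have h7' : ((tc σ : alternatingGroup (Fin 8)) : Perm (Fin 8)) 7 = 7 := by
        rw [tc_apply]
        have : tau67 7 = 7 := by decide
        rw [this, h7, this]
      have htt : tc (tc σ) = σ := alt_ext (fun i => by
        rw [tc_apply, tc_apply, tau_tau, tau_tau])
      have h := S.Hk3 (tc σ) h3' h7'
      rw [htt] at h
      rw [← h]
      exact comm_conj (Commute.inv_left (S.kf _).symm)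
  have h := hle hu
  rw [Subgroup.mem_centralizer_singleton_iff] at h
  exact h

/-- helper570's element `K` is trivial. -/
theorem K_one (S : Setup Q z s t f H κ c) :
    RelC.K f⁻¹ (H * f⁻¹ * H⁻¹) (κ f0) (κ g0) (H * κ h0 * H⁻¹) = 1 := by
  have P := S.pre957
  have hz1 : (s * t) ^ 2 ≠ 1 := by rw [S.st2]; exact S.z1
  refine RelC.K_eq_one P hz1 ?_
  obtain ⟨h1, h2, h3, h4⟩ := RelC.K_comm P
  rw [S.st2]
  exact S.mem_of_ce h1 h2 h3 h4 S.ce_K

/-- Statement of `m_cases` (used by `MCases.lean`). -/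
def MCasesStmt (G : Type*) [Group G] : Prop :=
  ∀ s t x y : G, PreM s t x y → (s * t) ^ 2 ≠ 1 →
    (∀ c ∈ Subgroup.closure ({s, t, x, y} : Set G), c * (s * t) ^ 2 = (s * t) ^ 2 * c →
      c ∈ Subgroup.closure ({s, t} : Set G)) →
    ((x * y⁻¹) ^ 7 = 1 ∧ (x * y) ^ 4 = 1) ∨
    ((x * ((s * t) ^ 2 * y * (s * t) ^ 2)⁻¹) ^ 7 = 1 ∧
      (x * ((s * t) ^ 2 * y * (s * t) ^ 2)) ^ 4 = 1) ∨
    ((x * y⁻¹) ^ 4 = 1 ∧ (x * y) ^ 5 = 1)

/-- helper611's theorem in terms of `PreM`. -/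
theorem m_cases [Finite G] {s t x y : G} (P : PreM s t x y) (hz1 : (s * t) ^ 2 ≠ 1)
    (hC : ∀ c ∈ Subgroup.closure ({s, t, x, y} : Set G), c * (s * t) ^ 2 = (s * t) ^ 2 * c →
      c ∈ Subgroup.closure ({s, t} : Set G)) :
    ((x * y⁻¹) ^ 7 = 1 ∧ (x * y) ^ 4 = 1) ∨
    ((x * ((s * t) ^ 2 * y * (s * t) ^ 2)⁻¹) ^ 7 = 1 ∧
      (x * ((s * t) ^ 2 * y * (s * t) ^ 2)) ^ 4 = 1) ∨
    ((x * y⁻¹) ^ 4 = 1 ∧ (x * y) ^ 5 = 1) := by
  obtain ⟨z, hz⟩ : ∃ z, z = (s * t) ^ 2 := ⟨_, rfl⟩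
  have hzz : z * z = 1 := by
    rw [hz, ← pow_add]; exact P.st4
  have hzi : z⁻¹ = z := inv_eq_of_mul_eq_one_left hzz
  have move : ∀ a b d : G, b⁻¹ * a * b = d → a * b = b * d := by
    intro a b d h
    rw [← h]; group
  have A : LThree.Amalgam z s t x y :=
    { ss := P.s2
      tt := P.t2
      hz := by rw [hz, sq]
      zz := hzz
      z1 := by rw [hz]; exact hz1
      xxx := by have := P.x3; rwa [pow_succ, sq] at this
      yyy := by have := P.y3; rwa [pow_succ, sq] at this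
      zx := move _ _ _ (by rw [hz]; exact P.zx)
      sx := move _ _ _ (by rw [hz]; exact P.sx)
      zy := move _ _ _ (by rw [hz]; exact P.zy)
      ty := move _ _ _ (by rw [hz]; exact P.ty)
      ix := by rw [hz, P.xi]; group
      iy := by rw [hz, P.yi]; group }
  rw [← hz] at hC ⊢
  rcases LThree.main A hC with ⟨h1, h2⟩ | ⟨h1, h2⟩ | ⟨h1, h2⟩
  · exact Or.inr (Or.inr ⟨h2, h1⟩)
  · exact Or.inl ⟨h2, h1⟩
  · refine Or.inr (Or.inl ⟨?_, ?_⟩)
    · have h3 : x * (z * y * z)⁻¹ = z⁻¹ * (z * x * z * y⁻¹) * z⁻¹⁻¹ := by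
        simp only [mul_inv_rev, hzi]
        calc x * (z * (y⁻¹ * z)) = 1 * x * z * y⁻¹ * z := by group
          _ = z * z * x * z * y⁻¹ * z := by rw [hzz]
          _ = _ := by group
      rw [h3, conj_pow, h2, mul_one, mul_inv_cancel]
    · have h3 : x * (z * y * z) = z⁻¹ * (z * x * z * y) * z⁻¹⁻¹ := by
        simp only [hzi]
        calc x * (z * y * z) = 1 * x * z * y * z := by group
          _ = z * z * x * z * y * z := by rw [hzz]
          _ = _ := by group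
      rw [h3, conj_pow, h1, mul_one, mul_inv_cancel]

/-- The first case. -/
theorem p957_of (S : Setup Q z s t f H κ c)
    (xY : (f⁻¹ * (H * f⁻¹ * H⁻¹)⁻¹) ^ 7 = 1) (xy : (f⁻¹ * (H * f⁻¹ * H⁻¹)) ^ 4 = 1) :
    P957 s t f⁻¹ (H * f⁻¹ * H⁻¹) (κ w0) (κ d0) (κ e0) (κ f0) (κ g0) (H * κ h0 * H⁻¹) :=
  RelC.p957_of_K S.pre957 (K_one S) xY xy

theorem exists_of_setup [Finite G] (S : Setup Q z s t f H κ c) :
    ∃ s t x y w d e f g h : G, P957 s t x y w d e f g h ∧ (s * t) ^ 2 = z := by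
  have P := S.pre957
  have hz1 : (s * t) ^ 2 ≠ 1 := by rw [S.st2]; exact S.z1
  rcases m_cases P.toPreM hz1 (fun u hu hz => hC S hu hz) with
    ⟨h1, h2⟩ | ⟨h1, h2⟩ | ⟨h1, h2⟩
  · exact ⟨_, _, _, _, _, _, _, _, _, _, p957_of S h1 h2, S.st2⟩
  · have hy : (s * t) ^ 2 * (H * f⁻¹ * H⁻¹) * (s * t) ^ 2 = z * H * f⁻¹ * (z * H)⁻¹ := by
      rw [S.st2, mul_inv_rev, S.zi]; group
    rw [hy] at h1 h2
    exact ⟨_, _, _, _, _, _, _, _, _, _, p957_of (zH S) h1 h2, S.st2⟩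
  · exact absurd (RelC.a6_false P (K_one S) h1 h2) hz1

/-- **The local part.** -/
theorem exists_p957 [Finite G] (H : Cfsg.Agent.LargeExtra.CoHyp Q z)
    (hg : ∃ g, g * z * g⁻¹ ∈ Q ∧ g * z * g⁻¹ ≠ z) :
    ∃ s t x y w d e f g h : G, P957 s t x y w d e f g h ∧ (s * t) ^ 2 = z := by
  obtain ⟨s, t, f, h, κ, c, S⟩ := SetupMk.exists_setup H hg
  exact exists_of_setup S

end Cfsg.Agent.CoOneType.Local
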