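import Cfsg.Agent.CoOneType.LThree
import Cfsg.Agent.CoOneType.Local

/-!
# The three cases for the group `⟨s,t,x,y⟩` (`C_M(z)` dihedral of order eight): interface to `Local.lean`
-/

set_option autoImplicit false

namespace Cfsg.Agent.CoOneType.MCases

open Cfsg.Agent.CoOneType

variable {G : Type*} [Group G] {s t x y : G}

theorem amalgam_of (H : PreM s t x y) (h1 : (s * t) ^ 2 ≠ 1) : LThree.Amalgam ((s * t) ^ 2) s t x y := by
  have hst4 : (s * t) ^ 2 * (s * t) ^ 2 = 1 := by rw [← pow_add]; exact H.st4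
  have key : ∀ a b c : G, b⁻¹ * a * b = c → a * b = b * c := by
    rintro a b c rfl
    group
  refine ⟨H.s2, H.t2, by rw [pow_two], hst4, h1, ?_, ?_, ?_, ?_, ?_, ?_, ?_, ?_⟩
  · rw [← H.x3, pow_succ, pow_two]
  · rw [← H.y3, pow_succ, pow_two]
  · exact key _ _ _ H.zx
  · exact key _ _ _ H.sx
  · exact key _ _ _ H.zy
  · exact key _ _ _ H.ty
  · rw [H.xi, inv_mul_cancel]
  · rw [H.yi, inv_mul_cancel]

theorem conj_pow_eq_one {a z : G} {n : ℕ} (hz : z * z = 1) (h : a ^ n = 1) : (z * a * z) ^ n = 1 := by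
  have hzi : z⁻¹ = z := inv_eq_of_mul_eq_one_left hz
  have : z * a * z = z * a * z⁻¹ := by rw [hzi]
  rw [this, conj_pow, h, mul_one, mul_inv_cancel]

/-- (A3) -/
theorem m_cases [Finite G] : Local.MCasesStmt G := by
  intro s t x y H h1 hC
  have hA := amalgam_of H h1
  have hzz := hA.zz
  have hzi : ((s * t) ^ 2)⁻¹ = (s * t) ^ 2 := inv_eq_of_mul_eq_one_left hzz
  rcases LThree.main hA hC with ⟨h2, h3⟩ | ⟨h2, h3⟩ | ⟨h2, h3⟩
  · exact Or.inr (Or.inr ⟨h3, h2⟩)
  · exact Or.inl ⟨h3, h2⟩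
  · refine Or.inr (Or.inl ⟨?_, ?_⟩)
    · have h4 := conj_pow_eq_one hzz h3
      generalize (s * t) ^ 2 = z at *
      have : z * (z * x * z * y⁻¹) * z = x * (z * y * z)⁻¹ := by
        rw [mul_inv_rev, mul_inv_rev, hzi]
        simp only [← mul_assoc, hzz, one_mul]
      rwa [this] at h4
    · have h4 := conj_pow_eq_one hzz h2
      generalize (s * t) ^ 2 = z at *
      have : z * (z * x * z * y) * z = x * (z * y * z) := by
        simp only [← mul_assoc, hzz, one_mul]
      rwa [this] at h4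

end Cfsg.Agent.CoOneType.MCases
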