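import Cfsg.Agent.CoOneType.ModZCertData

set_option autoImplicit false
set_option maxRecDepth 100000

namespace Cfsg.Agent.CoOneType.ModZCertChk0

open Cfsg.Agent.SporadicRecognition.CosetCert Cfsg.Agent.Lib.CosetPartial Cfsg.Agent.CoOneType.ModZCertData

theorem c0 : PartP C 0 64 := runP_sound C (by decide +kernel : runP C 10 1023 0x17300523000000000000000004020000000001000e3000000000000000004020000200000004d30000000800000a3000000080100402000020000020c0000002000010cc00004000093300000008000040268c000000200402000000005300800000000040000000008001cc0000001000000000244c010000300001008020000208c000080000402000000000158c00000b308c000000200400000c300002000020000000401008000000014c83008000040000000000020000000000004f30000200800004330000100000008000000200001008000000000a5300400000000080054c00000000043300000000000000024c01005b300002008000000050c000000100000000001cc00000010000100800008000000000000001130043300c0100800000020000000801000000080008c02000020040200000004000000000802008000000000402000000040200000008020080200400008000082300002000010080004c00008000080100800000020000200000004010000218c0014c0200801000000000000800000000040210c020000200000004330080200400008000082300000000010080204c00008000080100803004000000200000008000040200000008020000000001008430080200800000010cc020040200000000530000200400000020082300800000010004304c02008000080100003008000000200001000020080000802004020000200002008020040000800008020040200802000020080200400000000080200802 24 16777215 0x234567000000000000000000000000000000000000000000000000000000000000000000000000000000000000000000000000000000000000000000081857000000000000000000000000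 0 64 = true)

theorem c1 : PartP C 64 128 := runP_sound C (by decide +kernel : runP C 10 1023 0x4330000200693002430000200233000000040000001000000000200000001430000000400000020040000002008230000000400000000000150c00002b3000020000000801001d3008000000000800004020080100000008007cc00008000000100000000020000000400000000040000000008230000000400001d3000000000134c00000020000028c0000002004010000018c000008300000004000000000800004000000078c020040028c0000002000000080100000000c300000006130000230c000000000400008000000280dc300001000000040000800000130000200000004000000000400000002cc0000001000000000208c010000264c00000000040060d3300002000020040068c00008020000200400001d30000000563000002cc0000000008010000030c00000000080000001008020040000000008000000034c00004f3000000080100000000000080000001000000080100000000000000200400000000082300000004000000030c0200400000020080000000000000040000000000000000024c0100402000000080000000000010080010cc300802000000040000001008000080000000001b300402000000000000800000010000000000000000040200c000000000002000010000200000004000000000400000020002300000000000040000c00008000000240c01004020000000800008000000000400000000000000000000010080200400000020000000002009130040000c02004000080000800 24 16777215 0x837e57000000000000000000000000000000 64 64 = true)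

theorem c2 : PartP C 128 178 := runP_sound C (by decide +kernel : runP C 10 1023 0x100800000000000000000004000000000000000000040000000000010000000b430035300000004000000100000000000080000000000000040000002000000040014f1300400000000033300800005630000200000000000000000400000000000284c000080100400d8c020000000001a8c020024300000004020000200800000010032364c000000000000000010000000000bcc00000010000000400008000000000000000000000100000000000000000001008010000000002000000014300000004000000200400000020080000001b4da30010300b03006c30080078c00000011cc000000200001000000080000000000001cc00000013cc02006e30000000002004000080000000000010029318c000000000001000000000000001a8c02002430000000402000000080020c000000000000004020080100800001e308c0100a930000200000000000000000400000000040000002000000000000000004000000150c00000020000000801000000000000002004000000000000000000000000400008020040200800000000040200000a0e630027300800000010000054c010000088c0000000004000000000002 24 16777215 0x3730000000000000000000000000000000000000000000000008a8c27000000000000000000 128 50 = true)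

theorem all : PartP C 0 178 := ((c0).append C c1).append C c2

end Cfsg.Agent.CoOneType.ModZCertChk0
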