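import Cfsg.Agent.CoOneType.Gen
import Cfsg.Agent.CoOneType.Final

/-!
The model of `P957` in `Co1` in the form needed by the final assembly.
-/

set_option autoImplicit false

namespace Cfsg.Agent.CoOneType.ModelFinal

open Cfsg Cfsg.Agent.SporadicA Cfsg.Agent.SporadicA.Co0Mono Cfsg.Agent.CoOneType.SignFacts
  Cfsg.Agent.CoOneType.Thirteen

theorem wt_c0 : wt GenCrit.c0 = 8 := by
  show (support₂ (GolayBase.word GenCrit.m0)).card = 8
  rw [GolayBase.support₂_word, GolayBase.card_fin]
  decide +kernel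

theorem modelExists : Final.ModelExists' :=
  ⟨_, _, _, _, _, _, _, _, _, _, Model.p957, Gen.closure_eq_top, GenCrit.c0, wt_c0, by
    rw [Gen.z_eq]; exact IsConj.refl _⟩

theorem modelExists_weak : Final.ModelExists :=
  ⟨_, _, _, _, _, _, _, _, _, _, Model.p957, Gen.closure_eq_top⟩

end Cfsg.Agent.CoOneType.ModelFinal
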