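import Cfsg.Agent.LargeExtra.CoFour
import Cfsg.Agent.LargeExtra.PlusForm
import Cfsg.Agent.LargeExtra.Nine.ToCent

/-!
# S1763, `|D̃| = 2`, plus type: reduction to `CoHyp`
-/

set_option autoImplicit false

namespace Cfsg.Agent.CoOneType.NineCaseOf

open Cfsg.Agent.Co2Type.Quad Cfsg.Agent.LargeExtra Cfsg.Agent.LargeExtra.Base
open Cfsg.Agent.LargeExtra.Nine.ToCent Cfsg.Agent.LargeExtra.SiegelOrbit

variable {G : Type*} [Group G] {Q A : Subgroup G} {z a : G}

theorem orderOf_z (h : Large Q z) : orderOf z = 2 :=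
  orderOf_eq_prime (by rw [pow_two]; exact h.z_sq) h.z_ne

/-- `|D̃| = 2`, plus type: `CoHyp`. -/
theorem coHyp [Finite G] (hG : ∀ H : Subgroup G, H.index ≠ 2) (p : Pair Q z A a) (hO : O2 p.lz)
    (h9 : Nat.card Q = 2 ^ 9) (hd : Nat.card p.D = 2)
    (hT : ∃ T : Submodule (ZMod 2) p.lz.V, Nat.card T = 2 ^ 4 ∧ ∀ v ∈ T, p.lz.q v = 0) :
    CoHyp Q z := by
  have hn := normal p.lz
  have hV : Nat.card p.lz.V = 2 ^ (2 * 4) := by
    have h1 := p.lz.card_eq
    omega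
  have hmap : (Q.subgroupOf (Subgroup.centralizer ({z} : Set G))).map
      (Subgroup.centralizer ({z} : Set G)).subtype = Q := by
    rw [Subgroup.map_subgroupOf_eq_of_le (le_cent p.lz)]
  obtain ⟨e⟩ := PlusForm.exists_omega_plus hG p hO hd (m := 4) (by norm_num) hV hT
    (Q.subgroupOf (Subgroup.centralizer ({z} : Set G))) hmap
  have h := CoHyp.of_self_centralizing z (orderOf_z p.lz)
    (Q.subgroupOf (Subgroup.centralizer ({z} : Set G))) (centralizer_le p.lz)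
    (isExtraspecial p.lz (by rw [h9]; norm_num)) (by rw [card_subgroupOf p.lz, h9]) e
  rwa [hmap] at h

theorem exists_fused (p : Pair Q z A a) : ∃ g, g * z * g⁻¹ ∈ Q ∧ g * z * g⁻¹ ≠ z := by
  obtain ⟨g, h1, -, -, -⟩ := p.isConj
  exact ⟨g, by rw [h1]; exact p.a_mem, by rw [h1]; exact p.ne⟩

end Cfsg.Agent.CoOneType.NineCaseOf
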