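import Cfsg.Agent.S1718
import Cfsg.Agent.CoOneType.NineCaseOf
import Cfsg.Agent.LargeExtra.KOne

/-!
# S1763, `|D̃| = 2`, plus type: `Co₁`
-/

set_option autoImplicit false

universe u

namespace Cfsg.Agent.CoOneType.NineCase

open Cfsg.Agent.Co2Type.Quad Cfsg.Agent.LargeExtra Cfsg.Agent.LargeExtra.Base
open Cfsg.Agent.LargeExtra.SiegelOrbit

/-- `CoHyp Q z` and a conjugate of `z` in `Q` other than `z` imply `G ≅ Co₁`. -/
theorem isoCo1 {G : Type u} [Group G] [Finite G] {Q : Subgroup G} {z : G} (H : CoHyp Q z)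
    (hg : ∃ g, g * z * g⁻¹ ∈ Q ∧ g * z * g⁻¹ ≠ z) : Cfsg.Spor.IsoCo1 G :=
  Final.iso_of' Final.weakUpperBound Cfsg.Agent.S1718.modelExists Final.centOctadCard H
    (Local.exists_p957 H hg)

/-- **`|D̃| = 2`, plus type.** -/
theorem coOne_case {G : Type u} [Group G] [Finite G] {Q A : Subgroup G} {z a : G}
    (hG : ∀ H : Subgroup G, H.index ≠ 2) (p : Pair Q z A a) (hO : O2 p.lz)
    (h9 : Nat.card Q = 2 ^ 9) (hd : Nat.card p.D = 2)
    (hT : ∃ T : Submodule (ZMod 2) p.lz.V, Nat.card T = 2 ^ 4 ∧ ∀ v ∈ T, p.lz.q v = 0) :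
    Cfsg.Spor.IsoCo1 G :=
  isoCo1 (NineCaseOf.coHyp hG p hO h9 hd hT) (NineCaseOf.exists_fused p)

/-- **`|D̃| = 2`**: the field `dOne` of `Nine.Assembly.Recs`. -/
theorem dOne {G : Type u} [Group G] [Finite G] (hG : ∀ H : Subgroup G, H.index ≠ 2)
    (Q A : Subgroup G) (z a : G) (p : Pair Q z A a) (hO : O2 p.lz)
    (h9 : Nat.card Q = 2 ^ 9) (hd : Nat.card p.D = 2) : Cfsg.Spor.IsoCo1 G := by
  by_cases hm : ∃ T : Submodule (ZMod 2) p.lz.V, Nat.card T = 16 ∧ ∀ v ∈ T, p.lz.q v = 0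
  · obtain ⟨T, h1, h2⟩ := hm
    exact coOne_case hG p hO h9 hd ⟨T, by rw [h1]; norm_num, h2⟩
  · exact (KOne.false_of_minus p hO h9 hd hm).elim

end Cfsg.Agent.CoOneType.NineCase
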