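import Cfsg.Agent.CoOneType.Interface
import Cfsg.Agent.CoOneType.KCert
import Cfsg.Agent.CoOneType.AuxCert
import Cfsg.Agent.CoOneType.ModZCert
import Cfsg.Agent.CoOneType.ASixCert

/-!
# The relation `K = 1` and the exclusion of `A₆`

`K = (((f h f) ^ x) (g ^ y))²` where `a ^ x = x⁻¹ a x`.

* `Pre957.K_comm` : `K` commutes with `s`, `t`, `q = g h` and `q ^ f`;
* `Pre957.K_eq_one` : `K ∈ {1, z}` and `z ≠ 1` imply `K = 1`;
* `Pre957.a6_false` : `K = 1` and the relations of `A₆` imply `z = 1`.
-/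

set_option autoImplicit false
set_option maxRecDepth 100000

namespace Cfsg.Agent.CoOneType.RelC

open Cfsg.Agent.SporadicRecognition.CosetCert

variable {G : Type*} [Group G]

/-- the letters `s t x x⁻¹ y y⁻¹ f g h` -/
def lt (s t x y f g h : G) : ℕ → G
  | 0 => s
  | 1 => t
  | 2 => x
  | 3 => x⁻¹
  | 4 => y
  | 5 => y⁻¹
  | 6 => f
  | 7 => g
  | 8 => h
  | _ => 1

/-- the letters `s t f g h u v` -/
def lu (s t f g h u v : G) : ℕ → G
  | 0 => s
  | 1 => t
  | 2 => f
  | 3 => g
  | 4 => h
  | 5 => u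
  | 6 => v
  | _ => 1

/-- the relators without the relations of `⟨s, t, x, y⟩` -/
def baseRels : List (List ℕ) :=
  [[2,2,2], [4,4,4], [6,0,6,0], [6,1,6,1], [6,3,6,2], [6,5,6,4], [7,0,7,0], [7,1,7,1], [7,3,7,2],
   [8,0,8,0], [8,1,8,1], [8,5,8,4], [5,1,4,0,1,0], [6,7,6,7,6,7], [6,8,6,8,6,8],
   [3,0,1,0,1,2,0], [5,0,1,0,1,4,1], [0,1,0,1,0,1,0,1], [3,0,2,0,1,0,1,0],
   [0,1,0,2,0,1,0,2], [7,8,7,8,1,0,1,0], [7,8,3,7,8,2,2,7,8,3], [7,8,5,7,8,4,4,7,8,5],
   [0,1,0,1,0,4,0,1,0,1,0,4], [8,7,3,8,7,2,7,8,3,7,8,2], [8,7,5,8,7,4,7,8,5,7,8,4]]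

theorem inv_of_sq {a : G} (h : a * a = 1) : a⁻¹ = a := inv_eq_of_mul_eq_one_left h

theorem comm_word {a b : G} (ha : a * a = 1) (hb : b * b = 1) (h : Commute a b) :
    a * (b * (a * b)) = 1 := by
  have h1 : b * (a * b) = a * (b * b) := by rw [← mul_assoc, ← h.eq, mul_assoc]
  rw [h1, hb, mul_one, ha]

theorem comm_word' {a b : G} (ha : a * a = 1) (h : Commute a b) :
    a * (b⁻¹ * (a * b)) = 1 := by
  rw [h.eq, inv_mul_cancel_left, ha]

theorem base_ok {s t x y w d e f g h : G} (H : Pre957 s t x y w d e f g h) :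
    ∀ r ∈ baseRels, ev (lt s t x y f g h) r = 1 := by
  have is := inv_of_sq H.s2
  have it := inv_of_sq H.t2
  have ig := inv_of_sq H.g2
  have ih := inv_of_sq H.h2
  have hst : s * (t * (s * (t * (s * (t * (s * t)))))) = 1 := by
    have := H.st4
    simpa only [pow_succ, pow_zero, one_mul, mul_assoc] using this
  intro r hr
  simp only [baseRels, List.mem_cons, List.not_mem_nil, or_false] at hr
  rcases hr with rfl | rfl | rfl | rfl | rfl | rfl | rfl | rfl | rfl | rfl | rfl | rfl | rfl | rfl |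
    rfl | rfl | rfl | rfl | rfl | rfl | rfl | rfl | rfl | rfl | rfl | rfl <;>
    simp only [ev, List.map_cons, List.map_nil, List.prod_cons, List.prod_nil, lt, mul_one]
  · have := H.x3
    simpa only [pow_succ, pow_zero, one_mul, mul_assoc] using this
  · have := H.y3
    simpa only [pow_succ, pow_zero, one_mul, mul_assoc] using this
  · exact comm_word H.f2 H.s2 H.fs
  · exact comm_word H.f2 H.t2 H.ft
  · exact comm_word' H.f2 H.fx
  · exact comm_word' H.f2 H.fy
  · exact comm_word H.g2 H.s2 H.gs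
  · exact comm_word H.g2 H.t2 H.gt
  · exact comm_word' H.g2 H.gx
  · exact comm_word H.h2 H.s2 H.hs
  · exact comm_word H.h2 H.t2 H.ht
  · exact comm_word' H.h2 H.hy
  · have h1 := H.ty
    have h2 : y⁻¹ * (t * (y * (s * (t * s)))) = y⁻¹ * t * y * (s * t * s) := by
      simp only [mul_assoc]
    have h3 : s * t * s * t * t * (s * t * s) = 1 := by
      have : s * t * s * t * t * (s * t * s) = s * (t * (s * (t * t) * s) * t) * s := by
        simp only [mul_assoc]
      rw [this, H.t2, mul_one, H.s2, mul_one, H.t2, mul_one, H.s2]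
    rw [h2, h1, pow_two]
    simpa only [mul_assoc] using h3
  · have := H.fg
    simpa only [pow_succ, pow_zero, one_mul, mul_assoc] using this
  · have := H.fh
    simpa only [pow_succ, pow_zero, one_mul, mul_assoc] using this
  · have h1 : x⁻¹ * (s * (t * (s * (t * (x * s))))) = (x⁻¹ * (s * t) ^ 2 * x) * s := by
      simp only [pow_two, mul_assoc]
    rw [h1, H.zx, H.s2]
  · have h1 : y⁻¹ * (s * (t * (s * (t * (y * t))))) = (y⁻¹ * (s * t) ^ 2 * y) * t := by
      simp only [pow_two, mul_assoc]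
    rw [h1, H.zy, H.t2]
  · exact hst
  · have h1 : x⁻¹ * (s * (x * (s * (t * (s * (t * s)))))) =
        (x⁻¹ * s * x) * (s * (t * (s * (t * s)))) := by simp only [mul_assoc]
    have h2 : (s * t) ^ 2 * s * (s * (t * (s * (t * s)))) =
        s * (t * (s * (t * (s * s) * t) * s) * t) * s := by
      simp only [pow_two, mul_assoc]
    rw [h1, H.sx, h2, H.s2, mul_one, H.t2, mul_one, H.s2, mul_one, H.t2, mul_one, H.s2]
  · have h1 : s * (t * (s * (x * (s * (t * (s * x)))))) =
        ((s * t) ^ 2 * t * x * ((s * t) ^ 2 * t)) * x := by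
      have h2 : (s * t) ^ 2 * t = s * (t * s) := by
        rw [pow_two, mul_assoc (s * t) (s * t) t, mul_assoc s t t, H.t2, mul_one, mul_assoc]
      rw [h2]
      simp only [mul_assoc]
    rw [h1, H.xi, inv_mul_cancel]
  · have h1 := H.q2
    have h2 : g * (h * (g * (h * (t * (s * (t * s)))))) = (g * h) ^ 2 * (t * (s * (t * s))) := by
      simp only [pow_two, mul_assoc]
    have h3 : (s * t) ^ 2 * (t * (s * (t * s))) = s * (t * (s * (t * t) * s) * t) * s := by
      simp only [pow_two, mul_assoc]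
    rw [h2, h1, h3, H.t2, mul_one, H.s2, mul_one, H.t2, mul_one, H.s2]
  · have := H.qx3
    simpa only [mul_assoc] using this
  · have := H.qy3
    simpa only [mul_assoc] using this
  · have h1 : s * (t * (s * (t * (s * (y * (s * (t * (s * (t * (s * y)))))))))) =
        ((s * t) ^ 2 * s * y * ((s * t) ^ 2 * s)) * y := by
      simp only [pow_two, mul_assoc]
    rw [h1, H.yi, inv_mul_cancel]
  · have h1 : h * (g * (x⁻¹ * (h * (g * (x * (g * (h * (x⁻¹ * (g * (h * x)))))))))) =
        (g * h)⁻¹ * (x⁻¹ * (g * h) * x)⁻¹ * ((g * h) * (x⁻¹ * (g * h) * x)) := by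
      simp only [mul_inv_rev, ig, ih, inv_inv, mul_assoc]
    rw [h1, H.qx.eq, mul_assoc, inv_mul_cancel_left, inv_mul_cancel]
  · have h1 : h * (g * (y⁻¹ * (h * (g * (y * (g * (h * (y⁻¹ * (g * (h * y)))))))))) =
        (g * h)⁻¹ * (y⁻¹ * (g * h) * y)⁻¹ * ((g * h) * (y⁻¹ * (g * h) * y)) := by
      simp only [mul_inv_rev, ig, ih, inv_inv, mul_assoc]
    rw [h1, H.qy.eq, mul_assoc, inv_mul_cancel_left, inv_mul_cancel]

/-- `K` -/
def K (x y f g h : G) : G := (x⁻¹ * (f * h * f) * x * (y⁻¹ * g * y)) ^ 2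

theorem hinv9 {s t x y w d e f g h : G} (H : Pre957 s t x y w d e f g h) (inv : ℕ → ℕ)
    (hi : inv 0 = 0 ∧ inv 1 = 1 ∧ inv 2 = 3 ∧ inv 3 = 2 ∧ inv 4 = 5 ∧ inv 5 = 4 ∧ inv 6 = 6 ∧
      inv 7 = 7 ∧ inv 8 = 8) :
    ∀ i, i < 9 → lt s t x y f g h i * lt s t x y f g h (inv i) = 1 := by
  obtain ⟨h0, h1, h2, h3, h4, h5, h6, h7, h8⟩ := hi
  intro i hi
  interval_cases i
  · rw [h0]; exact H.s2
  · rw [h1]; exact H.t2
  · rw [h2]; exact mul_inv_cancel x
  · rw [h3]; exact inv_mul_cancel x
  · rw [h4]; exact mul_inv_cancel y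
  · rw [h5]; exact inv_mul_cancel y
  · rw [h6]; exact H.f2
  · rw [h7]; exact H.g2
  · rw [h8]; exact H.h2

theorem K_words {x y f g h : G} (A : G) :
    x⁻¹ * (f * (h * (f * (x * (y⁻¹ * (g * (y * (x⁻¹ * (f * (h * (f * (x * (y⁻¹ * (g * (y *
      A))))))))))))))) = K x y f g h * A := by
  simp only [K, pow_two, mul_assoc]

theorem K_words' {s t x y w d e f g h : G} (H : Pre957 s t x y w d e f g h) (A : G) :
    y⁻¹ * (g * (y * (x⁻¹ * (f * (h * (f * (x * (y⁻¹ * (g * (y * (x⁻¹ * (f * (h * (f * (x *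
      A))))))))))))))) = (K x y f g h)⁻¹ * A := by
  have h1 := inv_of_sq H.f2
  have h2 := inv_of_sq H.g2
  have h3 := inv_of_sq H.h2
  simp only [K, pow_two, mul_inv_rev, inv_inv, h1, h2, h3, mul_assoc]

theorem k_rels_ok {s t x y w d e f g h : G} (H : Pre957 s t x y w d e f g h) :
    ∀ r ∈ KCertData.targets, ev (lt s t x y f g h) r = 1 := by
  refine KCert.eq_one (lt s t x y f g h) (hinv9 H _ (by decide)) ?_
  intro r hr
  exact base_ok H r (by revert r hr; decide)

theorem comm_of_inv_mul {a b : G} (h : a⁻¹ * b * a * b⁻¹ = 1) : Commute a b := by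
  have h1 : a⁻¹ * b * a = b := mul_inv_eq_one.mp h
  have h2 : b * a = a * b := by rw [← mul_inv_cancel_left a (b * a), ← mul_assoc a⁻¹, h1]
  exact h2.symm

/-- `K` commutes with `s`, `t`, `q = g h` and `q ^ f`. -/
theorem K_comm {s t x y w d e f g h : G} (H : Pre957 s t x y w d e f g h) :
    Commute (K x y f g h) s ∧ Commute (K x y f g h) t ∧ Commute (K x y f g h) (g * h) ∧
      Commute (K x y f g h) (f * (g * h) * f) := by
  have hK := k_rels_ok H
  have is := inv_of_sq H.s2
  have it := inv_of_sq H.t2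
  have ig := inv_of_sq H.g2
  have ih := inv_of_sq H.h2
  have iF := inv_of_sq H.f2
  have e : ∀ r, ev (lt s t x y f g h) r = (r.map (lt s t x y f g h)).prod := fun _ => rfl
  simp only [KCertData.targets, List.forall_mem_cons, List.not_mem_nil, false_implies, implies_true,
    and_true, e, List.map_cons, List.map_nil, List.prod_cons, List.prod_nil, lt, mul_one,
    K_words' H, K_words] at hK
  obtain ⟨h1, h2, h3, h4⟩ := hK
  refine ⟨comm_of_inv_mul ?_, comm_of_inv_mul ?_, ?_, ?_⟩
  · rw [is]; simpa only [mul_assoc] using h1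
  · rw [it]; simpa only [mul_assoc] using h2
  · -- target is `K⁻¹ (h g) K (g h)`
    have h5 : Commute (K x y f g h) (h * g) := by
      apply comm_of_inv_mul
      rw [mul_inv_rev, ig, ih]
      simpa only [mul_assoc] using h3
    have h6 := h5.inv_right
    rwa [mul_inv_rev, ig, ih] at h6
  · have h5 : Commute (K x y f g h) (f * (h * g) * f) := by
      apply comm_of_inv_mul
      rw [mul_inv_rev, mul_inv_rev, mul_inv_rev, ig, ih, iF]
      simpa only [mul_assoc] using h4
    have h6 := h5.inv_right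
    rw [mul_inv_rev, mul_inv_rev, mul_inv_rev, ig, ih, iF] at h6
    rw [mul_assoc f]
    exact h6

/-- the sign -/
theorem K_eq_one {s t x y w d e f g h : G} (H : Pre957 s t x y w d e f g h)
    (hz : (s * t) ^ 2 ≠ 1) (hK : K x y f g h = 1 ∨ K x y f g h = (s * t) ^ 2) :
    K x y f g h = 1 := by
  rcases hK with hK | hK
  · exact hK
  exfalso
  apply hz
  have haux : ∀ r ∈ AuxCertData.targets, ev (lt s t x y f g h) r = 1 := by
    refine AuxCert.eq_one (lt s t x y f g h) (hinv9 H _ (by decide)) ?_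
    intro r hr
    exact base_ok H r (by revert r hr; decide)
  have is := inv_of_sq H.s2
  have it := inv_of_sq H.t2
  have e : ∀ r, ev (lt s t x y f g h) r = (r.map (lt s t x y f g h)).prod := fun _ => rfl
  simp only [AuxCertData.targets, List.forall_mem_cons, List.not_mem_nil, false_implies,
    implies_true, and_true, e, List.map_cons, List.map_nil, List.prod_cons, List.prod_nil, lt,
    mul_one] at haux
  obtain ⟨a1, a2, a3, a4, a5, a6, a7, a8, a9, a10, a11, a12⟩ := haux
  have hb := base_ok H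
  simp only [baseRels, List.forall_mem_cons, List.not_mem_nil, false_implies,
    implies_true, and_true, e, List.map_cons, List.map_nil, List.prod_cons, List.prod_nil, lt,
    mul_one] at hb
  obtain ⟨b1, b2, b3, b4, b5, b6, b7, b8, b9, b10, b11, b12, b13, b14, b15, b16, b17, b18, b19,
    b20, b21, b22, b23, b24, b25, b26⟩ := hb
  set u : G := x⁻¹ * (h * x) with hu
  set v : G := y⁻¹ * (g * y) with hv
  have hu2 : u * u = 1 := by
    rw [hu]
    have : x⁻¹ * (h * x) * (x⁻¹ * (h * x)) = x⁻¹ * (h * h) * x := by group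
    rw [this, H.h2]; group
  have hv2 : v * v = 1 := by
    rw [hv]
    have : y⁻¹ * (g * y) * (y⁻¹ * (g * y)) = y⁻¹ * (g * g) * y := by group
    rw [this, H.g2]; group
  have hKuv : K x y f g h = (f * u * f * v) ^ 2 := by
    have h1 : x⁻¹ * (f * h * f) * x = f * u * f := by
      have h2 : x⁻¹ * f = f * x⁻¹ := (H.fx.inv_right.eq).symm
      have h3 : f * x = x * f := H.fx.eq
      calc x⁻¹ * (f * h * f) * x = (x⁻¹ * f) * h * (f * x) := by simp only [mul_assoc]
        _ = (f * x⁻¹) * h * (x * f) := by rw [h2, h3]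
        _ = f * u * f := by rw [hu]; simp only [mul_assoc]
    rw [K, h1, hv]
    simp only [mul_assoc]
  have hmod : ∀ r ∈ ModZCertData.targets, ev (lu s t f g h u v) r = 1 := by
    refine ModZCert.eq_one (lu s t f g h u v) ?_ ?_
    · intro i hi
      interval_cases i
      · exact H.s2
      · exact H.t2
      · exact H.f2
      · exact H.g2
      · exact H.h2
      · exact hu2
      · exact hv2
    · have e2 : ∀ r, ev (lu s t f g h u v) r = (r.map (lu s t f g h u v)).prod := fun _ => rfl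
      simp only [ModZCertData.rels, List.forall_mem_cons, List.not_mem_nil, false_implies,
        implies_true, and_true, e2, List.map_cons, List.map_nil, List.prod_cons, List.prod_nil, lu,
        mul_one]
      have hK' : f * (u * (f * (v * (f * (u * (f * (v * (t * (s * (t * s)))))))))) = 1 := by
        have h1 : f * (u * (f * (v * (f * (u * (f * (v * (t * (s * (t * s)))))))))) =
            (f * u * f * v) ^ 2 * (t * (s * (t * s))) := by
          simp only [pow_two, mul_assoc]
        have h3 : (s * t) ^ 2 * (t * (s * (t * s))) = s * (t * (s * (t * t) * s) * t) * s := by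
          simp only [pow_two, mul_assoc]
        rw [h1, ← hKuv, hK, h3, H.t2, mul_one, H.s2, mul_one, H.t2, mul_one, H.s2]
      refine ⟨b3, b4, b7, b8, b10, b11, ?_, ?_, ?_, ?_, b14, b15, ?_, ?_, ?_, ?_, ?_, ?_, b18,
        b21, ?_, ?_, hK'⟩ <;>
      first
        | (rw [hu]; simpa only [mul_assoc] using a1)
        | (rw [hv]; simpa only [mul_assoc] using a2)
        | (rw [hu]; simpa only [mul_assoc] using a3)
        | (rw [hv]; simpa only [mul_assoc] using a4)
        | (rw [hu]; simpa only [mul_assoc] using a5)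
        | (rw [hv]; simpa only [mul_assoc] using a6)
        | (rw [hu]; simpa only [mul_assoc] using a7)
        | (rw [hu]; simpa only [mul_assoc] using a8)
        | (rw [hu]; simpa only [mul_assoc] using a9)
        | (rw [hv]; simpa only [mul_assoc] using a10)
        | (rw [hv]; simpa only [mul_assoc] using a11)
        | (rw [hv]; simpa only [mul_assoc] using a12)
  have h1 := hmod [0, 1, 0, 1] (by decide)
  have e2 : ev (lu s t f g h u v) [0, 1, 0, 1] = s * (t * (s * t)) := by
    simp [ev, lu]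
  rw [e2] at h1
  rw [pow_two, mul_assoc]
  exact h1

/-- the case `A₆` -/
theorem a6_false {s t x y w d e f g h : G} (H : Pre957 s t x y w d e f g h)
    (hK : K x y f g h = 1) (h1 : (x * y⁻¹) ^ 4 = 1) (h2 : (x * y) ^ 5 = 1) :
    (s * t) ^ 2 = 1 := by
  have hrel : ∀ r ∈ ASixCertData.rels, ev (lt s t x y f g h) r = 1 := by
    have hsub : ∀ r ∈ ASixCertData.rels, r ∈ baseRels ∨ r = [2,5,2,5,2,5,2,5] ∨
        r = [2,4,2,4,2,4,2,4,2,4] ∨ r = [3,6,8,6,2,5,7,4,3,6,8,6,2,5,7,4] := by decide
    intro r hr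
    rcases hsub r hr with h | rfl | rfl | rfl
    · exact base_ok H r h
    · simp only [ev, List.map_cons, List.map_nil, List.prod_cons, List.prod_nil, lt, mul_one]
      simpa only [pow_succ, pow_zero, one_mul, mul_assoc] using h1
    · simp only [ev, List.map_cons, List.map_nil, List.prod_cons, List.prod_nil, lt, mul_one]
      simpa only [pow_succ, pow_zero, one_mul, mul_assoc] using h2
    · simp only [ev, List.map_cons, List.map_nil, List.prod_cons, List.prod_nil, lt, mul_one]
      simpa only [K, pow_succ, pow_zero, one_mul, mul_assoc] using hK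
  set z : G := (s * t) ^ 2 with hz
  have is := inv_of_sq H.s2
  have it := inv_of_sq H.t2
  have hzz : z = s * (t * (s * t)) := by rw [hz, pow_two]; simp only [mul_assoc]
  have hzinv : z⁻¹ = t * (s * (t * s)) := by
    rw [hzz]; simp only [mul_inv_rev, is, it, mul_assoc]
  have hz2 : z * z = 1 := by rw [hz, ← pow_add]; exact H.st4
  have hz3 : t * (s * (t * s)) = s * (t * (s * t)) := by
    rw [← hzinv, ← hzz]; exact inv_of_sq hz2
  have cs : Commute z s := by
    show z * s = s * z
    have h3 : z * s = s * (t * (s * (t * s))) := by rw [hzz]; simp only [mul_assoc]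
    rw [h3, hz3, ← hzz]
  have ct : Commute z t := by
    show z * t = t * z
    have h3 : z * t = s * (t * (s * (t * t))) := by rw [hzz]; simp only [mul_assoc]
    have h4 : t * z = t * (s * (t * (s * t))) := by rw [hzz]
    have h5 : t * (s * (t * (s * t))) = t * (s * (t * s)) * t := by simp only [mul_assoc]
    have h6 : s * (t * (s * (t * t))) = s * (t * (s * t)) * t := by simp only [mul_assoc]
    rw [h3, h4, h5, hz3, h6]
  have cz : ∀ a : G, Commute a s → Commute a t → Commute z a := by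
    intro a h3 h4
    rw [hz]
    exact ((h3.symm.mul_left h4.symm).pow_left 2)
  have cx : Commute z (x⁻¹ * h * x) := by
    -- `z ^ x⁻¹ ∈ ⟨s, t⟩`
    have h3 : x⁻¹ * (z * s) * x = z := by
      have h4 : x⁻¹ * (z * s) * x = (x⁻¹ * z * x) * (x⁻¹ * s * x) := by group
      rw [h4, H.zx, H.sx, ← hz, cs.eq, ← mul_assoc, H.s2, one_mul]
    have h5 : Commute (z * s) h := (cz h H.hs H.ht).mul_left H.hs.symm
    show z * (x⁻¹ * h * x) = (x⁻¹ * h * x) * z
    calc z * (x⁻¹ * h * x) = (x⁻¹ * (z * s) * x) * (x⁻¹ * h * x) := by rw [h3]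
      _ = x⁻¹ * ((z * s) * h) * x := by group
      _ = x⁻¹ * (h * (z * s)) * x := by rw [h5.eq]
      _ = (x⁻¹ * h * x) * (x⁻¹ * (z * s) * x) := by group
      _ = _ := by rw [h3]
  have cy : Commute z (y⁻¹ * g * y) := by
    have h3 : y⁻¹ * (z * t) * y = z := by
      have h4 : y⁻¹ * (z * t) * y = (y⁻¹ * z * y) * (y⁻¹ * t * y) := by group
      rw [h4, H.zy, H.ty, ← hz, ct.eq, ← mul_assoc, H.t2, one_mul]
    have h5 : Commute (z * t) g := (cz g H.gs H.gt).mul_left H.gt.symm
    show z * (y⁻¹ * g * y) = (y⁻¹ * g * y) * z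
    calc z * (y⁻¹ * g * y) = (y⁻¹ * (z * t) * y) * (y⁻¹ * g * y) := by rw [h3]
      _ = y⁻¹ * ((z * t) * g) * y := by group
      _ = y⁻¹ * (g * (z * t)) * y := by rw [h5.eq]
      _ = (y⁻¹ * g * y) * (y⁻¹ * (z * t) * y) := by group
      _ = _ := by rw [h3]
  have hmem := ASixCert.mem (Subgroup.centralizer {z}) (lt s t x y f g h) (hinv9 H _ (by decide))
    hrel (by
      have hc : ∀ a : G, Commute z a → a ∈ Subgroup.centralizer {z} := fun a ha =>
        Subgroup.mem_centralizer_singleton_iff.mpr ha.eq.symm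
      intro w hw
      simp only [ASixCertData.subw, List.mem_cons, List.not_mem_nil, or_false] at hw
      rcases hw with rfl | rfl | rfl | rfl | rfl | rfl | rfl <;>
        simp only [ev, List.map_cons, List.map_nil, List.prod_cons, List.prod_nil, lt, mul_one]
      · exact hc _ cs
      · exact hc _ ct
      · exact hc _ (cz f H.fs H.ft)
      · exact hc _ (cz g H.gs H.gt)
      · exact hc _ (cz h H.hs H.ht)
      · rw [← mul_assoc]; exact hc _ cy
      · rw [← mul_assoc]; exact hc _ cx) [2] (by decide)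
  have hx : x ∈ Subgroup.centralizer {z} := by
    simpa only [ev, List.map_cons, List.map_nil, List.prod_cons, List.prod_nil, lt, mul_one]
      using hmem
  have hx2 : x * z = z * x := Subgroup.mem_centralizer_singleton_iff.mp hx
  have h4 : x⁻¹ * z * x = z := by rw [mul_assoc, ← hx2, inv_mul_cancel_left]
  have h3 : z = s := h4.symm.trans H.zx
  have h5 : x⁻¹ * s * x = s := by rw [← h3]; exact h4
  have h6 : z * s = s := H.sx.symm.trans h5
  exact mul_eq_right.mp h6

end Cfsg.Agent.CoOneType.RelC
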