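import Cfsg.Agent.CoOneType.TopWords
import Cfsg.Agent.CoOneType.KOracle

/-!
# Equalities of words in `K`, checked on the base points
-/

set_option autoImplicit false
set_option maxRecDepth 100000

namespace Cfsg.Agent.CoOneType.TopChk

open Cfsg.Agent.CoOneType.TopRules Cfsg.Agent.CoOneType.TopWords Cfsg.Agent.CoOneType.SuzPerm Cfsg.Agent.CoOneType.KOracle

theorem k18 : chk ((a9) ++ a17) (a17 ++ c18) = true := by decide +kernel

theorem k19 : chk ((a10) ++ a17) (a17 ++ c19) = true := by decide +kernel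

theorem k20 : chk ((a11) ++ a17) (a17 ++ c20) = true := by decide +kernel

theorem k21 : chk ((a12) ++ a17) (a17 ++ c21) = true := by decide +kernel

theorem k22 : chk ((a14 ++ (iw a13)) ++ a17) (a17 ++ c22) = true := by decide +kernel

theorem k23 : chk ((a15 ++ (iw a13)) ++ a17) (a17 ++ c23) = true := by decide +kernel

theorem k25 : chk ((a14 ++ (iw a13)) ++ a24) (a24 ++ c25) = true := by decide +kernel

theorem k26 : chk ((a9 ++ (a12 ++ (a11 ++ (iw a9)))) ++ a24) (a24 ++ c26) = true := by decide +kernel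

theorem k27 : chk ((a12 ++ (a15 ++ (iw a13 ++ (iw a12)))) ++ a24) (a24 ++ c27) = true := by decide +kernel

theorem k28 : chk ((iw a11 ++ (a9 ++ (a13 ++ (a15 ++ (iw a14 ++ (a12 ++ (iw a15 ++ (iw a10)))))))) ++ a24) (a24 ++ c28) = true := by decide +kernel

theorem k29_2 : chk (a17 ++ c29_1 ++ [10]) ((iw a13 ++ (iw a9 ++ (iw a10 ++ (iw a9)))) ++ (a24 ++ c29_2)) = true := by decide +kernel

theorem k30_2 : chk (a24 ++ c30_1 ++ [10]) ((iw a13 ++ (iw a14 ++ (iw a15 ++ (iw a13)))) ++ (a24 ++ c30_2)) = true := by decide +kernel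

theorem k32 : chk ((a9) ++ a31) (a31 ++ c32) = true := by decide +kernel

theorem k33 : chk ((a10) ++ a31) (a31 ++ c33) = true := by decide +kernel

theorem k34 : chk ((a13) ++ a31) (a31 ++ c34) = true := by decide +kernel

theorem k35 : chk ((a14) ++ a31) (a31 ++ c35) = true := by decide +kernel

theorem k36 : chk ((a15) ++ a31) (a31 ++ c36) = true := by decide +kernel

theorem k37 : chk ((a12 ++ (a15 ++ (iw a12))) ++ a31) (a31 ++ c37) = true := by decide +kernel

theorem k38 : chk ((a11 ++ (a12 ++ (a15 ++ (a12 ++ (iw a15 ++ (a12 ++ (a11))))))) ++ a31) (a31 ++ c38) = true := by decide +kernel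

theorem k39_1 : chk (m39) (([]) ++ (a16 ++ c39_1)) = true := by decide +kernel

theorem k39_2 : chk (b16 ++ c39_1 ++ [10]) (([]) ++ (a31 ++ c39_2)) = true := by decide +kernel

theorem k40 : chk ((a13) ++ b39) (b39 ++ c40) = true := by decide +kernel

theorem k40_0 : chk (a40) (a39 ++ c40 ++ iw a39) = true := by decide +kernel

theorem k41_2 : chk (a24 ++ c41_1 ++ [10]) (([]) ++ (a31 ++ c41_2)) = true := by decide +kernel

theorem k42_1 : chk (m42) (([]) ++ (b41 ++ c42_1)) = true := by decide +kernel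

theorem k42_2 : chk (a41 ++ c42_1 ++ [10]) ((iw a34 ++ (iw a40)) ++ (a41 ++ c42_2)) = true := by decide +kernel

theorem k42_a : chk (a42) (b41 ++ c42_2 ++ [10]) = true := by decide +kernel

theorem k43_1 : chk (m43) (([]) ++ (a42 ++ c43_1)) = true := by decide +kernel

theorem k43_2 : chk (b42 ++ c43_1 ++ [10]) ((a28 ++ (iw a25 ++ (iw a27 ++ (iw a26)))) ++ (b41 ++ c43_2)) = true := by decide +kernel

theorem k43_3 : chk (a41 ++ c43_2 ++ [10]) ((iw a35 ++ (iw a40 ++ (iw a38 ++ (iw a35 ++ (iw a37 ++ (iw a34 ++ (iw a35 ++ (a38 ++ (iw a35 ++ (iw a40 ++ (iw a34 ++ (iw a32)))))))))))) ++ (a41 ++ c43_3)) = true := by decide +kernel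

theorem k43_a : chk (a43) (b41 ++ c43_3 ++ [10] ++ iw m43) = true := by decide +kernel

theorem k44_2 : chk (a31 ++ c44_1 ++ [10]) ((iw a11 ++ (iw a12)) ++ (a31 ++ c44_2)) = true := by decide +kernel

theorem k45_1 : chk (m45) (([]) ++ (b41 ++ c45_1)) = true := by decide +kernel

theorem k45_2 : chk (a41 ++ c45_1 ++ [10]) ((iw a34 ++ (iw a40 ++ (iw a34))) ++ (a41 ++ c45_2)) = true := by decide +kernel

theorem k45_a : chk (a45) (b41 ++ c45_2 ++ [10]) = true := by decide +kernel

theorem k46_1 : chk (m46) (([]) ++ (a45 ++ c46_1)) = true := by decide +kernel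

theorem k46_2 : chk (b45 ++ c46_1 ++ [10]) ((iw a43 ++ (iw a28 ++ (a43 ++ (iw a27 ++ (iw a43))))) ++ (a45 ++ c46_2)) = true := by decide +kernel

theorem k46_a : chk (a46) (b45 ++ c46_2 ++ [10]) = true := by decide +kernel

theorem k48 : chk ((a18) ++ a47) (a47 ++ c48) = true := by decide +kernel

theorem k49 : chk ((a19) ++ a47) (a47 ++ c49) = true := by decide +kernel

theorem k50 : chk ((a20) ++ a47) (a47 ++ c50) = true := by decide +kernel

theorem k51 : chk ((a21) ++ a47) (a47 ++ c51) = true := by decide +kernel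

theorem k52 : chk ((a22) ++ a47) (a47 ++ c52) = true := by decide +kernel

theorem k53 : chk ((a23) ++ a47) (a47 ++ c53) = true := by decide +kernel

theorem k55 : chk ((a19) ++ a54) (a54 ++ c55) = true := by decide +kernel

theorem k56 : chk ((a22) ++ a54) (a54 ++ c56) = true := by decide +kernel

theorem k57 : chk ((a23) ++ a54) (a54 ++ c57) = true := by decide +kernel

theorem k58 : chk ((a18 ++ (a19 ++ (iw a18))) ++ a54) (a54 ++ c58) = true := by decide +kernel

theorem k59 : chk ((a21 ++ (a23 ++ (iw a21))) ++ a54) (a54 ++ c59) = true := by decide +kernel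

theorem k60 : chk ((iw a21 ++ (a23 ++ (a21))) ++ a54) (a54 ++ c60) = true := by decide +kernel

theorem k61 : chk ((a20 ++ (a21 ++ (a23 ++ (a21 ++ (iw a22 ++ (a23 ++ (iw a21 ++ (a20 ++ (iw a21 ++ (iw a23 ++ (iw a22 ++ (a21 ++ (iw a23 ++ (a21 ++ (a20))))))))))))))) ++ a54) (a54 ++ c61) = true := by decide +kernel

theorem k62_1 : chk (m62) (([]) ++ (a29 ++ c62_1)) = true := by decide +kernel

theorem k62_2 : chk (b29 ++ c62_1 ++ [10]) ((a20 ++ (a21 ++ (iw a23 ++ (a22 ++ (iw a21 ++ (iw a23 ++ (iw a22 ++ (iw a20 ++ (a21 ++ (iw a23 ++ (a21 ++ (iw a23 ++ (a20 ++ (iw a21 ++ (iw a20))))))))))))))) ++ (a54 ++ c62_2)) = true := by decide +kernel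

theorem k63_1 : chk (m63) (([]) ++ (a42 ++ c63_1)) = true := by decide +kernel

theorem k63_2 : chk (b42 ++ c63_1 ++ [10]) ((a43 ++ (a43 ++ (iw a28 ++ (iw a25 ++ (iw a43 ++ (iw a43)))))) ++ (b62 ++ c63_2)) = true := by decide +kernel

theorem k63_a : chk (a63) (a62 ++ c63_2 ++ [10]) = true := by decide +kernel

theorem k63_b : chk (b63) (m63 ++ [10]) = true := by decide +kernel

theorem k64 : chk ((a25) ++ b63) (b63 ++ c64) = true := by decide +kernel

theorem k64_0 : chk (a64) (a63 ++ c64 ++ iw a63) = true := by decide +kernel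

theorem k65_1 : chk (m65) (([]) ++ (a45 ++ c65_1)) = true := by decide +kernel

theorem k65_2 : chk (b45 ++ c65_1 ++ [10]) ((iw a25 ++ (iw a43 ++ (iw a26))) ++ (b62 ++ c65_2)) = true := by decide +kernel

theorem k65_a : chk (a65) (a62 ++ c65_2 ++ [10]) = true := by decide +kernel

theorem k66_1 : chk (m66) (([]) ++ (a41 ++ c66_1)) = true := by decide +kernel

theorem k66_2 : chk (b41 ++ c66_1 ++ [10]) ((a43 ++ (a43 ++ (iw a28 ++ (iw a25 ++ (iw a43 ++ (iw a43)))))) ++ (b62 ++ c66_2)) = true := by decide +kernel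

theorem k66_a : chk (a66) (a62 ++ c66_2 ++ [10]) = true := by decide +kernel

theorem k67_2 : chk (a54 ++ c67_1 ++ [10]) ((iw a22 ++ (iw a23 ++ (a22 ++ (a20 ++ (a21 ++ (iw a23 ++ (a21 ++ (iw a20 ++ (a21))))))))) ++ (a54 ++ c67_2)) = true := by decide +kernel

theorem k68_1 : chk (m68) (([]) ++ (a62 ++ c68_1)) = true := by decide +kernel

theorem k68_2 : chk (b62 ++ c68_1 ++ [10]) (([]) ++ (b41 ++ c68_2)) = true := by decide +kernel

theorem k68_3 : chk (a41 ++ c68_2 ++ [10]) ((iw a40 ++ (iw a35 ++ (a38 ++ (iw a35 ++ (iw a40 ++ (iw a37 ++ (iw a35 ++ (iw a38 ++ (iw a34 ++ (iw a35 ++ (iw a37))))))))))) ++ (b66 ++ c68_3)) = true := by decide +kernel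

theorem k68_a : chk (a68) (a66 ++ c68_3 ++ [10] ++ iw m68) = true := by decide +kernel

theorem k69 : chk ((a68 ++ (a64 ++ (iw a55 ++ (a64)))) ++ b54) (b54 ++ c69) = true := by decide +kernel

theorem k69_0 : chk (a69) (a54 ++ c69 ++ iw a54) = true := by decide +kernel

theorem k70 : chk ((a69) ++ a47) (a47 ++ c70) = true := by decide +kernel

theorem k71_1 : chk (m71) (([]) ++ (a54 ++ c71_1)) = true := by decide +kernel

theorem k71_2 : chk (b54 ++ c71_1 ++ [10]) ((iw a59 ++ (iw a56 ++ (iw a64))) ++ (b54 ++ c71_2)) = true := by decide +kernel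

theorem k71_a : chk (a71) (a54 ++ c71_2 ++ [10]) = true := by decide +kernel

theorem k72_1 : chk (m72) (([]) ++ (a71 ++ c72_1)) = true := by decide +kernel

theorem k72_2 : chk (b71 ++ c72_1 ++ [10]) (([]) ++ (a47 ++ c72_2)) = true := by decide +kernel

theorem k73 : chk ((a18) ++ b72) (b72 ++ c73) = true := by decide +kernel

theorem k73_0 : chk (a73) (a72 ++ c73 ++ iw a72) = true := by decide +kernel

theorem k75 : chk ((a26) ++ a74) (a74 ++ c75) = true := by decide +kernel

theorem k76 : chk ((iw a25 ++ (a28 ++ (iw a25))) ++ a74) (a74 ++ c76) = true := by decide +kernel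

theorem k77 : chk ((a27 ++ (a26 ++ (iw a27))) ++ a74) (a74 ++ c77) = true := by decide +kernel

theorem k78 : chk ((a27 ++ (a28 ++ (iw a43))) ++ a74) (a74 ++ c78) = true := by decide +kernel

theorem k79_1 : chk (m79) (([]) ++ (a42 ++ c79_1)) = true := by decide +kernel

theorem k79_2 : chk (b42 ++ c79_1 ++ [10]) (([]) ++ (a74 ++ c79_2)) = true := by decide +kernel

theorem k80 : chk ((iw a25 ++ (a28 ++ (iw a25))) ++ b79) (b79 ++ c80) = true := by decide +kernel

theorem k80_0 : chk (a80) (a79 ++ c80 ++ iw a79) = true := by decide +kernel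

theorem k81_2 : chk (a74 ++ c81_1 ++ [10]) ((a43 ++ (iw a27 ++ (a28))) ++ (a74 ++ c81_2)) = true := by decide +kernel

end Cfsg.Agent.CoOneType.TopChk
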