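import Cfsg.Agent.CoOneType.TopRules

/-!
# Closure of a union of double cosets of `K`
-/

set_option autoImplicit false

namespace Cfsg.Agent.CoOneType.TopClose

open Cfsg.Agent.SporadicRecognition.CosetCert Cfsg.Agent.SporadicRecognition.CosetCertHyp
open Cfsg.Agent.CoOneType.Chain Cfsg.Agent.CoOneType.TopRules

variable {G : Type*} [Group G]

/-- Everything we know about the node `i` of `n` nodes with representatives `X`. -/
structure Node (L : ℕ → G) (w : G) (X : ℕ → G) (n i : ℕ) : Prop where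
  cov : ∃ (T A : List (List ℕ)), (∀ u ∈ T, S L (X i) u) ∧
    (∀ a ∈ A, ∃ j < n, ∃ b, ltB 11 b = true ∧ E L w (X i) a (X j) b) ∧
    ∀ k ∈ K L, ∃ s ∈ Subgroup.closure (ev L '' {u | u ∈ T}), ∃ a ∈ A, ∃ c ∈ C L, k = s * ev L a * c

theorem stab_closure {L : ℕ → G} {p : G} {T : List (List ℕ)} (hT : ∀ u ∈ T, S L p u) {s : G}
    (hs : s ∈ Subgroup.closure (ev L '' {u | u ∈ T})) : Rel (K L) (p * s) p := by
  induction hs using Subgroup.closure_induction with
  | mem x hx => obtain ⟨u, hu, rfl⟩ := hx; exact hT u hu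
  | one => rw [mul_one]; exact Rel.refl _
  | mul x y _ _ hx hy => rw [← mul_assoc]; exact (hx.mul y).trans hy
  | inv x _ hx =>
    have := hx.mul x⁻¹
    rw [mul_assoc, mul_inv_cancel, mul_one] at this
    exact this.symm

theorem C_le_K (L : ℕ → G) : C L ≤ K L := by
  unfold C K
  apply Subgroup.closure_mono
  rintro _ ⟨n, hn, rfl⟩
  exact ⟨n, lt_trans (show n < 10 from hn) (show 10 < 11 by norm_num), rfl⟩

/-- The union of the double cosets. -/
def InU (L : ℕ → G) (X : ℕ → G) (n : ℕ) (q : G) : Prop := ∃ j < n, ∃ k ∈ K L, Rel (K L) q (X j * k)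

theorem InU.mulK {L X : ℕ → G} {n : ℕ} {q : G} (h : InU L X n q) {k : G} (hk : k ∈ K L) : InU L X n (q * k) := by
  obtain ⟨j, hj, k', hk', h⟩ := h
  refine ⟨j, hj, k' * k, Subgroup.mul_mem _ hk' hk, ?_⟩
  rw [← mul_assoc]
  exact h.mul k

theorem InU.mulw {L : ℕ → G} {w : G} (H : TopRel L w) {X : ℕ → G} {n : ℕ} (hN : ∀ i < n, Node L w X n i)
    {q : G} (h : InU L X n q) : InU L X n (q * w) := by
  obtain ⟨i, hi, k, hk, h⟩ := h
  obtain ⟨T, A, hT, hA, hc⟩ := (hN i hi).cov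
  obtain ⟨s, hs, a, ha, c, hc, rfl⟩ := hc k hk
  obtain ⟨j, hj, b, hb, he⟩ := hA a ha
  refine ⟨j, hj, ev L b * c, Subgroup.mul_mem _ (ev_mem_K L hb) (C_le_K L hc), ?_⟩
  refine (h.mul w).trans ?_
  have h1 : X i * (s * ev L a * c) * w = X i * s * (ev L a * (c * w)) := by simp only [mul_assoc]
  rw [h1, comm_w H hc]
  refine ((stab_closure hT hs).mul _).trans ?_
  have h2 : X i * (ev L a * (w * c)) = X i * ev L a * w * c := by simp only [mul_assoc]
  rw [h2, ← mul_assoc (X j)]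
  exact he.mul c

/-- The whole group. -/
def Top (L : ℕ → G) (w : G) : Subgroup G := Subgroup.closure (L '' {x | x < 11} ∪ {w})

theorem top_covered {L : ℕ → G} {w : G} (H : TopRel L w) {X : ℕ → G} {n : ℕ} (hn : 0 < n) (h0 : X 0 = 1)
    (hN : ∀ i < n, Node L w X n i) : ∀ q ∈ Top L w, InU L X n q := by
  intro q hq
  unfold Top at hq
  have hw : w⁻¹ = w := inv_self H.ww
  refine Subgroup.closure_induction_right (p := fun a _ => InU L X n a) ?_ ?_ ?_ hq
  · exact ⟨0, hn, 1, Subgroup.one_mem _, by rw [h0, mul_one]; exact Rel.refl _⟩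
  · rintro a _ b (⟨x, hx, rfl⟩ | rfl) h
    · exact h.mulK (Subgroup.subset_closure ⟨x, hx, rfl⟩)
    · exact h.mulw H hN
  · rintro a _ b (⟨x, hx, rfl⟩ | rfl) h
    · exact h.mulK (Subgroup.inv_mem _ (Subgroup.subset_closure ⟨x, hx, rfl⟩))
    · rw [hw]; exact h.mulw H hN

/-- the number of covering words is at most `e` -/
structure NodeE (L : ℕ → G) (w : G) (X : ℕ → G) (n i e : ℕ) : Prop where
  cov : ∃ (T A : List (List ℕ)), A.length ≤ e ∧ (∀ u ∈ T, S L (X i) u) ∧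
    (∀ a ∈ A, ∃ j < n, ∃ b, ltB 11 b = true ∧ E L w (X i) a (X j) b) ∧
    ∀ k ∈ K L, ∃ s ∈ Subgroup.closure (ev L '' {u | u ∈ T}), ∃ a ∈ A, ∃ c ∈ C L, k = s * ev L a * c

theorem NodeE.node {L : ℕ → G} {w : G} {X : ℕ → G} {n i e : ℕ} (h : NodeE L w X n i e) : Node L w X n i := by
  obtain ⟨T, A, _, h1, h2, h3⟩ := h.cov
  exact ⟨⟨T, A, h1, h2, h3⟩⟩

/-- Every element of the group is `κ X_i a c` with `κ ∈ K`, `c ∈ C` and `a` in a list of at most `e i` words. -/
theorem card_top {L : ℕ → G} {w : G} (H : TopRel L w) {X : ℕ → G} {n : ℕ} (hn : 0 < n) (h0 : X 0 = 1)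
    (e : ℕ → ℕ) (hN : ∀ i < n, NodeE L w X n i (e i)) [Finite (K L)] [Finite (C L)] :
    Finite (Top L w) ∧ Nat.card (Top L w) ≤ (∑ i ∈ Finset.range n, e i) * (Nat.card (K L) * Nat.card (C L)) := by
  classical
  have hcov := top_covered H hn h0 (fun i hi => (hN i hi).node)
  choose! T A hlen hT hA hK using fun i hi => (hN i hi).cov
  -- normal form
  have hnf : ∀ q ∈ Top L w, ∃ i < n, ∃ m < e i, ∃ c ∈ C L,
      q * (X i * (ev L ((A i).getD m []) * c))⁻¹ ∈ K L := by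
    intro q hq
    obtain ⟨i, hi, k, hk, hR⟩ := hcov q hq
    obtain ⟨s, hs, a, ha, c, hc, rfl⟩ := hK i hi k hk
    obtain ⟨m, hm, rfl⟩ := List.getElem_of_mem ha
    refine ⟨i, hi, m, lt_of_lt_of_le hm (hlen i hi), c, hc, ?_⟩
    rw [List.getD_eq_getElem _ _ hm]
    have h1 : Rel (K L) q (X i * s * (ev L (A i)[m] * c)) := by
      have : X i * (s * ev L (A i)[m] * c) = X i * s * (ev L (A i)[m] * c) := by simp only [mul_assoc]
      rwa [this] at hR
    have h2 := h1.trans ((stab_closure (hT i hi) hs).mul _)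
    exact h2
  choose! I hI M hM c hc hR using hnf
  let F : Top L w → (Σ i : Fin n, Fin (e i)) × (K L × C L) := fun q =>
    (⟨⟨I q.1, hI q.1 q.2⟩, ⟨M q.1, hM q.1 q.2⟩⟩,
      (⟨q.1 * (X (I q.1) * (ev L ((A (I q.1)).getD (M q.1) []) * c q.1))⁻¹, hR q.1 q.2⟩, ⟨c q.1, hc q.1 q.2⟩))
  have hF : Function.Injective F := by
    rintro ⟨a, ha⟩ ⟨b, hb⟩ h
    have h0 : (⟨⟨I a, hI a ha⟩, ⟨M a, hM a ha⟩⟩ : Σ i : Fin n, Fin (e i)) = ⟨⟨I b, hI b hb⟩, ⟨M b, hM b hb⟩⟩ :=
      congrArg (fun z => z.1) h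
    have h1 : I a = I b := congrArg (fun z : Σ i : Fin n, Fin (e i) => (z.1 : ℕ)) h0
    have h1' : M a = M b := congrArg (fun z : Σ i : Fin n, Fin (e i) => (z.2 : ℕ)) h0
    have h2 : c a = c b := congrArg (fun z => (z.2.2 : G)) h
    have h3 : a * (X (I a) * (ev L ((A (I a)).getD (M a) []) * c a))⁻¹ =
        b * (X (I b) * (ev L ((A (I b)).getD (M b) []) * c b))⁻¹ := congrArg (fun z => (z.2.1 : G)) h
    rw [h1, h1', h2] at h3
    exact Subtype.ext (mul_right_cancel h3)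
  refine ⟨Finite.of_injective F hF, ?_⟩
  calc Nat.card (Top L w) ≤ Nat.card ((Σ i : Fin n, Fin (e i)) × (K L × C L)) :=
        Nat.card_le_card_of_injective F hF
    _ = _ := by
      rw [Nat.card_prod, Nat.card_prod]
      congr 1
      rw [Nat.card_eq_fintype_card, Fintype.card_sigma]
      simp only [Fintype.card_fin]
      rw [Finset.sum_range]

end Cfsg.Agent.CoOneType.TopClose
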