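import Cfsg.Agent.CoOneType.TopChk
import Cfsg.Agent.CoOneType.TopClose

/-!
# The facts of the certificate
-/

set_option autoImplicit false
set_option maxRecDepth 100000

namespace Cfsg.Agent.CoOneType.TopFacts

open Cfsg.Agent.SporadicRecognition.CosetCert
open Cfsg.Agent.CoOneType.Chain Cfsg.Agent.CoOneType.TopRules
open Cfsg.Agent.CoOneType.TopWords Cfsg.Agent.CoOneType.TopChk Cfsg.Agent.CoOneType.KOracle

variable {G : Type*} [Group G]

/-- representative of the node `0` -/
def x0 (_ : ℕ → G) (_ : G) : G := 1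

theorem f0 {L : ℕ → G} {w : G} (_ : TopRel L w) : S L (x0 L w) a0 := S.init (by decide +kernel)

theorem f1 {L : ℕ → G} {w : G} (_ : TopRel L w) : S L (x0 L w) a1 := S.init (by decide +kernel)

theorem f2 {L : ℕ → G} {w : G} (_ : TopRel L w) : S L (x0 L w) a2 := S.init (by decide +kernel)

theorem f3 {L : ℕ → G} {w : G} (_ : TopRel L w) : S L (x0 L w) a3 := S.init (by decide +kernel)

theorem l4 : ltB 11 a4 = true := by decide +kernel

theorem f4 {L : ℕ → G} {w : G} (_ : TopRel L w) : S L (x0 L w) a4 := S.init (by decide +kernel)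

theorem f5 {L : ℕ → G} {w : G} (_ : TopRel L w) : S L (x0 L w) a5 := S.init (by decide +kernel)

theorem f6 {L : ℕ → G} {w : G} (_ : TopRel L w) : S L (x0 L w) a6 := S.init (by decide +kernel)

theorem f7 {L : ℕ → G} {w : G} (_ : TopRel L w) : S L (x0 L w) a7 := S.init (by decide +kernel)

/-- representative of the node `1` -/
def x1 (L : ℕ → G) (w : G) : G := x0 L w * ev L a8 * w

theorem f8 {L : ℕ → G} {w : G} (_ : TopRel L w) : E L w (x0 L w) a8 (x1 L w) b8 := E.def a8

theorem l9 : ltB 11 a9 = true := by decide +kernel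

theorem f9 {L : ℕ → G} {w : G} (H : TopRel L w) : S L (x1 L w) a9 :=
  trans_rule H (p := x0 L w) (s := a0) (A := a8) (B := b8) (c := c9) (f0 H) (f8 H)
    (by decide +kernel) (by decide +kernel)
    (congrArg (ev L) (by decide +kernel : (a0) ++ a8 = a8 ++ c9))
    (congrArg (ev L) (by decide +kernel : a9 = b8 ++ c9 ++ iw b8))

theorem l10 : ltB 11 a10 = true := by decide +kernel

theorem f10 {L : ℕ → G} {w : G} (H : TopRel L w) : S L (x1 L w) a10 :=
  trans_rule H (p := x0 L w) (s := a1) (A := a8) (B := b8) (c := c10) (f1 H) (f8 H)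
    (by decide +kernel) (by decide +kernel)
    (congrArg (ev L) (by decide +kernel : (a1) ++ a8 = a8 ++ c10))
    (congrArg (ev L) (by decide +kernel : a10 = b8 ++ c10 ++ iw b8))

theorem l11 : ltB 11 a11 = true := by decide +kernel

theorem f11 {L : ℕ → G} {w : G} (H : TopRel L w) : S L (x1 L w) a11 :=
  trans_rule H (p := x0 L w) (s := a2) (A := a8) (B := b8) (c := c11) (f2 H) (f8 H)
    (by decide +kernel) (by decide +kernel)
    (congrArg (ev L) (by decide +kernel : (a2) ++ a8 = a8 ++ c11))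
    (congrArg (ev L) (by decide +kernel : a11 = b8 ++ c11 ++ iw b8))

theorem l12 : ltB 11 a12 = true := by decide +kernel

theorem f12 {L : ℕ → G} {w : G} (H : TopRel L w) : S L (x1 L w) a12 :=
  trans_rule H (p := x0 L w) (s := a3) (A := a8) (B := b8) (c := c12) (f3 H) (f8 H)
    (by decide +kernel) (by decide +kernel)
    (congrArg (ev L) (by decide +kernel : (a3) ++ a8 = a8 ++ c12))
    (congrArg (ev L) (by decide +kernel : a12 = b8 ++ c12 ++ iw b8))

theorem l13 : ltB 11 a13 = true := by decide +kernel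

theorem f13 {L : ℕ → G} {w : G} (H : TopRel L w) : S L (x1 L w) a13 :=
  trans_rule H (p := x0 L w) (s := a5) (A := a8) (B := b8) (c := c13) (f5 H) (f8 H)
    (by decide +kernel) (by decide +kernel)
    (congrArg (ev L) (by decide +kernel : (a5) ++ a8 = a8 ++ c13))
    (congrArg (ev L) (by decide +kernel : a13 = b8 ++ c13 ++ iw b8))

theorem l14 : ltB 11 a14 = true := by decide +kernel

theorem f14 {L : ℕ → G} {w : G} (H : TopRel L w) : S L (x1 L w) a14 :=
  trans_rule H (p := x0 L w) (s := a6) (A := a8) (B := b8) (c := c14) (f6 H) (f8 H)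
    (by decide +kernel) (by decide +kernel)
    (congrArg (ev L) (by decide +kernel : (a6) ++ a8 = a8 ++ c14))
    (congrArg (ev L) (by decide +kernel : a14 = b8 ++ c14 ++ iw b8))

theorem l15 : ltB 11 a15 = true := by decide +kernel

theorem f15 {L : ℕ → G} {w : G} (H : TopRel L w) : S L (x1 L w) a15 :=
  trans_rule H (p := x0 L w) (s := a7) (A := a8) (B := b8) (c := c15) (f7 H) (f8 H)
    (by decide +kernel) (by decide +kernel)
    (congrArg (ev L) (by decide +kernel : (a7) ++ a8 = a8 ++ c15))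
    (congrArg (ev L) (by decide +kernel : a15 = b8 ++ c15 ++ iw b8))

theorem f16 {L : ℕ → G} {w : G} (H : TopRel L w) : E L w (x1 L w) a16 (x1 L w) b16 :=
  hex_edge H (q := x0 L w) (m := m16) (s1 := []) (A1 := b8) (B1 := a8) (c1 := c16_1)
    (s2 := iw a4) (A2 := a8) (B2 := b8) (c2 := c16_2)
    S.nil ((f8 H).rev H) (by decide +kernel)
    (congrArg (ev L) (by decide +kernel : m16 = ([]) ++ (b8 ++ c16_1)))
    ((f4 H).inv H.toLet l4) (f8 H) (by decide +kernel)
    (congrArg (ev L) (by decide +kernel : a8 ++ c16_1 ++ [10] = (iw a4) ++ (a8 ++ c16_2)))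
    (congrArg (ev L) (by decide +kernel : a16 = b8 ++ c16_2 ++ [10]))
    (congrArg (ev L) (by decide +kernel : b16 = m16 ++ [10]))

/-- representative of the node `2` -/
def x2 (L : ℕ → G) (w : G) : G := x1 L w * ev L a17 * w

theorem f17 {L : ℕ → G} {w : G} (_ : TopRel L w) : E L w (x1 L w) a17 (x2 L w) b17 := E.def a17

theorem l18 : ltB 11 a18 = true := by decide +kernel

theorem f18 {L : ℕ → G} {w : G} (H : TopRel L w) : S L (x2 L w) a18 :=
  trans_rule H (p := x1 L w) (s := a9) (A := a17) (B := b17) (c := c18) (f9 H) (f17 H)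
    (by decide +kernel) (by decide +kernel)
    (eq_of_chk H.toLet k18)
    (congrArg (ev L) (by decide +kernel : a18 = b17 ++ c18 ++ iw b17))

theorem f19 {L : ℕ → G} {w : G} (H : TopRel L w) : S L (x2 L w) a19 :=
  trans_rule H (p := x1 L w) (s := a10) (A := a17) (B := b17) (c := c19) (f10 H) (f17 H)
    (by decide +kernel) (by decide +kernel)
    (eq_of_chk H.toLet k19)
    (congrArg (ev L) (by decide +kernel : a19 = b17 ++ c19 ++ iw b17))

theorem l20 : ltB 11 a20 = true := by decide +kernel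

theorem f20 {L : ℕ → G} {w : G} (H : TopRel L w) : S L (x2 L w) a20 :=
  trans_rule H (p := x1 L w) (s := a11) (A := a17) (B := b17) (c := c20) (f11 H) (f17 H)
    (by decide +kernel) (by decide +kernel)
    (eq_of_chk H.toLet k20)
    (congrArg (ev L) (by decide +kernel : a20 = b17 ++ c20 ++ iw b17))

theorem l21 : ltB 11 a21 = true := by decide +kernel

theorem f21 {L : ℕ → G} {w : G} (H : TopRel L w) : S L (x2 L w) a21 :=
  trans_rule H (p := x1 L w) (s := a12) (A := a17) (B := b17) (c := c21) (f12 H) (f17 H)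
    (by decide +kernel) (by decide +kernel)
    (eq_of_chk H.toLet k21)
    (congrArg (ev L) (by decide +kernel : a21 = b17 ++ c21 ++ iw b17))

theorem l22 : ltB 11 a22 = true := by decide +kernel

theorem f22 {L : ℕ → G} {w : G} (H : TopRel L w) : S L (x2 L w) a22 :=
  trans_rule H (p := x1 L w) (s := a14 ++ (iw a13)) (A := a17) (B := b17) (c := c22) (S.append (f14 H) ((f13 H).inv H.toLet l13)) (f17 H)
    (by decide +kernel) (by decide +kernel)
    (eq_of_chk H.toLet k22)
    (congrArg (ev L) (by decide +kernel : a22 = b17 ++ c22 ++ iw b17))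

theorem l23 : ltB 11 a23 = true := by decide +kernel

theorem f23 {L : ℕ → G} {w : G} (H : TopRel L w) : S L (x2 L w) a23 :=
  trans_rule H (p := x1 L w) (s := a15 ++ (iw a13)) (A := a17) (B := b17) (c := c23) (S.append (f15 H) ((f13 H).inv H.toLet l13)) (f17 H)
    (by decide +kernel) (by decide +kernel)
    (eq_of_chk H.toLet k23)
    (congrArg (ev L) (by decide +kernel : a23 = b17 ++ c23 ++ iw b17))

/-- representative of the node `3` -/
def x3 (L : ℕ → G) (w : G) : G := x1 L w * ev L a24 * w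

theorem f24 {L : ℕ → G} {w : G} (_ : TopRel L w) : E L w (x1 L w) a24 (x3 L w) b24 := E.def a24

theorem l25 : ltB 11 a25 = true := by decide +kernel

theorem f25 {L : ℕ → G} {w : G} (H : TopRel L w) : S L (x3 L w) a25 :=
  trans_rule H (p := x1 L w) (s := a14 ++ (iw a13)) (A := a24) (B := b24) (c := c25) (S.append (f14 H) ((f13 H).inv H.toLet l13)) (f24 H)
    (by decide +kernel) (by decide +kernel)
    (eq_of_chk H.toLet k25)
    (congrArg (ev L) (by decide +kernel : a25 = b24 ++ c25 ++ iw b24))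

theorem l26 : ltB 11 a26 = true := by decide +kernel

theorem f26 {L : ℕ → G} {w : G} (H : TopRel L w) : S L (x3 L w) a26 :=
  trans_rule H (p := x1 L w) (s := a9 ++ (a12 ++ (a11 ++ (iw a9)))) (A := a24) (B := b24) (c := c26) (S.append (f9 H) (S.append (f12 H) (S.append (f11 H) ((f9 H).inv H.toLet l9)))) (f24 H)
    (by decide +kernel) (by decide +kernel)
    (eq_of_chk H.toLet k26)
    (congrArg (ev L) (by decide +kernel : a26 = b24 ++ c26 ++ iw b24))

theorem l27 : ltB 11 a27 = true := by decide +kernel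

theorem f27 {L : ℕ → G} {w : G} (H : TopRel L w) : S L (x3 L w) a27 :=
  trans_rule H (p := x1 L w) (s := a12 ++ (a15 ++ (iw a13 ++ (iw a12)))) (A := a24) (B := b24) (c := c27) (S.append (f12 H) (S.append (f15 H) (S.append ((f13 H).inv H.toLet l13) ((f12 H).inv H.toLet l12)))) (f24 H)
    (by decide +kernel) (by decide +kernel)
    (eq_of_chk H.toLet k27)
    (congrArg (ev L) (by decide +kernel : a27 = b24 ++ c27 ++ iw b24))

theorem l28 : ltB 11 a28 = true := by decide +kernel

theorem f28 {L : ℕ → G} {w : G} (H : TopRel L w) : S L (x3 L w) a28 :=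
  trans_rule H (p := x1 L w) (s := iw a11 ++ (a9 ++ (a13 ++ (a15 ++ (iw a14 ++ (a12 ++ (iw a15 ++ (iw a10)))))))) (A := a24) (B := b24) (c := c28) (S.append ((f11 H).inv H.toLet l11) (S.append (f9 H) (S.append (f13 H) (S.append (f15 H) (S.append ((f14 H).inv H.toLet l14) (S.append (f12 H) (S.append ((f15 H).inv H.toLet l15) ((f10 H).inv H.toLet l10)))))))) (f24 H)
    (by decide +kernel) (by decide +kernel)
    (eq_of_chk H.toLet k28)
    (congrArg (ev L) (by decide +kernel : a28 = b24 ++ c28 ++ iw b24))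

theorem f29 {L : ℕ → G} {w : G} (H : TopRel L w) : E L w (x3 L w) a29 (x2 L w) b29 :=
  hex_edge H (q := x1 L w) (m := m29) (s1 := []) (A1 := b17) (B1 := a17) (c1 := c29_1)
    (s2 := iw a13 ++ (iw a9 ++ (iw a10 ++ (iw a9)))) (A2 := a24) (B2 := b24) (c2 := c29_2)
    S.nil ((f17 H).rev H) (by decide +kernel)
    (congrArg (ev L) (by decide +kernel : m29 = ([]) ++ (b17 ++ c29_1)))
    (S.append ((f13 H).inv H.toLet l13) (S.append ((f9 H).inv H.toLet l9) (S.append ((f10 H).inv H.toLet l10) ((f9 H).inv H.toLet l9)))) (f24 H) (by decide +kernel)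
    (eq_of_chk H.toLet k29_2)
    (congrArg (ev L) (by decide +kernel : a29 = b24 ++ c29_2 ++ [10]))
    (congrArg (ev L) (by decide +kernel : b29 = m29 ++ [10]))

theorem f30 {L : ℕ → G} {w : G} (H : TopRel L w) : E L w (x3 L w) a30 (x3 L w) b30 :=
  hex_edge H (q := x1 L w) (m := m30) (s1 := []) (A1 := b24) (B1 := a24) (c1 := c30_1)
    (s2 := iw a13 ++ (iw a14 ++ (iw a15 ++ (iw a13)))) (A2 := a24) (B2 := b24) (c2 := c30_2)
    S.nil ((f24 H).rev H) (by decide +kernel)
    (congrArg (ev L) (by decide +kernel : m30 = ([]) ++ (b24 ++ c30_1)))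
    (S.append ((f13 H).inv H.toLet l13) (S.append ((f14 H).inv H.toLet l14) (S.append ((f15 H).inv H.toLet l15) ((f13 H).inv H.toLet l13)))) (f24 H) (by decide +kernel)
    (eq_of_chk H.toLet k30_2)
    (congrArg (ev L) (by decide +kernel : a30 = b24 ++ c30_2 ++ [10]))
    (congrArg (ev L) (by decide +kernel : b30 = m30 ++ [10]))

/-- representative of the node `4` -/
def x4 (L : ℕ → G) (w : G) : G := x1 L w * ev L a31 * w

theorem f31 {L : ℕ → G} {w : G} (_ : TopRel L w) : E L w (x1 L w) a31 (x4 L w) b31 := E.def a31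

theorem l32 : ltB 11 a32 = true := by decide +kernel

theorem f32 {L : ℕ → G} {w : G} (H : TopRel L w) : S L (x4 L w) a32 :=
  trans_rule H (p := x1 L w) (s := a9) (A := a31) (B := b31) (c := c32) (f9 H) (f31 H)
    (by decide +kernel) (by decide +kernel)
    (eq_of_chk H.toLet k32)
    (congrArg (ev L) (by decide +kernel : a32 = b31 ++ c32 ++ iw b31))

theorem f33 {L : ℕ → G} {w : G} (H : TopRel L w) : S L (x4 L w) a33 :=
  trans_rule H (p := x1 L w) (s := a10) (A := a31) (B := b31) (c := c33) (f10 H) (f31 H)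
    (by decide +kernel) (by decide +kernel)
    (eq_of_chk H.toLet k33)
    (congrArg (ev L) (by decide +kernel : a33 = b31 ++ c33 ++ iw b31))

theorem l34 : ltB 11 a34 = true := by decide +kernel

theorem f34 {L : ℕ → G} {w : G} (H : TopRel L w) : S L (x4 L w) a34 :=
  trans_rule H (p := x1 L w) (s := a13) (A := a31) (B := b31) (c := c34) (f13 H) (f31 H)
    (by decide +kernel) (by decide +kernel)
    (eq_of_chk H.toLet k34)
    (congrArg (ev L) (by decide +kernel : a34 = b31 ++ c34 ++ iw b31))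

theorem l35 : ltB 11 a35 = true := by decide +kernel

theorem f35 {L : ℕ → G} {w : G} (H : TopRel L w) : S L (x4 L w) a35 :=
  trans_rule H (p := x1 L w) (s := a14) (A := a31) (B := b31) (c := c35) (f14 H) (f31 H)
    (by decide +kernel) (by decide +kernel)
    (eq_of_chk H.toLet k35)
    (congrArg (ev L) (by decide +kernel : a35 = b31 ++ c35 ++ iw b31))

theorem f36 {L : ℕ → G} {w : G} (H : TopRel L w) : S L (x4 L w) a36 :=
  trans_rule H (p := x1 L w) (s := a15) (A := a31) (B := b31) (c := c36) (f15 H) (f31 H)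
    (by decide +kernel) (by decide +kernel)
    (eq_of_chk H.toLet k36)
    (congrArg (ev L) (by decide +kernel : a36 = b31 ++ c36 ++ iw b31))

theorem l37 : ltB 11 a37 = true := by decide +kernel

theorem f37 {L : ℕ → G} {w : G} (H : TopRel L w) : S L (x4 L w) a37 :=
  trans_rule H (p := x1 L w) (s := a12 ++ (a15 ++ (iw a12))) (A := a31) (B := b31) (c := c37) (S.append (f12 H) (S.append (f15 H) ((f12 H).inv H.toLet l12))) (f31 H)
    (by decide +kernel) (by decide +kernel)
    (eq_of_chk H.toLet k37)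
    (congrArg (ev L) (by decide +kernel : a37 = b31 ++ c37 ++ iw b31))

theorem l38 : ltB 11 a38 = true := by decide +kernel

theorem f38 {L : ℕ → G} {w : G} (H : TopRel L w) : S L (x4 L w) a38 :=
  trans_rule H (p := x1 L w) (s := a11 ++ (a12 ++ (a15 ++ (a12 ++ (iw a15 ++ (a12 ++ (a11))))))) (A := a31) (B := b31) (c := c38) (S.append (f11 H) (S.append (f12 H) (S.append (f15 H) (S.append (f12 H) (S.append ((f15 H).inv H.toLet l15) (S.append (f12 H) (f11 H))))))) (f31 H)
    (by decide +kernel) (by decide +kernel)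
    (eq_of_chk H.toLet k38)
    (congrArg (ev L) (by decide +kernel : a38 = b31 ++ c38 ++ iw b31))

theorem f39 {L : ℕ → G} {w : G} (H : TopRel L w) : E L w (x4 L w) a39 (x1 L w) b39 :=
  hex_edge H (q := x1 L w) (m := m39) (s1 := []) (A1 := a16) (B1 := b16) (c1 := c39_1)
    (s2 := []) (A2 := a31) (B2 := b31) (c2 := c39_2)
    S.nil (f16 H) (by decide +kernel)
    (eq_of_chk H.toLet k39_1)
    S.nil (f31 H) (by decide +kernel)
    (eq_of_chk H.toLet k39_2)
    (congrArg (ev L) (by decide +kernel : a39 = b31 ++ c39_2 ++ [10]))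
    (congrArg (ev L) (by decide +kernel : b39 = m39 ++ [10]))

theorem l40 : ltB 11 a40 = true := by decide +kernel

theorem f40 {L : ℕ → G} {w : G} (H : TopRel L w) : S L (x4 L w) a40 :=
  trans_rule H (p := x1 L w) (s := a13) (A := b39) (B := a39) (c := c40) (f13 H) ((f39 H).rev H)
    (by decide +kernel) (by decide +kernel)
    (eq_of_chk H.toLet k40)
    (eq_of_chk H.toLet k40_0)

theorem f41 {L : ℕ → G} {w : G} (H : TopRel L w) : E L w (x4 L w) a41 (x3 L w) b41 :=
  hex_edge H (q := x1 L w) (m := m41) (s1 := []) (A1 := b24) (B1 := a24) (c1 := c41_1)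
    (s2 := []) (A2 := a31) (B2 := b31) (c2 := c41_2)
    S.nil ((f24 H).rev H) (by decide +kernel)
    (congrArg (ev L) (by decide +kernel : m41 = ([]) ++ (b24 ++ c41_1)))
    S.nil (f31 H) (by decide +kernel)
    (eq_of_chk H.toLet k41_2)
    (congrArg (ev L) (by decide +kernel : a41 = b31 ++ c41_2 ++ [10]))
    (congrArg (ev L) (by decide +kernel : b41 = m41 ++ [10]))

theorem f42 {L : ℕ → G} {w : G} (H : TopRel L w) : E L w (x3 L w) a42 (x3 L w) b42 :=
  hex_edge H (q := x4 L w) (m := m42) (s1 := []) (A1 := b41) (B1 := a41) (c1 := c42_1)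
    (s2 := iw a34 ++ (iw a40)) (A2 := a41) (B2 := b41) (c2 := c42_2)
    S.nil ((f41 H).rev H) (by decide +kernel)
    (eq_of_chk H.toLet k42_1)
    (S.append ((f34 H).inv H.toLet l34) ((f40 H).inv H.toLet l40)) (f41 H) (by decide +kernel)
    (eq_of_chk H.toLet k42_2)
    (eq_of_chk H.toLet k42_a)
    (congrArg (ev L) (by decide +kernel : b42 = m42 ++ [10]))

theorem l43 : ltB 11 a43 = true := by decide +kernel

theorem f43 {L : ℕ → G} {w : G} (H : TopRel L w) : S L (x3 L w) a43 :=
  hex_stab H (q := x3 L w) (r := x4 L w) (m := m43) (s1 := []) (A1 := a42) (B1 := b42) (c1 := c43_1)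
    (s2 := a28 ++ (iw a25 ++ (iw a27 ++ (iw a26)))) (A2 := b41) (B2 := a41) (c2 := c43_2)
    (s3 := iw a35 ++ (iw a40 ++ (iw a38 ++ (iw a35 ++ (iw a37 ++ (iw a34 ++ (iw a35 ++ (a38 ++ (iw a35 ++ (iw a40 ++ (iw a34 ++ (iw a32)))))))))))) (A3 := a41) (B3 := b41) (c3 := c43_3)
    S.nil (f42 H) (by decide +kernel)
    (eq_of_chk H.toLet k43_1)
    (S.append (f28 H) (S.append ((f25 H).inv H.toLet l25) (S.append ((f27 H).inv H.toLet l27) ((f26 H).inv H.toLet l26)))) ((f41 H).rev H) (by decide +kernel)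
    (eq_of_chk H.toLet k43_2)
    (S.append ((f35 H).inv H.toLet l35) (S.append ((f40 H).inv H.toLet l40) (S.append ((f38 H).inv H.toLet l38) (S.append ((f35 H).inv H.toLet l35) (S.append ((f37 H).inv H.toLet l37) (S.append ((f34 H).inv H.toLet l34) (S.append ((f35 H).inv H.toLet l35) (S.append (f38 H) (S.append ((f35 H).inv H.toLet l35) (S.append ((f40 H).inv H.toLet l40) (S.append ((f34 H).inv H.toLet l34) ((f32 H).inv H.toLet l32)))))))))))) (f41 H) (by decide +kernel)
    (eq_of_chk H.toLet k43_3)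
    (by decide +kernel) (eq_of_chk H.toLet k43_a)

theorem f44 {L : ℕ → G} {w : G} (H : TopRel L w) : E L w (x4 L w) a44 (x4 L w) b44 :=
  hex_edge H (q := x1 L w) (m := m44) (s1 := []) (A1 := b31) (B1 := a31) (c1 := c44_1)
    (s2 := iw a11 ++ (iw a12)) (A2 := a31) (B2 := b31) (c2 := c44_2)
    S.nil ((f31 H).rev H) (by decide +kernel)
    (congrArg (ev L) (by decide +kernel : m44 = ([]) ++ (b31 ++ c44_1)))
    (S.append ((f11 H).inv H.toLet l11) ((f12 H).inv H.toLet l12)) (f31 H) (by decide +kernel)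
    (eq_of_chk H.toLet k44_2)
    (congrArg (ev L) (by decide +kernel : a44 = b31 ++ c44_2 ++ [10]))
    (congrArg (ev L) (by decide +kernel : b44 = m44 ++ [10]))

theorem f45 {L : ℕ → G} {w : G} (H : TopRel L w) : E L w (x3 L w) a45 (x3 L w) b45 :=
  hex_edge H (q := x4 L w) (m := m45) (s1 := []) (A1 := b41) (B1 := a41) (c1 := c45_1)
    (s2 := iw a34 ++ (iw a40 ++ (iw a34))) (A2 := a41) (B2 := b41) (c2 := c45_2)
    S.nil ((f41 H).rev H) (by decide +kernel)
    (eq_of_chk H.toLet k45_1)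
    (S.append ((f34 H).inv H.toLet l34) (S.append ((f40 H).inv H.toLet l40) ((f34 H).inv H.toLet l34))) (f41 H) (by decide +kernel)
    (eq_of_chk H.toLet k45_2)
    (eq_of_chk H.toLet k45_a)
    (congrArg (ev L) (by decide +kernel : b45 = m45 ++ [10]))

theorem f46 {L : ℕ → G} {w : G} (H : TopRel L w) : E L w (x3 L w) a46 (x3 L w) b46 :=
  hex_edge H (q := x3 L w) (m := m46) (s1 := []) (A1 := a45) (B1 := b45) (c1 := c46_1)
    (s2 := iw a43 ++ (iw a28 ++ (a43 ++ (iw a27 ++ (iw a43))))) (A2 := a45) (B2 := b45) (c2 := c46_2)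
    S.nil (f45 H) (by decide +kernel)
    (eq_of_chk H.toLet k46_1)
    (S.append ((f43 H).inv H.toLet l43) (S.append ((f28 H).inv H.toLet l28) (S.append (f43 H) (S.append ((f27 H).inv H.toLet l27) ((f43 H).inv H.toLet l43))))) (f45 H) (by decide +kernel)
    (eq_of_chk H.toLet k46_2)
    (eq_of_chk H.toLet k46_a)
    (congrArg (ev L) (by decide +kernel : b46 = m46 ++ [10]))

/-- representative of the node `5` -/
def x5 (L : ℕ → G) (w : G) : G := x2 L w * ev L a47 * w

theorem f47 {L : ℕ → G} {w : G} (_ : TopRel L w) : E L w (x2 L w) a47 (x5 L w) b47 := E.def a47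

theorem f48 {L : ℕ → G} {w : G} (H : TopRel L w) : S L (x5 L w) a48 :=
  trans_rule H (p := x2 L w) (s := a18) (A := a47) (B := b47) (c := c48) (f18 H) (f47 H)
    (by decide +kernel) (by decide +kernel)
    (eq_of_chk H.toLet k48)
    (congrArg (ev L) (by decide +kernel : a48 = b47 ++ c48 ++ iw b47))

theorem f49 {L : ℕ → G} {w : G} (H : TopRel L w) : S L (x5 L w) a49 :=
  trans_rule H (p := x2 L w) (s := a19) (A := a47) (B := b47) (c := c49) (f19 H) (f47 H)
    (by decide +kernel) (by decide +kernel)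
    (eq_of_chk H.toLet k49)
    (congrArg (ev L) (by decide +kernel : a49 = b47 ++ c49 ++ iw b47))

theorem f50 {L : ℕ → G} {w : G} (H : TopRel L w) : S L (x5 L w) a50 :=
  trans_rule H (p := x2 L w) (s := a20) (A := a47) (B := b47) (c := c50) (f20 H) (f47 H)
    (by decide +kernel) (by decide +kernel)
    (eq_of_chk H.toLet k50)
    (congrArg (ev L) (by decide +kernel : a50 = b47 ++ c50 ++ iw b47))

theorem f51 {L : ℕ → G} {w : G} (H : TopRel L w) : S L (x5 L w) a51 :=
  trans_rule H (p := x2 L w) (s := a21) (A := a47) (B := b47) (c := c51) (f21 H) (f47 H)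
    (by decide +kernel) (by decide +kernel)
    (eq_of_chk H.toLet k51)
    (congrArg (ev L) (by decide +kernel : a51 = b47 ++ c51 ++ iw b47))

theorem f52 {L : ℕ → G} {w : G} (H : TopRel L w) : S L (x5 L w) a52 :=
  trans_rule H (p := x2 L w) (s := a22) (A := a47) (B := b47) (c := c52) (f22 H) (f47 H)
    (by decide +kernel) (by decide +kernel)
    (eq_of_chk H.toLet k52)
    (congrArg (ev L) (by decide +kernel : a52 = b47 ++ c52 ++ iw b47))

theorem f53 {L : ℕ → G} {w : G} (H : TopRel L w) : S L (x5 L w) a53 :=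
  trans_rule H (p := x2 L w) (s := a23) (A := a47) (B := b47) (c := c53) (f23 H) (f47 H)
    (by decide +kernel) (by decide +kernel)
    (eq_of_chk H.toLet k53)
    (congrArg (ev L) (by decide +kernel : a53 = b47 ++ c53 ++ iw b47))

/-- representative of the node `6` -/
def x6 (L : ℕ → G) (w : G) : G := x2 L w * ev L a54 * w

theorem f54 {L : ℕ → G} {w : G} (_ : TopRel L w) : E L w (x2 L w) a54 (x6 L w) b54 := E.def a54

theorem l55 : ltB 11 a55 = true := by decide +kernel

theorem f55 {L : ℕ → G} {w : G} (H : TopRel L w) : S L (x6 L w) a55 :=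
  trans_rule H (p := x2 L w) (s := a19) (A := a54) (B := b54) (c := c55) (f19 H) (f54 H)
    (by decide +kernel) (by decide +kernel)
    (eq_of_chk H.toLet k55)
    (congrArg (ev L) (by decide +kernel : a55 = b54 ++ c55 ++ iw b54))

theorem l56 : ltB 11 a56 = true := by decide +kernel

theorem f56 {L : ℕ → G} {w : G} (H : TopRel L w) : S L (x6 L w) a56 :=
  trans_rule H (p := x2 L w) (s := a22) (A := a54) (B := b54) (c := c56) (f22 H) (f54 H)
    (by decide +kernel) (by decide +kernel)
    (eq_of_chk H.toLet k56)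
    (congrArg (ev L) (by decide +kernel : a56 = b54 ++ c56 ++ iw b54))

theorem f57 {L : ℕ → G} {w : G} (H : TopRel L w) : S L (x6 L w) a57 :=
  trans_rule H (p := x2 L w) (s := a23) (A := a54) (B := b54) (c := c57) (f23 H) (f54 H)
    (by decide +kernel) (by decide +kernel)
    (eq_of_chk H.toLet k57)
    (congrArg (ev L) (by decide +kernel : a57 = b54 ++ c57 ++ iw b54))

theorem f58 {L : ℕ → G} {w : G} (H : TopRel L w) : S L (x6 L w) a58 :=
  trans_rule H (p := x2 L w) (s := a18 ++ (a19 ++ (iw a18))) (A := a54) (B := b54) (c := c58) (S.append (f18 H) (S.append (f19 H) ((f18 H).inv H.toLet l18))) (f54 H)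
    (by decide +kernel) (by decide +kernel)
    (eq_of_chk H.toLet k58)
    (congrArg (ev L) (by decide +kernel : a58 = b54 ++ c58 ++ iw b54))

theorem l59 : ltB 11 a59 = true := by decide +kernel

theorem f59 {L : ℕ → G} {w : G} (H : TopRel L w) : S L (x6 L w) a59 :=
  trans_rule H (p := x2 L w) (s := a21 ++ (a23 ++ (iw a21))) (A := a54) (B := b54) (c := c59) (S.append (f21 H) (S.append (f23 H) ((f21 H).inv H.toLet l21))) (f54 H)
    (by decide +kernel) (by decide +kernel)
    (eq_of_chk H.toLet k59)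
    (congrArg (ev L) (by decide +kernel : a59 = b54 ++ c59 ++ iw b54))

theorem f60 {L : ℕ → G} {w : G} (H : TopRel L w) : S L (x6 L w) a60 :=
  trans_rule H (p := x2 L w) (s := iw a21 ++ (a23 ++ (a21))) (A := a54) (B := b54) (c := c60) (S.append ((f21 H).inv H.toLet l21) (S.append (f23 H) (f21 H))) (f54 H)
    (by decide +kernel) (by decide +kernel)
    (eq_of_chk H.toLet k60)
    (congrArg (ev L) (by decide +kernel : a60 = b54 ++ c60 ++ iw b54))

theorem f61 {L : ℕ → G} {w : G} (H : TopRel L w) : S L (x6 L w) a61 :=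
  trans_rule H (p := x2 L w) (s := a20 ++ (a21 ++ (a23 ++ (a21 ++ (iw a22 ++ (a23 ++ (iw a21 ++ (a20 ++ (iw a21 ++ (iw a23 ++ (iw a22 ++ (a21 ++ (iw a23 ++ (a21 ++ (a20))))))))))))))) (A := a54) (B := b54) (c := c61) (S.append (f20 H) (S.append (f21 H) (S.append (f23 H) (S.append (f21 H) (S.append ((f22 H).inv H.toLet l22) (S.append (f23 H) (S.append ((f21 H).inv H.toLet l21) (S.append (f20 H) (S.append ((f21 H).inv H.toLet l21) (S.append ((f23 H).inv H.toLet l23) (S.append ((f22 H).inv H.toLet l22) (S.append (f21 H) (S.append ((f23 H).inv H.toLet l23) (S.append (f21 H) (f20 H))))))))))))))) (f54 H)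
    (by decide +kernel) (by decide +kernel)
    (eq_of_chk H.toLet k61)
    (congrArg (ev L) (by decide +kernel : a61 = b54 ++ c61 ++ iw b54))

theorem f62 {L : ℕ → G} {w : G} (H : TopRel L w) : E L w (x6 L w) a62 (x3 L w) b62 :=
  hex_edge H (q := x2 L w) (m := m62) (s1 := []) (A1 := a29) (B1 := b29) (c1 := c62_1)
    (s2 := a20 ++ (a21 ++ (iw a23 ++ (a22 ++ (iw a21 ++ (iw a23 ++ (iw a22 ++ (iw a20 ++ (a21 ++ (iw a23 ++ (a21 ++ (iw a23 ++ (a20 ++ (iw a21 ++ (iw a20))))))))))))))) (A2 := a54) (B2 := b54) (c2 := c62_2)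
    S.nil (f29 H) (by decide +kernel)
    (eq_of_chk H.toLet k62_1)
    (S.append (f20 H) (S.append (f21 H) (S.append ((f23 H).inv H.toLet l23) (S.append (f22 H) (S.append ((f21 H).inv H.toLet l21) (S.append ((f23 H).inv H.toLet l23) (S.append ((f22 H).inv H.toLet l22) (S.append ((f20 H).inv H.toLet l20) (S.append (f21 H) (S.append ((f23 H).inv H.toLet l23) (S.append (f21 H) (S.append ((f23 H).inv H.toLet l23) (S.append (f20 H) (S.append ((f21 H).inv H.toLet l21) ((f20 H).inv H.toLet l20))))))))))))))) (f54 H) (by decide +kernel)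
    (eq_of_chk H.toLet k62_2)
    (congrArg (ev L) (by decide +kernel : a62 = b54 ++ c62_2 ++ [10]))
    (congrArg (ev L) (by decide +kernel : b62 = m62 ++ [10]))

theorem f63 {L : ℕ → G} {w : G} (H : TopRel L w) : E L w (x6 L w) a63 (x3 L w) b63 :=
  hex_edge H (q := x3 L w) (m := m63) (s1 := []) (A1 := a42) (B1 := b42) (c1 := c63_1)
    (s2 := a43 ++ (a43 ++ (iw a28 ++ (iw a25 ++ (iw a43 ++ (iw a43)))))) (A2 := b62) (B2 := a62) (c2 := c63_2)
    S.nil (f42 H) (by decide +kernel)
    (eq_of_chk H.toLet k63_1)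
    (S.append (f43 H) (S.append (f43 H) (S.append ((f28 H).inv H.toLet l28) (S.append ((f25 H).inv H.toLet l25) (S.append ((f43 H).inv H.toLet l43) ((f43 H).inv H.toLet l43)))))) ((f62 H).rev H) (by decide +kernel)
    (eq_of_chk H.toLet k63_2)
    (eq_of_chk H.toLet k63_a)
    (eq_of_chk H.toLet k63_b)

theorem l64 : ltB 11 a64 = true := by decide +kernel

theorem f64 {L : ℕ → G} {w : G} (H : TopRel L w) : S L (x6 L w) a64 :=
  trans_rule H (p := x3 L w) (s := a25) (A := b63) (B := a63) (c := c64) (f25 H) ((f63 H).rev H)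
    (by decide +kernel) (by decide +kernel)
    (eq_of_chk H.toLet k64)
    (eq_of_chk H.toLet k64_0)

theorem f65 {L : ℕ → G} {w : G} (H : TopRel L w) : E L w (x6 L w) a65 (x3 L w) b65 :=
  hex_edge H (q := x3 L w) (m := m65) (s1 := []) (A1 := a45) (B1 := b45) (c1 := c65_1)
    (s2 := iw a25 ++ (iw a43 ++ (iw a26))) (A2 := b62) (B2 := a62) (c2 := c65_2)
    S.nil (f45 H) (by decide +kernel)
    (eq_of_chk H.toLet k65_1)
    (S.append ((f25 H).inv H.toLet l25) (S.append ((f43 H).inv H.toLet l43) ((f26 H).inv H.toLet l26))) ((f62 H).rev H) (by decide +kernel)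
    (eq_of_chk H.toLet k65_2)
    (eq_of_chk H.toLet k65_a)
    (congrArg (ev L) (by decide +kernel : b65 = m65 ++ [10]))

theorem f66 {L : ℕ → G} {w : G} (H : TopRel L w) : E L w (x6 L w) a66 (x4 L w) b66 :=
  hex_edge H (q := x3 L w) (m := m66) (s1 := []) (A1 := a41) (B1 := b41) (c1 := c66_1)
    (s2 := a43 ++ (a43 ++ (iw a28 ++ (iw a25 ++ (iw a43 ++ (iw a43)))))) (A2 := b62) (B2 := a62) (c2 := c66_2)
    S.nil (f41 H) (by decide +kernel)
    (eq_of_chk H.toLet k66_1)
    (S.append (f43 H) (S.append (f43 H) (S.append ((f28 H).inv H.toLet l28) (S.append ((f25 H).inv H.toLet l25) (S.append ((f43 H).inv H.toLet l43) ((f43 H).inv H.toLet l43)))))) ((f62 H).rev H) (by decide +kernel)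
    (eq_of_chk H.toLet k66_2)
    (eq_of_chk H.toLet k66_a)
    (congrArg (ev L) (by decide +kernel : b66 = m66 ++ [10]))

theorem f67 {L : ℕ → G} {w : G} (H : TopRel L w) : E L w (x6 L w) a67 (x6 L w) b67 :=
  hex_edge H (q := x2 L w) (m := m67) (s1 := []) (A1 := b54) (B1 := a54) (c1 := c67_1)
    (s2 := iw a22 ++ (iw a23 ++ (a22 ++ (a20 ++ (a21 ++ (iw a23 ++ (a21 ++ (iw a20 ++ (a21))))))))) (A2 := a54) (B2 := b54) (c2 := c67_2)
    S.nil ((f54 H).rev H) (by decide +kernel)
    (congrArg (ev L) (by decide +kernel : m67 = ([]) ++ (b54 ++ c67_1)))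
    (S.append ((f22 H).inv H.toLet l22) (S.append ((f23 H).inv H.toLet l23) (S.append (f22 H) (S.append (f20 H) (S.append (f21 H) (S.append ((f23 H).inv H.toLet l23) (S.append (f21 H) (S.append ((f20 H).inv H.toLet l20) (f21 H))))))))) (f54 H) (by decide +kernel)
    (eq_of_chk H.toLet k67_2)
    (congrArg (ev L) (by decide +kernel : a67 = b54 ++ c67_2 ++ [10]))
    (congrArg (ev L) (by decide +kernel : b67 = m67 ++ [10]))

theorem f68 {L : ℕ → G} {w : G} (H : TopRel L w) : S L (x6 L w) a68 :=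
  hex_stab H (q := x3 L w) (r := x4 L w) (m := m68) (s1 := []) (A1 := a62) (B1 := b62) (c1 := c68_1)
    (s2 := []) (A2 := b41) (B2 := a41) (c2 := c68_2)
    (s3 := iw a40 ++ (iw a35 ++ (a38 ++ (iw a35 ++ (iw a40 ++ (iw a37 ++ (iw a35 ++ (iw a38 ++ (iw a34 ++ (iw a35 ++ (iw a37))))))))))) (A3 := b66) (B3 := a66) (c3 := c68_3)
    S.nil (f62 H) (by decide +kernel)
    (eq_of_chk H.toLet k68_1)
    S.nil ((f41 H).rev H) (by decide +kernel)
    (eq_of_chk H.toLet k68_2)
    (S.append ((f40 H).inv H.toLet l40) (S.append ((f35 H).inv H.toLet l35) (S.append (f38 H) (S.append ((f35 H).inv H.toLet l35) (S.append ((f40 H).inv H.toLet l40) (S.append ((f37 H).inv H.toLet l37) (S.append ((f35 H).inv H.toLet l35) (S.append ((f38 H).inv H.toLet l38) (S.append ((f34 H).inv H.toLet l34) (S.append ((f35 H).inv H.toLet l35) ((f37 H).inv H.toLet l37))))))))))) ((f66 H).rev H) (by decide +kernel)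
    (eq_of_chk H.toLet k68_3)
    (by decide +kernel) (eq_of_chk H.toLet k68_a)

theorem f69 {L : ℕ → G} {w : G} (H : TopRel L w) : S L (x2 L w) a69 :=
  trans_rule H (p := x6 L w) (s := a68 ++ (a64 ++ (iw a55 ++ (a64)))) (A := b54) (B := a54) (c := c69) (S.append (f68 H) (S.append (f64 H) (S.append ((f55 H).inv H.toLet l55) (f64 H)))) ((f54 H).rev H)
    (by decide +kernel) (by decide +kernel)
    (eq_of_chk H.toLet k69)
    (eq_of_chk H.toLet k69_0)

theorem f70 {L : ℕ → G} {w : G} (H : TopRel L w) : S L (x5 L w) a70 :=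
  trans_rule H (p := x2 L w) (s := a69) (A := a47) (B := b47) (c := c70) (f69 H) (f47 H)
    (by decide +kernel) (by decide +kernel)
    (eq_of_chk H.toLet k70)
    (congrArg (ev L) (by decide +kernel : a70 = b47 ++ c70 ++ iw b47))

theorem f71 {L : ℕ → G} {w : G} (H : TopRel L w) : E L w (x2 L w) a71 (x2 L w) b71 :=
  hex_edge H (q := x6 L w) (m := m71) (s1 := []) (A1 := a54) (B1 := b54) (c1 := c71_1)
    (s2 := iw a59 ++ (iw a56 ++ (iw a64))) (A2 := b54) (B2 := a54) (c2 := c71_2)
    S.nil (f54 H) (by decide +kernel)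
    (eq_of_chk H.toLet k71_1)
    (S.append ((f59 H).inv H.toLet l59) (S.append ((f56 H).inv H.toLet l56) ((f64 H).inv H.toLet l64))) ((f54 H).rev H) (by decide +kernel)
    (eq_of_chk H.toLet k71_2)
    (eq_of_chk H.toLet k71_a)
    (congrArg (ev L) (by decide +kernel : b71 = m71 ++ [10]))

theorem f72 {L : ℕ → G} {w : G} (H : TopRel L w) : E L w (x5 L w) a72 (x2 L w) b72 :=
  hex_edge H (q := x2 L w) (m := m72) (s1 := []) (A1 := a71) (B1 := b71) (c1 := c72_1)
    (s2 := []) (A2 := a47) (B2 := b47) (c2 := c72_2)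
    S.nil (f71 H) (by decide +kernel)
    (eq_of_chk H.toLet k72_1)
    S.nil (f47 H) (by decide +kernel)
    (eq_of_chk H.toLet k72_2)
    (congrArg (ev L) (by decide +kernel : a72 = b47 ++ c72_2 ++ [10]))
    (congrArg (ev L) (by decide +kernel : b72 = m72 ++ [10]))

theorem f73 {L : ℕ → G} {w : G} (H : TopRel L w) : S L (x5 L w) a73 :=
  trans_rule H (p := x2 L w) (s := a18) (A := b72) (B := a72) (c := c73) (f18 H) ((f72 H).rev H)
    (by decide +kernel) (by decide +kernel)
    (eq_of_chk H.toLet k73)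
    (eq_of_chk H.toLet k73_0)

/-- representative of the node `7` -/
def x7 (L : ℕ → G) (w : G) : G := x3 L w * ev L a74 * w

theorem f74 {L : ℕ → G} {w : G} (_ : TopRel L w) : E L w (x3 L w) a74 (x7 L w) b74 := E.def a74

theorem f75 {L : ℕ → G} {w : G} (H : TopRel L w) : S L (x7 L w) a75 :=
  trans_rule H (p := x3 L w) (s := a26) (A := a74) (B := b74) (c := c75) (f26 H) (f74 H)
    (by decide +kernel) (by decide +kernel)
    (eq_of_chk H.toLet k75)
    (congrArg (ev L) (by decide +kernel : a75 = b74 ++ c75 ++ iw b74))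

theorem f76 {L : ℕ → G} {w : G} (H : TopRel L w) : S L (x7 L w) a76 :=
  trans_rule H (p := x3 L w) (s := iw a25 ++ (a28 ++ (iw a25))) (A := a74) (B := b74) (c := c76) (S.append ((f25 H).inv H.toLet l25) (S.append (f28 H) ((f25 H).inv H.toLet l25))) (f74 H)
    (by decide +kernel) (by decide +kernel)
    (eq_of_chk H.toLet k76)
    (congrArg (ev L) (by decide +kernel : a76 = b74 ++ c76 ++ iw b74))

theorem f77 {L : ℕ → G} {w : G} (H : TopRel L w) : S L (x7 L w) a77 :=
  trans_rule H (p := x3 L w) (s := a27 ++ (a26 ++ (iw a27))) (A := a74) (B := b74) (c := c77) (S.append (f27 H) (S.append (f26 H) ((f27 H).inv H.toLet l27))) (f74 H)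
    (by decide +kernel) (by decide +kernel)
    (eq_of_chk H.toLet k77)
    (congrArg (ev L) (by decide +kernel : a77 = b74 ++ c77 ++ iw b74))

theorem f78 {L : ℕ → G} {w : G} (H : TopRel L w) : S L (x7 L w) a78 :=
  trans_rule H (p := x3 L w) (s := a27 ++ (a28 ++ (iw a43))) (A := a74) (B := b74) (c := c78) (S.append (f27 H) (S.append (f28 H) ((f43 H).inv H.toLet l43))) (f74 H)
    (by decide +kernel) (by decide +kernel)
    (eq_of_chk H.toLet k78)
    (congrArg (ev L) (by decide +kernel : a78 = b74 ++ c78 ++ iw b74))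

theorem f79 {L : ℕ → G} {w : G} (H : TopRel L w) : E L w (x7 L w) a79 (x3 L w) b79 :=
  hex_edge H (q := x3 L w) (m := m79) (s1 := []) (A1 := a42) (B1 := b42) (c1 := c79_1)
    (s2 := []) (A2 := a74) (B2 := b74) (c2 := c79_2)
    S.nil (f42 H) (by decide +kernel)
    (eq_of_chk H.toLet k79_1)
    S.nil (f74 H) (by decide +kernel)
    (eq_of_chk H.toLet k79_2)
    (congrArg (ev L) (by decide +kernel : a79 = b74 ++ c79_2 ++ [10]))
    (congrArg (ev L) (by decide +kernel : b79 = m79 ++ [10]))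

theorem f80 {L : ℕ → G} {w : G} (H : TopRel L w) : S L (x7 L w) a80 :=
  trans_rule H (p := x3 L w) (s := iw a25 ++ (a28 ++ (iw a25))) (A := b79) (B := a79) (c := c80) (S.append ((f25 H).inv H.toLet l25) (S.append (f28 H) ((f25 H).inv H.toLet l25))) ((f79 H).rev H)
    (by decide +kernel) (by decide +kernel)
    (eq_of_chk H.toLet k80)
    (eq_of_chk H.toLet k80_0)

theorem f81 {L : ℕ → G} {w : G} (H : TopRel L w) : E L w (x7 L w) a81 (x7 L w) b81 :=
  hex_edge H (q := x3 L w) (m := m81) (s1 := []) (A1 := b74) (B1 := a74) (c1 := c81_1)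
    (s2 := a43 ++ (iw a27 ++ (a28))) (A2 := a74) (B2 := b74) (c2 := c81_2)
    S.nil ((f74 H).rev H) (by decide +kernel)
    (congrArg (ev L) (by decide +kernel : m81 = ([]) ++ (b74 ++ c81_1)))
    (S.append (f43 H) (S.append ((f27 H).inv H.toLet l27) (f28 H))) (f74 H) (by decide +kernel)
    (eq_of_chk H.toLet k81_2)
    (congrArg (ev L) (by decide +kernel : a81 = b74 ++ c81_2 ++ [10]))
    (congrArg (ev L) (by decide +kernel : b81 = m81 ++ [10]))

end Cfsg.Agent.CoOneType.TopFacts
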