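import Cfsg.Agent.CoOneType.TopFacts

/-!
# Coverage of the nodes
-/

set_option autoImplicit false
set_option maxRecDepth 100000

namespace Cfsg.Agent.CoOneType.TopNodes

open Cfsg.Agent.SporadicRecognition.CosetCert
open Cfsg.Agent.CoOneType.Chain Cfsg.Agent.CoOneType.TopRules
open Cfsg.Agent.CoOneType.TopWords Cfsg.Agent.CoOneType.TopFacts Cfsg.Agent.CoOneType.TopClose Cfsg.Agent.CoOneType.KOracle

variable {G : Type*} [Group G]

/-- representatives of the eight double cosets -/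
def X (L : ℕ → G) (w : G) : ℕ → G
  | 0 => x0 L w
  | 1 => x1 L w
  | 2 => x2 L w
  | 3 => x3 L w
  | 4 => x4 L w
  | 5 => x5 L w
  | 6 => x6 L w
  | 7 => x7 L w
  | _ => 1

/-- number of edges at each node -/
def e : ℕ → ℕ
  | 0 => 1
  | 1 => 5
  | 2 => 5
  | 3 => 9
  | 4 => 4
  | 5 => 1
  | 6 => 4
  | 7 => 2
  | _ => 0

theorem sum_e : ∑ i ∈ Finset.range 8, e i = 31 := by decide +kernel

theorem cov0 : cov [a0, a1, a2, a3, a4, a5, a6, a7] [a8] 13 = true := by decide +kernel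

theorem node0 {L : ℕ → G} {w : G} (H : TopRel L w) : NodeE L w (X L w) 8 0 (e 0) :=
  ⟨⟨[a0, a1, a2, a3, a4, a5, a6, a7],
    [a8],
    le_refl 1, List.forall_mem_cons.2 ⟨f0 H, List.forall_mem_cons.2 ⟨f1 H, List.forall_mem_cons.2 ⟨f2 H, List.forall_mem_cons.2 ⟨f3 H, List.forall_mem_cons.2 ⟨f4 H, List.forall_mem_cons.2 ⟨f5 H, List.forall_mem_cons.2 ⟨f6 H, List.forall_mem_cons.2 ⟨f7 H, List.forall_mem_nil _⟩⟩⟩⟩⟩⟩⟩⟩,
    List.forall_mem_cons.2 ⟨⟨1, by norm_num, b8, by decide +kernel, (f8 H)⟩,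
      List.forall_mem_nil _⟩,
    fun _ hk => cover H.toLet cov0 hk⟩⟩

theorem cov1 : cov [a9, a10, a11, a12, a13, a14, a15] [b8, a16, a17, a24, a31] 8 = true := by decide +kernel

theorem node1 {L : ℕ → G} {w : G} (H : TopRel L w) : NodeE L w (X L w) 8 1 (e 1) :=
  ⟨⟨[a9, a10, a11, a12, a13, a14, a15],
    [b8, a16, a17, a24, a31],
    le_refl 5, List.forall_mem_cons.2 ⟨f9 H, List.forall_mem_cons.2 ⟨f10 H, List.forall_mem_cons.2 ⟨f11 H, List.forall_mem_cons.2 ⟨f12 H, List.forall_mem_cons.2 ⟨f13 H, List.forall_mem_cons.2 ⟨f14 H, List.forall_mem_cons.2 ⟨f15 H, List.forall_mem_nil _⟩⟩⟩⟩⟩⟩⟩,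
    List.forall_mem_cons.2 ⟨⟨0, by norm_num, a8, by decide +kernel, ((f8 H).rev H)⟩,
      List.forall_mem_cons.2 ⟨⟨1, by norm_num, b16, by decide +kernel, (f16 H)⟩,
      List.forall_mem_cons.2 ⟨⟨2, by norm_num, b17, by decide +kernel, (f17 H)⟩,
      List.forall_mem_cons.2 ⟨⟨3, by norm_num, b24, by decide +kernel, (f24 H)⟩,
      List.forall_mem_cons.2 ⟨⟨4, by norm_num, b31, by decide +kernel, (f31 H)⟩,
      List.forall_mem_nil _⟩⟩⟩⟩⟩,
    fun _ hk => cover H.toLet cov1 hk⟩⟩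

theorem cov2 : cov [a18, a19, a20, a21, a22, a23, a69] [b17, b29, a47, a54, a71] 3 = true := by decide +kernel

theorem node2 {L : ℕ → G} {w : G} (H : TopRel L w) : NodeE L w (X L w) 8 2 (e 2) :=
  ⟨⟨[a18, a19, a20, a21, a22, a23, a69],
    [b17, b29, a47, a54, a71],
    le_refl 5, List.forall_mem_cons.2 ⟨f18 H, List.forall_mem_cons.2 ⟨f19 H, List.forall_mem_cons.2 ⟨f20 H, List.forall_mem_cons.2 ⟨f21 H, List.forall_mem_cons.2 ⟨f22 H, List.forall_mem_cons.2 ⟨f23 H, List.forall_mem_cons.2 ⟨f69 H, List.forall_mem_nil _⟩⟩⟩⟩⟩⟩⟩,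
    List.forall_mem_cons.2 ⟨⟨1, by norm_num, a17, by decide +kernel, ((f17 H).rev H)⟩,
      List.forall_mem_cons.2 ⟨⟨3, by norm_num, a29, by decide +kernel, ((f29 H).rev H)⟩,
      List.forall_mem_cons.2 ⟨⟨5, by norm_num, b47, by decide +kernel, (f47 H)⟩,
      List.forall_mem_cons.2 ⟨⟨6, by norm_num, b54, by decide +kernel, (f54 H)⟩,
      List.forall_mem_cons.2 ⟨⟨2, by norm_num, b71, by decide +kernel, (f71 H)⟩,
      List.forall_mem_nil _⟩⟩⟩⟩⟩,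
    fun _ hk => cover H.toLet cov2 hk⟩⟩

theorem cov3 : cov [a25, a26, a27, a28, a43] [b24, a29, a30, b41, a42, a45, a46, b62, a74] 4 = true := by decide +kernel

theorem node3 {L : ℕ → G} {w : G} (H : TopRel L w) : NodeE L w (X L w) 8 3 (e 3) :=
  ⟨⟨[a25, a26, a27, a28, a43],
    [b24, a29, a30, b41, a42, a45, a46, b62, a74],
    le_refl 9, List.forall_mem_cons.2 ⟨f25 H, List.forall_mem_cons.2 ⟨f26 H, List.forall_mem_cons.2 ⟨f27 H, List.forall_mem_cons.2 ⟨f28 H, List.forall_mem_cons.2 ⟨f43 H, List.forall_mem_nil _⟩⟩⟩⟩⟩,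
    List.forall_mem_cons.2 ⟨⟨1, by norm_num, a24, by decide +kernel, ((f24 H).rev H)⟩,
      List.forall_mem_cons.2 ⟨⟨2, by norm_num, b29, by decide +kernel, (f29 H)⟩,
      List.forall_mem_cons.2 ⟨⟨3, by norm_num, b30, by decide +kernel, (f30 H)⟩,
      List.forall_mem_cons.2 ⟨⟨4, by norm_num, a41, by decide +kernel, ((f41 H).rev H)⟩,
      List.forall_mem_cons.2 ⟨⟨3, by norm_num, b42, by decide +kernel, (f42 H)⟩,
      List.forall_mem_cons.2 ⟨⟨3, by norm_num, b45, by decide +kernel, (f45 H)⟩,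
      List.forall_mem_cons.2 ⟨⟨3, by norm_num, b46, by decide +kernel, (f46 H)⟩,
      List.forall_mem_cons.2 ⟨⟨6, by norm_num, a62, by decide +kernel, ((f62 H).rev H)⟩,
      List.forall_mem_cons.2 ⟨⟨7, by norm_num, b74, by decide +kernel, (f74 H)⟩,
      List.forall_mem_nil _⟩⟩⟩⟩⟩⟩⟩⟩⟩,
    fun _ hk => cover H.toLet cov3 hk⟩⟩

theorem cov4 : cov [a32, a33, a34, a35, a36, a37, a38, a40] [b31, a41, a44, b66] 6 = true := by decide +kernel

theorem node4 {L : ℕ → G} {w : G} (H : TopRel L w) : NodeE L w (X L w) 8 4 (e 4) :=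
  ⟨⟨[a32, a33, a34, a35, a36, a37, a38, a40],
    [b31, a41, a44, b66],
    le_refl 4, List.forall_mem_cons.2 ⟨f32 H, List.forall_mem_cons.2 ⟨f33 H, List.forall_mem_cons.2 ⟨f34 H, List.forall_mem_cons.2 ⟨f35 H, List.forall_mem_cons.2 ⟨f36 H, List.forall_mem_cons.2 ⟨f37 H, List.forall_mem_cons.2 ⟨f38 H, List.forall_mem_cons.2 ⟨f40 H, List.forall_mem_nil _⟩⟩⟩⟩⟩⟩⟩⟩,
    List.forall_mem_cons.2 ⟨⟨1, by norm_num, a31, by decide +kernel, ((f31 H).rev H)⟩,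
      List.forall_mem_cons.2 ⟨⟨3, by norm_num, b41, by decide +kernel, (f41 H)⟩,
      List.forall_mem_cons.2 ⟨⟨4, by norm_num, b44, by decide +kernel, (f44 H)⟩,
      List.forall_mem_cons.2 ⟨⟨6, by norm_num, a66, by decide +kernel, ((f66 H).rev H)⟩,
      List.forall_mem_nil _⟩⟩⟩⟩,
    fun _ hk => cover H.toLet cov4 hk⟩⟩

theorem cov5 : cov [a48, a49, a50, a51, a52, a53, a70, a73] [b47] 4 = true := by decide +kernel

theorem node5 {L : ℕ → G} {w : G} (H : TopRel L w) : NodeE L w (X L w) 8 5 (e 5) :=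
  ⟨⟨[a48, a49, a50, a51, a52, a53, a70, a73],
    [b47],
    le_refl 1, List.forall_mem_cons.2 ⟨f48 H, List.forall_mem_cons.2 ⟨f49 H, List.forall_mem_cons.2 ⟨f50 H, List.forall_mem_cons.2 ⟨f51 H, List.forall_mem_cons.2 ⟨f52 H, List.forall_mem_cons.2 ⟨f53 H, List.forall_mem_cons.2 ⟨f70 H, List.forall_mem_cons.2 ⟨f73 H, List.forall_mem_nil _⟩⟩⟩⟩⟩⟩⟩⟩,
    List.forall_mem_cons.2 ⟨⟨2, by norm_num, a47, by decide +kernel, ((f47 H).rev H)⟩,
      List.forall_mem_nil _⟩,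
    fun _ hk => cover H.toLet cov5 hk⟩⟩

theorem cov6 : cov [a55, a56, a57, a58, a59, a60, a61, a64, a68] [b54, a62, a66, a67] 3 = true := by decide +kernel

theorem node6 {L : ℕ → G} {w : G} (H : TopRel L w) : NodeE L w (X L w) 8 6 (e 6) :=
  ⟨⟨[a55, a56, a57, a58, a59, a60, a61, a64, a68],
    [b54, a62, a66, a67],
    le_refl 4, List.forall_mem_cons.2 ⟨f55 H, List.forall_mem_cons.2 ⟨f56 H, List.forall_mem_cons.2 ⟨f57 H, List.forall_mem_cons.2 ⟨f58 H, List.forall_mem_cons.2 ⟨f59 H, List.forall_mem_cons.2 ⟨f60 H, List.forall_mem_cons.2 ⟨f61 H, List.forall_mem_cons.2 ⟨f64 H, List.forall_mem_cons.2 ⟨f68 H, List.forall_mem_nil _⟩⟩⟩⟩⟩⟩⟩⟩⟩,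
    List.forall_mem_cons.2 ⟨⟨2, by norm_num, a54, by decide +kernel, ((f54 H).rev H)⟩,
      List.forall_mem_cons.2 ⟨⟨3, by norm_num, b62, by decide +kernel, (f62 H)⟩,
      List.forall_mem_cons.2 ⟨⟨4, by norm_num, b66, by decide +kernel, (f66 H)⟩,
      List.forall_mem_cons.2 ⟨⟨6, by norm_num, b67, by decide +kernel, (f67 H)⟩,
      List.forall_mem_nil _⟩⟩⟩⟩,
    fun _ hk => cover H.toLet cov6 hk⟩⟩

theorem cov7 : cov [a75, a76, a77, a78, a80] [b74, a81] 5 = true := by decide +kernel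

theorem node7 {L : ℕ → G} {w : G} (H : TopRel L w) : NodeE L w (X L w) 8 7 (e 7) :=
  ⟨⟨[a75, a76, a77, a78, a80],
    [b74, a81],
    le_refl 2, List.forall_mem_cons.2 ⟨f75 H, List.forall_mem_cons.2 ⟨f76 H, List.forall_mem_cons.2 ⟨f77 H, List.forall_mem_cons.2 ⟨f78 H, List.forall_mem_cons.2 ⟨f80 H, List.forall_mem_nil _⟩⟩⟩⟩⟩,
    List.forall_mem_cons.2 ⟨⟨3, by norm_num, a74, by decide +kernel, ((f74 H).rev H)⟩,
      List.forall_mem_cons.2 ⟨⟨7, by norm_num, b81, by decide +kernel, (f81 H)⟩,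
      List.forall_mem_nil _⟩⟩,
    fun _ hk => cover H.toLet cov7 hk⟩⟩

theorem nodes {L : ℕ → G} {w : G} (H : TopRel L w) : ∀ i < 8, NodeE L w (X L w) 8 i (e i) := by
  intro i hi
  interval_cases i
  · exact node0 H
  · exact node1 H
  · exact node2 H
  · exact node3 H
  · exact node4 H
  · exact node5 H
  · exact node6 H
  · exact node7 H

end Cfsg.Agent.CoOneType.TopNodes
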