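import Cfsg.Agent.CoOneType.Chain

/-!
# Rules for the double coset enumeration of `2 × Co₁` over `K = 3·Suz:2`

Letters `0, …, 10` (`s t x X y Y g h f e d`) generate `K`, and `w` is a further element.
-/

set_option autoImplicit false

namespace Cfsg.Agent.CoOneType.TopRules

open Cfsg.Agent.SporadicRecognition.CosetCert Cfsg.Agent.SporadicRecognition.CosetCertHyp
open Cfsg.Agent.CoOneType.Chain

variable {G : Type*} [Group G]

/-- The relations of the whole group. -/
structure TopRel (g : ℕ → G) (w : G) : Prop extends Let g where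
  ww : w * w = 1
  wd : w * g 10 * w * g 10 * w * g 10 = 1
  wc : ∀ n, n < 10 → g n * w = w * g n

/-- The subgroup generated by the letters of `K`. -/
def K (g : ℕ → G) : Subgroup G := Subgroup.closure (g '' {x | x < 11})

/-- The subgroup generated by the letters of `C`. -/
def C (g : ℕ → G) : Subgroup G := Subgroup.closure (g '' {x | x < 10})

theorem ev_mem_closure (g : ℕ → G) (k : ℕ) (u : List ℕ) (hu : ∀ y ∈ u, y < k) :
    ev g u ∈ Subgroup.closure (g '' {x | x < k}) := by
  induction u with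
  | nil => rw [ev_nil]; exact Subgroup.one_mem _
  | cons a u ih =>
    rw [ev_cons]
    exact Subgroup.mul_mem _ (Subgroup.subset_closure ⟨a, hu a (by simp), rfl⟩)
      (ih fun y hy => hu y (by simp [hy]))

/-- letters `< k` as a Boolean check -/
def ltB (k : ℕ) (u : List ℕ) : Bool := u.all fun y => Nat.blt y k

theorem ltB_iff {k : ℕ} {u : List ℕ} (h : ltB k u = true) : ∀ y ∈ u, y < k := by
  intro y hy
  have := List.all_eq_true.mp h y hy
  exact Nat.le_of_ble_eq_true this

theorem ev_mem_K (g : ℕ → G) {u : List ℕ} (hu : ltB 11 u = true) : ev g u ∈ K g :=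
  ev_mem_closure g 11 u (ltB_iff hu)

/-- inverse word -/
def iw (u : List ℕ) : List ℕ := invw invL u

theorem invL_lt {n k : ℕ} (hk : 6 ≤ k) (h : n < k) : invL n < k := by
  rcases n with _ | _ | _ | _ | _ | _ | n
  all_goals simp only [invL]
  all_goals omega

theorem ev_iw {g : ℕ → G} (H : Let g) {u : List ℕ} (hu : ltB 11 u = true) : ev g (iw u) = (ev g u)⁻¹ :=
  ev_invw g invL 11 (fun x hx => ⟨invL_lt (by norm_num) hx, H.inv x hx⟩) u (ltB_iff hu)

/-- elements of `C` commute with `w` -/
theorem comm_w {g : ℕ → G} {w : G} (H : TopRel g w) {c : G} (hc : c ∈ C g) : c * w = w * c := by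
  unfold C at hc
  induction hc using Subgroup.closure_induction with
  | mem x hx => obtain ⟨n, hn, rfl⟩ := hx; exact H.wc n hn
  | one => rw [one_mul, mul_one]
  | mul x y _ _ hx hy => rw [mul_assoc, hy, ← mul_assoc, hx, mul_assoc]
  | inv x _ hx => rw [inv_mul_eq_iff_eq_mul, ← mul_assoc, hx, mul_assoc, mul_inv_cancel, mul_one]

theorem comm_ev {g : ℕ → G} {w : G} (H : TopRel g w) {c : List ℕ} (hc : ltB 10 c = true) :
    ev g c * w = w * ev g c :=
  comm_w H (ev_mem_closure g 10 c (ltB_iff hc))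

/-- edge fact -/
def E (g : ℕ → G) (w : G) (p : G) (a : List ℕ) (q : G) (b : List ℕ) : Prop :=
  Rel (K g) (p * ev g a * w) (q * ev g b)

/-- stabiliser fact -/
def S (g : ℕ → G) (p : G) (a : List ℕ) : Prop := Rel (K g) (p * ev g a) p

/-- signed stabiliser words: concatenation of words and inverses -/
theorem S.nil {g : ℕ → G} {p : G} : S g p [] := by
  unfold S; rw [ev_nil, mul_one]; exact Rel.refl _

theorem S.append {g : ℕ → G} {p : G} {a b : List ℕ} (ha : S g p a) (hb : S g p b) : S g p (a ++ b) := by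
  unfold S at *
  rw [ev_append, ← mul_assoc]
  exact (ha.mul _).trans hb

theorem S.inv {g : ℕ → G} (H : Let g) {p : G} {a : List ℕ} (ha : S g p a) (hl : ltB 11 a = true) :
    S g p (iw a) := by
  unfold S at *
  rw [ev_iw H hl]
  have := ha.mul (ev g a)⁻¹
  rw [mul_assoc, mul_inv_cancel, mul_one] at this
  exact this.symm

/-- reversal of an edge -/
theorem E.rev {g : ℕ → G} {w : G} (H : TopRel g w) {p : G} {a : List ℕ} {q : G} {b : List ℕ} (h : E g w p a q b) :
    E g w q b p a := by
  unfold E at *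
  have := h.mul (w)
  rw [mul_assoc _ (w) (w), H.ww, mul_one] at this
  exact this.symm

/-- definition of a node -/
theorem E.def {g : ℕ → G} {w : G} {p : G} (a : List ℕ) : E g w p a (p * ev g a * w) [] := by
  unfold E
  rw [ev_nil, mul_one]
  exact Rel.refl _

/-- a stabiliser fact for the trivial double coset -/
theorem S.init {g : ℕ → G} {a : List ℕ} (ha : ltB 11 a = true) : S g 1 a := by
  unfold S Cfsg.Agent.SporadicRecognition.CosetCert.Rel
  rw [one_mul, inv_one, mul_one]
  exact ev_mem_K g ha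

/-- one step: from the state `(p, m)`, `m = s A c` -/
theorem step {g : ℕ → G} {w : G} (H : TopRel g w) {p q : G} {s A B c : List ℕ} {m : G} (hs : S g p s)
    (he : E g w p A q B) (hc : ltB 10 c = true) (hm : m = ev g (s ++ (A ++ c))) :
    Rel (K g) (p * m * w) (q * ev g (B ++ c)) := by
  subst hm
  unfold S at hs
  unfold E at he
  have h1 : p * ev g (s ++ (A ++ c)) * w = p * ev g s * (ev g A * w * ev g c) := by
    rw [ev_append, ev_append, mul_assoc (ev g A), ← comm_ev H hc]
    simp only [mul_assoc]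
  rw [h1]
  refine (hs.mul _).trans ?_
  have h2 : p * (ev g A * w * ev g c) = p * ev g A * w * ev g c := by simp only [mul_assoc]
  rw [h2, ev_append, ← mul_assoc]
  exact he.mul _

/-- transport of a stabiliser element along an edge -/
theorem trans_rule {g : ℕ → G} {w : G} (H : TopRel g w) {p q : G} {s A B c a : List ℕ} (hs : S g p s)
    (he : E g w p A q B) (hc : ltB 10 c = true) (hB : ltB 11 B = true)
    (h1 : ev g (s ++ A) = ev g (A ++ c)) (h2 : ev g a = ev g (B ++ c ++ iw B)) : S g q a := by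
  unfold S at *
  have he' := he
  unfold E at he
  rw [h2, ev_append, ev_append, ev_iw H.toLet hB]
  -- q B c ~ p A w c = p A c w = p s A w ~ p A w ~ q B
  have h3 : Rel (K g) (q * (ev g B * ev g c)) (p * ev g A * w * ev g c) := by
    rw [← mul_assoc]; exact (he.mul _).symm
  have h4 : p * ev g A * w * ev g c = p * ev g s * (ev g A * w) := by
    rw [mul_assoc (p * ev g A), ← comm_ev H hc]
    have h5 : ev g s * ev g A = ev g A * ev g c := by rw [← ev_append, h1, ev_append]
    calc p * ev g A * (ev g c * w) = p * (ev g A * ev g c) * w := by simp only [mul_assoc]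
      _ = p * (ev g s * ev g A) * w := by rw [h5]
      _ = p * ev g s * (ev g A * w) := by simp only [mul_assoc]
  rw [h4] at h3
  have h6 := (h3.trans (hs.mul _)).trans (by rw [← mul_assoc]; exact he)
  have h7 := h6.mul (ev g B)⁻¹
  rwa [mul_assoc q (ev g B) (ev g B)⁻¹, mul_inv_cancel, mul_one, mul_assoc] at h7

/-- the braid relation in the form used by the hexagons -/
theorem wdw {g : ℕ → G} {w : G} (H : TopRel g w) : w * g 10 * w * g 10 = g 10 * w := by
  have hd : g 10 * g 10 = 1 := H.inv 10 (by norm_num)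
  have h := H.wd
  calc w * g 10 * w * g 10 = w * g 10 * w * g 10 * (w * (g 10 * g 10) * w) := by
        rw [hd, mul_one, H.ww, mul_one]
    _ = (w * g 10 * w * g 10 * w * g 10) * (g 10 * w) := by simp only [mul_assoc]
    _ = g 10 * w := by rw [h, one_mul]

/-- hexagon with two steps: a new edge -/
theorem hex_edge {g : ℕ → G} {w : G} (H : TopRel g w) {p q r : G} {m s1 A1 B1 c1 s2 A2 B2 c2 a b : List ℕ}
    (hs1 : S g p s1) (he1 : E g w p A1 q B1) (hc1 : ltB 10 c1 = true)
    (hm1 : ev g m = ev g (s1 ++ (A1 ++ c1)))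
    (hs2 : S g q s2) (he2 : E g w q A2 r B2) (hc2 : ltB 10 c2 = true)
    (hm2 : ev g (B1 ++ c1 ++ [10]) = ev g (s2 ++ (A2 ++ c2)))
    (ha : ev g a = ev g (B2 ++ c2 ++ [10])) (hb : ev g b = ev g (m ++ [10])) : E g w r a p b := by
  have h1 := step H hs1 he1 hc1 hm1
  have h2 := step H hs2 he2 hc2 hm2
  -- p m w ~ q (B1 c1);  q (B1 c1 d) w ~ r (B2 c2)
  have e10 : ev g [10] = g 10 := by rw [ev_cons, ev_nil, mul_one]
  have h3 := h1.mul (g 10 * w)
  have h4 : q * ev g (B1 ++ c1) * (g 10 * w) = q * ev g (B1 ++ c1 ++ [10]) * w := by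
    rw [ev_append (u := B1 ++ c1), e10]; simp only [mul_assoc]
  rw [h4] at h3
  have h5 := (h3.trans h2).mul (g 10)
  have h6 : r * ev g (B2 ++ c2) * g 10 = r * ev g a := by
    rw [ha, ev_append (u := B2 ++ c2), e10]; simp only [mul_assoc]
  rw [h6] at h5
  have h7 : p * ev g m * w * (g 10 * w) * g 10 = p * ev g m * (g 10 * w) := by
    calc p * ev g m * w * (g 10 * w) * g 10 = p * ev g m * (w * g 10 * w * g 10) := by
          simp only [mul_assoc]
      _ = _ := by rw [wdw H]
  rw [h7] at h5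
  have h8 := h5.mul (w)
  have h9 : p * ev g m * (g 10 * w) * w = p * ev g b := by
    rw [hb, ev_append, e10]
    calc p * ev g m * (g 10 * w) * w = p * (ev g m * g 10) * (w * w) := by simp only [mul_assoc]
      _ = _ := by rw [H.ww, mul_one]
  rw [h9] at h8
  exact h8.symm

/-- hexagon with three steps: a new stabiliser element -/
theorem hex_stab {g : ℕ → G} {w : G} (H : TopRel g w) {p q r : G}
    {m s1 A1 B1 c1 s2 A2 B2 c2 s3 A3 B3 c3 a : List ℕ}
    (hs1 : S g p s1) (he1 : E g w p A1 q B1) (hc1 : ltB 10 c1 = true)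
    (hm1 : ev g m = ev g (s1 ++ (A1 ++ c1)))
    (hs2 : S g q s2) (he2 : E g w q A2 r B2) (hc2 : ltB 10 c2 = true)
    (hm2 : ev g (B1 ++ c1 ++ [10]) = ev g (s2 ++ (A2 ++ c2)))
    (hs3 : S g r s3) (he3 : E g w r A3 p B3) (hc3 : ltB 10 c3 = true)
    (hm3 : ev g (B2 ++ c2 ++ [10]) = ev g (s3 ++ (A3 ++ c3)))
    (hm : ltB 11 m = true) (ha : ev g a = ev g (B3 ++ c3 ++ [10] ++ iw m)) : S g p a := by
  have h1 : E g w r (B2 ++ c2 ++ [10]) p (m ++ [10]) :=
    hex_edge H hs1 he1 hc1 hm1 hs2 he2 hc2 hm2 rfl rfl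
  have h2 := step H hs3 he3 hc3 hm3
  unfold E at h1
  -- p (m d) ~ p (B3 c3)
  have h3 : Rel (K g) (p * ev g (B3 ++ c3)) (p * ev g (m ++ [10])) := h2.symm.trans h1
  have e10 : ev g [10] = g 10 := by rw [ev_cons, ev_nil, mul_one]
  have hd : g 10 * g 10 = 1 := H.inv 10 (by norm_num)
  unfold S
  rw [ha, ev_append (u := B3 ++ c3 ++ [10]), ev_append (u := B3 ++ c3), e10, ev_iw H.toLet hm]
  have h4 := h3.mul (g 10 * (ev g m)⁻¹)
  have h5 : p * ev g (m ++ [10]) * (g 10 * (ev g m)⁻¹) = p := by
    rw [ev_append, e10]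
    calc p * (ev g m * g 10) * (g 10 * (ev g m)⁻¹) = p * ev g m * (g 10 * g 10) * (ev g m)⁻¹ := by
          simp only [mul_assoc]
      _ = p := by rw [hd, mul_one, mul_assoc, mul_inv_cancel, mul_one]
  rw [h5] at h4
  have h6 : p * (ev g (B3 ++ c3) * g 10 * (ev g m)⁻¹) = p * ev g (B3 ++ c3) * (g 10 * (ev g m)⁻¹) := by
    simp only [mul_assoc]
  rw [h6]
  exact h4

end Cfsg.Agent.CoOneType.TopRules
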