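import Cfsg.Agent.CoOneType.TopRules

/-!
# Words of the certificate for the double cosets of `K = 3·Suz:2` in `2 × Co₁`
(generated from `data/co1_type/h957/facts.txt`; letters `s t x X y Y g h f e d` = `0, …, 10`)
-/

set_option autoImplicit false
set_option maxRecDepth 100000

namespace Cfsg.Agent.CoOneType.TopWords

def a0 : List ℕ := [0]
def a1 : List ℕ := [1]
def a2 : List ℕ := [2]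
def a3 : List ℕ := [4]
def a4 : List ℕ := [10]
def a5 : List ℕ := [9]
def a6 : List ℕ := [8]
def a7 : List ℕ := [6]
def a8 : List ℕ := []
def b8 : List ℕ := []
def a9 : List ℕ := [0]
def c9 : List ℕ := [0]
def a10 : List ℕ := [1]
def c10 : List ℕ := [1]
def a11 : List ℕ := [2]
def c11 : List ℕ := [2]
def a12 : List ℕ := [4]
def c12 : List ℕ := [4]
def a13 : List ℕ := [9]
def c13 : List ℕ := [9]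
def a14 : List ℕ := [8]
def c14 : List ℕ := [8]
def a15 : List ℕ := [6]
def c15 : List ℕ := [6]
def a16 : List ℕ := [10]
def b16 : List ℕ := [10]
def m16 : List ℕ := []
def c16_1 : List ℕ := []
def c16_2 : List ℕ := []
def a17 : List ℕ := [0,4,2,8,6,8,7,8,6,9,8,6,7,3,5,8,9,10,9,8,6,4,2,6,8,9,10,7,8,9,6,4,8,7,3,4,7,8,9,10,6,8,9,7,3,5,8,6,7,8,9,10]
def b17 : List ℕ := []
def a18 : List ℕ := [1,6,5,2,8,6,8,7,8,6,9,8,6,7,3,4,8,9,6]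
def c18 : List ℕ := [1,6,5,2,8,6,8,7,8,6,9,8,6,7,3,4,8,9,6]
def a19 : List ℕ := [7,8,6,5,1,6,8,7,9,8,6,4,6,8,9]
def c19 : List ℕ := [7,8,6,5,1,6,8,7,9,8,6,4,6,8,9]
def a20 : List ℕ := [2,4,3,8,6,7,2,4,8,7,2,6,8,9,8,6,7,2,4,8,9,6,8,7,3]
def c20 : List ℕ := [2,4,3,8,6,7,2,4,8,7,2,6,8,9,8,6,7,2,4,8,9,6,8,7,3]
def a21 : List ℕ := [0,3,6,5,6,8,7,3,4,7,8,6,9,8,6,4,7,2,8,9,7,8,6,5,2]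
def c21 : List ℕ := [0,3,6,5,6,8,7,3,4,7,8,6,9,8,6,4,7,2,8,9,7,8,6,5,2]
def a22 : List ℕ := [4,6,7,8,6,5]
def c22 : List ℕ := [4,6,7,8,6,5]
def a23 : List ℕ := [5,1,8,6,7,8,6,9,8,6,4,7,8]
def c23 : List ℕ := [5,1,8,6,7,8,6,9,8,6,4,7,8]
def a24 : List ℕ := [2,0,3,10,9,8,6,7,3,5,8,9,10,6,8,9,7,3,8,6,5,6,8,9,10]
def b24 : List ℕ := []
def a25 : List ℕ := [4,2,7,3,5,6]
def c25 : List ℕ := [4,2,7,3,5,6]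
def a26 : List ℕ := [4,8,7,6,5,8,7,9]
def c26 : List ℕ := [4,8,7,6,5,8,7,9]
def a27 : List ℕ := [0,6,5,2,7,3,5,7,6,8,7]
def c27 : List ℕ := [0,6,5,2,7,3,5,7,6,8,7]
def a28 : List ℕ := [4,3,0,6,5,9,8,6,5]
def c28 : List ℕ := [4,3,0,6,5,9,8,6,5]
def a29 : List ℕ := [0,8,7,3,7,8,6,4,2,7,8,6,5,9,8,6,4,7,8,9,10]
def b29 : List ℕ := [10]
def m29 : List ℕ := []
def c29_1 : List ℕ := []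
def c29_2 : List ℕ := [0,8,7,3,7,8,6,4,2,7,8,6,5,9,8,6,4,7,8,9]
def a30 : List ℕ := [2,5,7,6,4,8,9,10]
def b30 : List ℕ := [2,7,8,9,10]
def m30 : List ℕ := [2,7,8,9]
def c30_1 : List ℕ := [2,7,8,9]
def c30_2 : List ℕ := [2,5,7,6,4,8,9]
def a31 : List ℕ := [2,0,3,10,9,8,6,7,8,9,10]
def b31 : List ℕ := []
def a32 : List ℕ := [0]
def c32 : List ℕ := [0]
def a33 : List ℕ := [1]
def c33 : List ℕ := [1]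
def a34 : List ℕ := [9]
def c34 : List ℕ := [9]
def a35 : List ℕ := [8]
def c35 : List ℕ := [8]
def a36 : List ℕ := [7]
def c36 : List ℕ := [7]
def a37 : List ℕ := [5,6,4]
def c37 : List ℕ := [5,6,4]
def a38 : List ℕ := [1,3,7,2,6]
def c38 : List ℕ := [1,3,7,2,6]
def a39 : List ℕ := [10]
def b39 : List ℕ := [2,0,3,10,9,8,6,7,8,9,10]
def m39 : List ℕ := [2,0,3,10,9,8,6,7,8,9]
def c39_1 : List ℕ := [2,0,3,9,8,6,7,8,9]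
def c39_2 : List ℕ := []
def a40 : List ℕ := [9,10,9]
def c40 : List ℕ := [9]
def a41 : List ℕ := [1,2,4,6,8,7,3,4,9,8,6,4,7,8,9,10]
def b41 : List ℕ := [10]
def m41 : List ℕ := []
def c41_1 : List ℕ := []
def c41_2 : List ℕ := [1,2,4,6,8,7,3,4,9,8,6,4,7,8,9]
def a42 : List ℕ := [0,6,5,3,7,2,4,6,10,9,8,6,4,7,8,9,10]
def b42 : List ℕ := [2,0,3,10,9,8,6,7,8,9,10]
def m42 : List ℕ := [2,0,3,10,9,8,6,7,8,9]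
def c42_1 : List ℕ := [2,0,3,9,8,6,7,8,9]
def c42_2 : List ℕ := [0,6,5,3,7,2,4,6,9,8,6,4,7,8,9]
def a43 : List ℕ := [0,5,8,7,8,6,5,2,8,7,3,9,8,6,7,2,8,10,9,8,6,7,3,5,8,9,10,6,8,9,7,3,8,6,4,6,8,9,10]
def m43 : List ℕ := [1,4,3,1,10,9,8,6,7,2,4,8,9,10,6,8,9]
def c43_1 : List ℕ := [4,6,5,2,7,3,4,8,9]
def c43_2 : List ℕ := [0,5,2,8,7,2,4,8,7,3,9,8,6,4,7,8,9]
def c43_3 : List ℕ := [0,7,6,4,8,7,3,5,7,3,8,7,9,8,6,4,3,6,4,8,9,7,2,8,6,4]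
def a44 : List ℕ := [0,6,5,2,1,7,2,5,8,9,10]
def b44 : List ℕ := [3,5,6,8,9,10]
def m44 : List ℕ := [3,5,6,8,9]
def c44_1 : List ℕ := [3,5,6,8,9]
def c44_2 : List ℕ := [0,6,5,2,1,7,2,5,8,9]
def a45 : List ℕ := [5,10,9,8,6,7,8,9,10]
def b45 : List ℕ := [1,5,10,9,8,6,7,8,9,10]
def m45 : List ℕ := [1,5,10,9,8,6,7,8,9]
def c45_1 : List ℕ := [1,5,9,8,6,7,8,9]
def c45_2 : List ℕ := [5,9,8,6,7,8,9]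
def a46 : List ℕ := [8,6,5,2,6,7,3,5,8,9,8,6,4,2,6,8,9,7,3,8,6,10,9,8,6,4,7,2,8,9,10,7,8,9,6,4,3,8,6,7,8,9,10]
def b46 : List ℕ := [5,6,4,8,6,5,2,6,7,3,8,10,9,8,6,4,7,2,8,9,10,7,8,9,6,4,3,8,6,7,8,9,10]
def m46 : List ℕ := [5,6,4,8,6,5,2,6,7,3,8,10,9,8,6,4,7,2,8,9,10,7,8,9,6,4,3,8,6,7,8,9]
def c46_1 : List ℕ := [0,3,4,6,8,7,2,5,9,8,6,7,8,9]
def c46_2 : List ℕ := [0,7,3,8,6,4,8,6,8,7,2,9,8,6,4,2,6,8,9,7,8,6,4,6]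
def a47 : List ℕ := [0,4,2,8,6,8,7,8,6,9,8,6,7,3,5,8,9,10,9,8,6,4,2,6,8,9,10,7,8,9,6,4,8,7,3,4,7,8,9,10,6,8,9,7,3,5,8,6,7,8,9,10]
def b47 : List ℕ := []
def a48 : List ℕ := [0,5,6,5,7]
def c48 : List ℕ := [0,5,6,5,7]
def a49 : List ℕ := [1,7,8,6,5,6,8,7,9,8,6,4,6,8,9]
def c49 : List ℕ := [1,7,8,6,5,6,8,7,9,8,6,4,6,8,9]
def a50 : List ℕ := [5,6,5,8,7,2,6,4,8,6,9,8,6,4,6,8,9]
def c50 : List ℕ := [5,6,5,8,7,2,6,4,8,6,9,8,6,4,6,8,9]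
def a51 : List ℕ := [4,2,4,8,7,2,4,8,6,7,3,9,8,6,4,2,6,5,8,9,6,4,8,7,3,5]
def c51 : List ℕ := [4,2,4,8,7,2,4,8,6,7,3,9,8,6,4,2,6,5,8,9,6,4,8,7,3,5]
def a52 : List ℕ := [4,6,5,8,6,5,8,7,9,8,6,4,6,8]
def c52 : List ℕ := [4,6,5,8,6,5,8,7,9,8,6,4,6,8]
def a53 : List ℕ := [5,1,6,5,8,6,4,9,8,6,4]
def c53 : List ℕ := [5,1,6,5,8,6,4,9,8,6,4]
def a54 : List ℕ := [2,0,3,10,9,8,6,7,8,9,10]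
def b54 : List ℕ := []
def a55 : List ℕ := [4,8,6,7,8,6,4,7,9,8,6,4,6,8,9]
def c55 : List ℕ := [4,8,6,7,8,6,4,7,9,8,6,4,6,8,9]
def a56 : List ℕ := [6,5,1,8,6,4,8]
def c56 : List ℕ := [6,5,1,8,6,4,8]
def a57 : List ℕ := [6,5,1,8,6,7,8,9,8,6,4,7,8]
def c57 : List ℕ := [6,5,1,8,6,7,8,9,8,6,4,7,8]
def a58 : List ℕ := [1,8,6,8,7,8,6,9,8,6,7,8,9]
def c58 : List ℕ := [1,8,6,8,7,8,6,9,8,6,7,8,9]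
def a59 : List ℕ := [4,8,6,5,8,7,8,6]
def c59 : List ℕ := [4,8,6,5,8,7,8,6]
def a60 : List ℕ := [6,5,1,8,6,4,9,8,6]
def c60 : List ℕ := [6,5,1,8,6,4,9,8,6]
def a61 : List ℕ := [0,7,3,1,8,6,9,8,7,3]
def c61 : List ℕ := [0,7,3,1,8,6,9,8,7,3]
def a62 : List ℕ := [2,8,7,3,5,6,4,8,9,8,6,10]
def b62 : List ℕ := [2,7,8,6,4,2,9,8,6,7,8,9,10,9,8,6,7,8,9,10]
def m62 : List ℕ := [2,7,8,6,4,2,9,8,6,7,8,9,10,9,8,6,7,8,9]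
def c62_1 : List ℕ := [6,5,7,3,8,7,2,7,9,8,6,7,8,9]
def c62_2 : List ℕ := [2,8,7,3,5,6,4,8,9,8,6]
def a63 : List ℕ := [5,6,4,2,8,6,5,9,8,6,4,3,6,5,8,7,10,9,8,6,4,3,6,8,9,10,7,8,6,5,3,6]
def b63 : List ℕ := [7,2,4,3,6,4,3,7,10,9,8,6,4,2,6,8,9,10,7,8,9]
def m63 : List ℕ := [1,4,3,1,10,9,8,6,4,7,2,8,9,10,7,8,9]
def c63_1 : List ℕ := [1,7,3,5,3,6,4,2,8,9]
def c63_2 : List ℕ := [4,7,3,8,6,5,6,8,7,3,5,7,6,9,8,6,4,3,6,8,9,7,8,6,5,3,6]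
def a64 : List ℕ := [8,6,5,2,6,7,3,5,8,7,2,5,9,8,6,7,3,4,8,9,10,9,8,6,4,2,6,4,8,9,7,8,6,4,3]
def c64 : List ℕ := [1,7,3,5,3,6,4,2,8,9,8,7,2,4]
def a65 : List ℕ := [5,8,6,4,8,7,3,5,6,9,8,6,7,3,5,8,10,9,8,6,7,3,5,8,9,10,6,8,7,3]
def b65 : List ℕ := [1,5,10,9,8,6,7,3,5,8,9,10,6,8,9,7,3,8,6,5,6,8,9,10]
def m65 : List ℕ := [1,5,10,9,8,6,7,3,5,8,9,10,6,8,9,7,3,8,6,5,6,8,9]
def c65_1 : List ℕ := [0,3,1,4,6,8,7,3,4,9,8,6,4,7,8,9]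
def c65_2 : List ℕ := [4,2,0,7,2,8,6,5,7,3,8,9,8,6,7,3,5,8,9,6,8,7,3]
def a66 : List ℕ := [5,6,4,2,8,9,8,6,7,8,10,9,8,6,7,3,4,8,9,10,6,8,7]
def b66 : List ℕ := [3,1,5,6,8,7,3,9,8,6,4,2,6,4,8,9,10,9,8,6,4,7,8,9,10]
def m66 : List ℕ := [3,1,5,6,8,7,3,9,8,6,4,2,6,4,8,9,10,9,8,6,4,7,8,9]
def c66_1 : List ℕ := [2,4,1,9,8,6,4,7,8,9]
def c66_2 : List ℕ := [2,7,3,6,4,8,6,5,2,6,8,9,8,6,7,3,4,8,9,6,8,7]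
def a67 : List ℕ := [0,5,2,6,9,8,6,4,2,6,4,8,9,6,10]
def b67 : List ℕ := [3,5,6,8,9,10]
def m67 : List ℕ := [3,5,6,8,9]
def c67_1 : List ℕ := [3,5,6,8,9]
def c67_2 : List ℕ := [0,5,2,6,9,8,6,4,2,6,4,8,9,6]
def a68 : List ℕ := [1,5,3,6,4,2,8,6,4,2,8,6,9,8,6,7,3,5,8,6,10,9,8,6,4,2,6,8,9,10,7,8,9,6,8,7,3,5,2,7,8,9,6,8,7,3]
def m68 : List ℕ := [1,5,6,4,8,9,10,9,8,6,4,7,8,9]
def c68_1 : List ℕ := [1,6,5,8,6,4,3,7,2,9,8,6,4,7,8,9]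
def c68_2 : List ℕ := [1,8,6,5,2,5,6,8,7,3,5,9,8,6,4,7,8,9]
def c68_3 : List ℕ := [3,8,6,5,3,6,8,7,8,6,5,3,9,8,6,4,3,6,4,8,9,7,8,6,4,3]
def a69 : List ℕ := [0,4,7,8,6,5,7,3,7,9,8,6,7,2,4,8,9,10,9,8,6,4,2,6,8,9,10,7,8,9,6,4,8,7,3,4,7,8,9,10,6,8,9,7,3,5,8,6,7,8,9,10]
def c69 : List ℕ := [3,4,3,7,3,8,6,4,2,8,6,4,9,8,6,4,2,6,5,8,9,6,8,7,2,4,8]
def a70 : List ℕ := [0,4,2,8,7,3,6,4]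
def c70 : List ℕ := [0,4,2,8,7,3,6,4]
def a71 : List ℕ := [2,6,8,7,3,5,6,4,7,8,6,9,8,10,9,8,6,7,2,5,8,9,10,6,8,9,7,3,8,6,4,6,8,9,10]
def b71 : List ℕ := [2,0,3,10,9,8,6,7,2,5,8,9,10,6,8,9,7,3,8,6,5,6,8,9,10]
def m71 : List ℕ := [2,0,3,10,9,8,6,7,2,5,8,9,10,6,8,9,7,3,8,6,5,6,8,9]
def c71_1 : List ℕ := [2,5,0,6,8,7,3,4,9,8,6,4,7,8,9]
def c71_2 : List ℕ := [8,6,5,2,6,8,7,2,8,6,4,3,9,8,6,7,2,4,8,9,6]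
def a72 : List ℕ := [0,4,1,2,7,3,8,6,5,6,8,9,8,6,4,3,6,8,9,7,2,10]
def b72 : List ℕ := [5,8,6,4,3,6,8,7,2,9,8,6,4,6,8,9,10,9,8,6,4,2,6,8,9,10,7,8,9,6,4,8,7,2,5,7,8,9,10,6,8,9,7,2,4,8,6,7,8,9,10]
def m72 : List ℕ := [5,8,6,4,3,6,8,7,2,9,8,6,4,6,8,9,10,9,8,6,4,2,6,8,9,10,7,8,9,6,4,8,7,2,5,7,8,9,10,6,8,9,7,2,4,8,6,7,8,9]
def c72_1 : List ℕ := [2,8,7,8,6,4,2,5,8,7,6,4,9,8,6,7,8,9]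
def c72_2 : List ℕ := [0,4,1,2,7,3,8,6,5,6,8,9,8,6,4,3,6,8,9,7,2]
def a73 : List ℕ := [6,5,1,2,8,7,6,8,10,9,8,6,7,2,4,8,9,10,6]
def c73 : List ℕ := [2,7,3,5,8,7,8,6,4,8,6,9,8,6,4,3,6,8,9,7,2]
def a74 : List ℕ := [2,0,3,10,9,8,6,7,2,5,8,9,10,6,8,9,7,3,8,6,5,6,8,9,10]
def b74 : List ℕ := []
def a75 : List ℕ := [1,7,8,6,5,2,5,8,7,8]
def c75 : List ℕ := [1,7,8,6,5,2,5,8,7,8]
def a76 : List ℕ := [1,4,8,7,2,6,9,8,6,4,7,8]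
def c76 : List ℕ := [1,4,8,7,2,6,9,8,6,4,7,8]
def a77 : List ℕ := [4,3,5,6,7,3,8,6,4,2,7,6]
def c77 : List ℕ := [4,3,5,6,7,3,8,6,4,2,7,6]
def a78 : List ℕ := [3,0,6,4,6,8,7,2,5,7,3,9,8,6,4,2,6]
def c78 : List ℕ := [3,0,6,4,6,8,7,2,5,7,3,9,8,6,4,2,6]
def a79 : List ℕ := [0,5,8,6,7,8,6,5,10]
def b79 : List ℕ := [2,8,7,3,6,4,6,5,3,8,6,5,10,9,8,6,4,7,2,8,9,10,7,8,9,6,4,3,8,6,7,8,9,10]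
def m79 : List ℕ := [2,8,7,3,6,4,6,5,3,8,6,5,10,9,8,6,4,7,2,8,9,10,7,8,9,6,4,3,8,6,7,8,9]
def c79_1 : List ℕ := [2,0,4,2,7,3,8,7,2,5,6,9,8,6,7,8,9]
def c79_2 : List ℕ := [0,5,8,6,7,8,6,5]
def a80 : List ℕ := [0,8,7,2,4,3,8,6,5,8,7,9,10,9,8]
def c80 : List ℕ := [4,0,2,8,6,4,8,6,8,9,8,6,5]
def a81 : List ℕ := [2,5,7,6,5,2,4,8,6,5,2,9,8,6,4,3,6,8,9,7,8,6,5,3,10]
def b81 : List ℕ := [2,4,6,8,9,10]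
def m81 : List ℕ := [2,4,6,8,9]
def c81_1 : List ℕ := [2,4,6,8,9]
def c81_2 : List ℕ := [2,5,7,6,5,2,4,8,6,5,2,9,8,6,4,3,6,8,9,7,8,6,5,3]

end Cfsg.Agent.CoOneType.TopWords
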